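import Groth.Prelude.Def_AlgSpDec

/-!
# Points and monomorphic quasi-compact points of algebraic spaces
-/

universe u

open CategoryTheory CategoryTheory.Limits AlgebraicGeometry Opposite AlgSp

noncomputable section

namespace Groth.Agent.AlgSpDecent

variable {S : Scheme.{u}} {F G H P X Y Z : Sp S}

/-- A point of `h_T` composed with a map of schemes. -/
theorem ofPt_map_eq {T T' : Over S} (φ : T ⟶ T') (t : ↥T.left) :
    Points.ofPt ((yon S).map φ) t = Points.ofScheme T' (φ.left t) := by
  rw [← Points.toScheme_ofPt φ t, Points.ofScheme_toScheme]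

theorem ofPt_map_comp {T T' : Over S} (φ : T ⟶ T') (g : (yon S).obj T' ⟶ F) (t : ↥T.left) :
    Points.ofPt ((yon S).map φ ≫ g) t = Points.ofPt g (φ.left t) := by
  rw [← Points.map_ofPt, ofPt_map_eq, ← Points.ofPt_eq_map_ofScheme]

/-- The morphism of a point restricted along a map of spectra. -/
theorem toHom_restrict (p : FieldPt F) {T : Over S} (a : T ⟶ p.pt) :
    (J S).uliftYonedaEquiv.symm (F.obj.map a.op p.val) = (yon S).map a ≫ p.toHom :=
  (GrothendieckTopology.uliftYonedaEquiv_symm_naturality_left _ _ _ _).symm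

/-- Equivalent points agree over a common field. -/
theorem exists_common_of_mk_eq {p q : FieldPt F} (h : Points.mk p = Points.mk q) :
    ∃ (Ω : Type u) (_ : Field Ω) (w : Spec (CommRingCat.of Ω) ⟶ S) (a : Over.mk w ⟶ p.pt)
      (b : Over.mk w ⟶ q.pt), (yon S).map a ≫ p.toHom = (yon S).map b ≫ q.toHom := by
  obtain ⟨Ω, _, w, a, b, hab⟩ := Points.mk_eq_mk_iff.1 h
  exact ⟨Ω, inferInstance, w, a, b, by rw [← toHom_restrict, ← toHom_restrict, hab]⟩

/-- Two points with the same image lift to a point of the fibre product. -/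
theorem exists_point_lift {fst : P ⟶ X} {snd : P ⟶ Z} {f : X ⟶ Y} {g : Z ⟶ Y}
    (sq : IsPullback fst snd f g) (x : Points X) (z : Points Z)
    (h : Points.map f x = Points.map g z) :
    ∃ w : Points P, Points.map fst w = x ∧ Points.map snd w = z := by
  induction x using Points.ind with
  | h p =>
  induction z using Points.ind with
  | h q =>
  rw [Points.map_mk, Points.map_mk] at h
  obtain ⟨Ω, _, w, a, b, hab⟩ := exists_common_of_mk_eq h
  rw [FieldPt.toHom_map, FieldPt.toHom_map] at hab
  change Over.mk w ⟶ p.pt at a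
  change Over.mk w ⟶ q.pt at b
  let l : (yon S).obj (Over.mk w) ⟶ P :=
    sq.lift ((yon S).map a ≫ p.toHom) ((yon S).map b ≫ q.toHom)
      (by simp only [Category.assoc]; exact hab)
  let t : ↥(Over.mk w).left := IsLocalRing.closedPoint Ω
  refine ⟨Points.ofPt l t, ?_, ?_⟩
  · rw [Points.map_ofPt, IsPullback.lift_fst, ofPt_map_comp]
    exact Points.ofPt_toHom p _
  · rw [Points.map_ofPt, IsPullback.lift_snd, ofPt_map_comp]
    exact Points.ofPt_toHom q _

/-- A point lifts along the base change of a morphism through which its image factors. -/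
theorem mem_range_map_fst {fst : P ⟶ X} {snd : P ⟶ Z} {f : X ⟶ Y} {g : Z ⟶ Y}
    (sq : IsPullback fst snd f g) (x : Points X)
    (h : Points.map f x ∈ Set.range (Points.map g)) : x ∈ Set.range (Points.map fst) := by
  obtain ⟨z, hz⟩ := h
  obtain ⟨w, hw, -⟩ := exists_point_lift sq x z hz.symm
  exact ⟨w, hw⟩

/-- The image of a point of `h_{Spec K}` is the point itself. -/
theorem map_toHom_eq (p : FieldPt F) (z : Points ((yon S).obj p.pt)) :
    Points.map p.toHom z = Points.mk p := by
  obtain ⟨t, rfl⟩ := (Points.schemeEquiv p.pt).surjective z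
  change Points.map p.toHom (Points.ofPt (𝟙 _) t) = _
  rw [Points.map_ofPt, Category.id_comp]
  exact Points.ofPt_toHom p t

theorem exists_map_toHom_eq (p : FieldPt F) :
    ∃ z : Points ((yon S).obj p.pt), Points.map p.toHom z = Points.mk p :=
  ⟨Points.ofScheme p.pt (IsLocalRing.closedPoint p.K), map_toHom_eq p _⟩

/-- A morphism out of a one-point scheme is quasi-compact. -/
theorem quasiCompact_of_subsingleton {X Y : Scheme.{u}} (f : X ⟶ Y) [Subsingleton ↥X] :
    QuasiCompact f :=
  ⟨fun _ _ _ => (Set.toFinite _).isCompact⟩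

/-- The point is represented by a monomorphism, quasi-compact from the spectrum of a field. -/
def HasMonoQC (F : Sp S) (x : Points F) : Prop :=
  ∃ p : FieldPt F, Points.mk p = x ∧ Mono p.toHom ∧ RepWith @QuasiCompact p.toHom

theorem HasMonoQC.map {i : F ⟶ G} [Mono i] (hi : RepWith @QuasiCompact i) {x : Points F}
    (h : HasMonoQC F x) : HasMonoQC G (Points.map i x) := by
  obtain ⟨p, rfl, hm, hq⟩ := h
  refine ⟨p.map i, (Points.map_mk i p).symm, ?_, ?_⟩
  · rw [FieldPt.toHom_map]; exact @mono_comp _ _ _ _ _ _ hm _ inferInstance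
  · rw [FieldPt.toHom_map]
    exact (RepWith (S := S) @QuasiCompact).comp_mem _ _ hq hi

/-- Every scheme gives a decent sheaf. -/
theorem isDecent_yon (T : Over S) : IsDecent ((yon S).obj T) := by
  intro x
  obtain ⟨t, rfl⟩ := (Points.schemeEquiv T).surjective x
  refine ⟨FieldPt.ofPt (𝟙 _) t, rfl, ?_, ?_⟩
  · rw [FieldPt.toHom_ofPt, Category.comp_id]
    have : Mono (Over.homMk (U := Over.mk (T.left.fromSpecResidueField t ≫ T.hom)) (V := T)
        (T.left.fromSpecResidueField t) rfl) :=
      (Over.forget S).mono_of_mono_map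
        (inferInstanceAs (Mono (T.left.fromSpecResidueField t)))
    exact @Functor.map_mono _ _ _ _ (yon S) _ _ _ _ this
  · rw [FieldPt.toHom_ofPt, Category.comp_id]
    have : Subsingleton ↥(Spec (T.left.residueField t)) :=
      inferInstanceAs (Subsingleton (PrimeSpectrum (T.left.residueField t)))
    exact (repWith_yon_map_iff _ _).2 (quasiCompact_of_subsingleton (T.left.fromSpecResidueField t))

theorem isDecent_of_iso_yon {T : Over S} (e : (yon S).obj T ≅ F) : IsDecent F :=
  (isDecent_yon T).of_iso e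

/-- Decency of fibre products over a sheaf with representable diagonal. -/
theorem isDecent_of_isPullback (hY : Representable (Limits.diag Y))
    (hX : IsDecent X) (hZ : IsDecent Z) {fst : P ⟶ X} {snd : P ⟶ Z} {f : X ⟶ Y} {g : Z ⟶ Y}
    (sq : IsPullback fst snd f g) : IsDecent P := by
  intro w
  obtain ⟨p, hp, hpm, hpq⟩ := hX (Points.map fst w)
  obtain ⟨q, hq, hqm, hqq⟩ := hZ (Points.map snd w)
  let a := pullback.fst fst p.toHom
  have sq₁ : IsPullback a (pullback.snd fst p.toHom) fst p.toHom := IsPullback.of_hasPullback _ _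
  obtain ⟨w₁, hw₁⟩ := mem_range_map_fst sq₁ w
    (by obtain ⟨z, hz⟩ := exists_map_toHom_eq p; exact ⟨z, hz.trans hp⟩)
  have sq₂ : IsPullback (pullback.fst (a ≫ snd) q.toHom) (pullback.snd (a ≫ snd) q.toHom)
      (a ≫ snd) q.toHom := IsPullback.of_hasPullback _ _
  obtain ⟨w₂, hw₂⟩ := mem_range_map_fst sq₂ w₁
    (by obtain ⟨z, hz⟩ := exists_map_toHom_eq q
        exact ⟨z, by rw [hz, hq, Points.map_comp, hw₁]⟩)
  have ha : Mono a ∧ RepWith @QuasiCompact a :=
    ⟨inferInstance, (RepWith (S := S) @QuasiCompact).of_isPullback sq₁.flip hpq⟩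
  have ha' : Mono (pullback.fst (a ≫ snd) q.toHom) ∧
      RepWith @QuasiCompact (pullback.fst (a ≫ snd) q.toHom) :=
    ⟨inferInstance, (RepWith (S := S) @QuasiCompact).of_isPullback sq₂.flip hqq⟩
  -- `P₁ = h_K ×_Y Z` and `P₂ = h_K ×_Y h_L`
  have e₁ : IsPullback (pullback.snd fst p.toHom) (a ≫ snd) (p.toHom ≫ f) g :=
    sq₁.flip.paste_vert sq
  have e₂ : IsPullback (pullback.fst (a ≫ snd) q.toHom ≫ pullback.snd fst p.toHom)
      (pullback.snd (a ≫ snd) q.toHom) (p.toHom ≫ f) (q.toHom ≫ g) :=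
    sq₂.paste_horiz e₁
  have hrep : Representable (p.toHom ≫ f) := Functor.relativelyRepresentable.of_diag hY _
  obtain ⟨T, s, r, e₃⟩ := hrep (q.toHom ≫ g)
  obtain ⟨r₂, hr₂, hm₂, hq₂⟩ := isDecent_of_iso_yon (e₃.isoIsPullback _ _ e₂) w₂
  have h' : HasMonoQC P (Points.map a (Points.map (pullback.fst (a ≫ snd) q.toHom) w₂)) :=
    HasMonoQC.map (i := a) ha.2 (HasMonoQC.map ha'.2 ⟨r₂, hr₂, hm₂, hq₂⟩)
  rwa [hw₂, hw₁] at h'

end Groth.Agent.AlgSpDecent
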