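import Groth.Agent.Lib.AlgSpDecent.MonoPoint
import Groth.Agent.Lib.AlgSpace.LocP
import Groth.Agent.Lib.AlgSpace.Affine
import Groth.Agent.Lib.AlgSpDecent.Basic
import Groth.Agent.Lib.H12.Dim
import Groth.Agent.Lib.H12.DimZero
import Groth.Prelude.Def_AlgSpDec

/-!
# Dimension of spaces and locally quasi-finite or integral morphisms
-/

universe u

set_option backward.isDefEq.respectTransparency.types false

open CategoryTheory CategoryTheory.Limits AlgebraicGeometry AlgSp Opposite Topology
open Groth.Agent.AlgSpace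

namespace Groth.Agent.AlgSpDecent

theorem eq_of_specializes_of_lqf {A B : Scheme.{u}} (f : A ⟶ B) [LocallyQuasiFinite f] {a a' : A}
    (hs : a ⤳ a') (he : f a = f a') : a = a' := by
  have : DiscreteTopology ↥(f ⁻¹' {f a'}) := (f.isDiscrete_preimage_singleton (f a')).to_subtype
  have hsp : (⟨a, he⟩ : ↥(f ⁻¹' {f a'})) ⤳ ⟨a', rfl⟩ := (subtype_specializes_iff _ _).2 hs
  exact congrArg Subtype.val (specializes_iff_eq.1 hsp)

theorem strictMono_of_lqf {A B : Scheme.{u}} (f : A ⟶ B) [LocallyQuasiFinite f] :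
    StrictMono (f : A → B) := fun a b hab => by
  have hle : b ⤳ a := hab.le
  refine lt_of_le_not_ge (hle.map f.continuous) fun hge => hab.not_ge ?_
  rw [eq_of_specializes_of_lqf f hle (Inseparable.eq ((hle.map f.continuous).antisymm hge))]

theorem coheight_le_of_lqf {A B : Scheme.{u}} (f : A ⟶ B) [LocallyQuasiFinite f] (a : A) :
    Order.coheight a ≤ Order.coheight (f a) :=
  Order.coheight_le_coheight_apply_of_strictMono _ (strictMono_of_lqf f) a

theorem coheight_eq_of_etale {A B : Scheme.{u}} (f : A ⟶ B) [Etale f] (a : A) :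
    Order.coheight a = Order.coheight (f a) := by
  have := locallyQuasiFinite_of_etale f
  refine Order.coheight_eq_of_strictMono (f : A → B) (strictMono_of_lqf f) (fun a b hab => ?_) a
  obtain ⟨a', ha', rfl⟩ := Flat.generalizingMap f (show b ⤳ f a from hab.le)
  exact ⟨a', lt_of_le_not_ge ha' (fun hge => hab.not_ge (Specializes.map hge f.continuous)), rfl⟩

theorem topologicalKrullDim_le_of_lqf {A B : Scheme.{u}} (f : A ⟶ B) [LocallyQuasiFinite f] :
    topologicalKrullDim A ≤ topologicalKrullDim B :=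
  H12.topologicalKrullDim_le_of_eq_of_specializes f f.continuous
    fun _ _ hs he => eq_of_specializes_of_lqf f hs he

variable {S : Scheme.{u}} {F G : Sp S}

/-- The dimension is read on one surjective étale chart. -/
theorem dim_eq_of_chart {V : Over S} {b : (yon S).obj V ⟶ F} (hbe : RepWith @Etale b)
    (hbs : RepWith @Surjective b) : AlgSp.dim F = topologicalKrullDim V.left := by
  refine le_antisymm (iSup₂_le fun U a => iSup_le fun ha => ?_)
    (le_iSup₂_of_le V b (le_iSup_of_le hbe le_rfl))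
  obtain ⟨P, snd, fst, sq⟩ := hbe.1 a
  obtain ⟨fst, rfl⟩ := (yon S).map_surjective fst
  have : Etale snd.left := hbe.2 _ _ _ sq
  have : Surjective snd.left := hbs.2 _ _ _ sq
  have : Etale fst.left := ha.2 _ _ _ sq.flip
  have := locallyQuasiFinite_of_etale fst.left
  exact (H12.topologicalKrullDim_le_of_surjective_of_lift _ snd.left.surjective
    (Or.inr (Flat.generalizingMap _))).trans (topologicalKrullDim_le_of_lqf fst.left)

theorem dim_le_of_lqf (hF : IsAlgSpace F) (hG : IsAlgSpace G) {f : F ⟶ G}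
    (hf : LocP (@LocallyQuasiFinite ⊓ @LocallyOfFiniteType) f) : AlgSp.dim F ≤ AlgSp.dim G := by
  obtain ⟨U, V, a, b, h, hae, has, hbe, hbs, w⟩ := exists_chart_square hF hG f
  have : LocallyQuasiFinite h.left := (hf a b h hae hbe w).1
  rw [dim_eq_of_chart hae has, dim_eq_of_chart hbe hbs]
  exact topologicalKrullDim_le_of_lqf h.left

theorem coheight_le_of_charts {f : F ⟶ G}
    (hf : LocP (@LocallyQuasiFinite ⊓ @LocallyOfFiniteType) f)
    {U V : Over S} {a : (yon S).obj U ⟶ F} {b : (yon S).obj V ⟶ G} (ha : RepWith @Etale a)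
    (hb : RepWith @Etale b) (u : U.left) (v : V.left)
    (h : Points.map f (Points.ofPt a u) = Points.ofPt b v) :
    Order.coheight u ≤ Order.coheight v := by
  obtain ⟨W, i, k, sq⟩ := hb.1 (a ≫ f)
  obtain ⟨k, rfl⟩ := (yon S).map_surjective k
  have : Etale i.left := hb.2 _ _ _ sq
  obtain ⟨w, hw, hw'⟩ := exists_pt_of_isPullback sq (x := Points.ofScheme V v) (t := u)
    (by rw [← Points.ofPt_eq_map_ofScheme, ← Points.map_ofPt]; exact h.symm)
  have hwk : k.left w = v := (Points.schemeEquiv V).injective ((ofPt_map_eq k w).symm.trans hw)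
  have : LocallyQuasiFinite k.left := (hf ((yon S).map i ≫ a) b k
    (repWith_comp ((repWith_yon_map_iff _ i).2 ‹_›) ha) hb (by rw [Category.assoc, sq.w])).1
  rw [← hw', ← coheight_eq_of_etale, ← hwk]
  exact coheight_le_of_lqf _ _

theorem dim_eq_of_isIntegralMor (hF : IsAlgSpace F) (hG : IsAlgSpace G) {f : F ⟶ G}
    (hf : IsIntegralMor f) :
    AlgSp.dim F ≤ AlgSp.dim G ∧ (IsSurjectiveMor f → AlgSp.dim G ≤ AlgSp.dim F) := by
  have hr := isIntegralMor_iff_repWith.1 hf
  obtain ⟨V, b, hbe, hbs⟩ := hG.atlas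
  obtain ⟨W, k, fst, sq⟩ := hr.1 b
  have : IsIntegralHom k.left := hr.2 _ _ _ sq
  have ha : RepWith @Etale fst := repWith_of_isPullback sq.flip hbe
  have has : RepWith @Surjective fst := repWith_of_isPullback sq.flip hbs
  rw [dim_eq_of_chart hbe hbs, dim_eq_of_chart ha has]
  refine ⟨H12.topologicalKrullDim_le_of_eq_of_specializes k.left k.left.continuous
    fun _ _ hs he => H12.eq_of_specializes_of_isIntegralHom k.left hs he, fun hfs => ?_⟩
  refine H12.topologicalKrullDim_le_of_surjective_of_lift k.left (fun v => ?_)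
    (Or.inl k.left.isClosedMap.specializingMap)
  obtain ⟨x, hx⟩ := hfs (Points.ofPt b v)
  obtain ⟨z, -, hz⟩ := exists_point_lift sq x (Points.ofScheme V v)
    (by rw [← Points.ofPt_eq_map_ofScheme]; exact hx)
  obtain ⟨t, rfl⟩ := (Points.schemeEquiv W).surjective z
  change Points.map _ (Points.ofScheme W t) = _ at hz
  rw [← Points.ofPt_eq_map_ofScheme, ofPt_map_eq] at hz
  exact ⟨t, (Points.schemeEquiv V).injective hz⟩

end Groth.Agent.AlgSpDecent
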