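import Groth.Agent.Lib.AlgSpDecent.Sober
import Groth.Agent.Lib.H12.Dim
import Groth.Prelude.Def_Flat
import Groth.Prelude.Def_AlgSpDec

/-!
# Dimension theory of decent spaces
-/

universe u

set_option backward.isDefEq.respectTransparency.types false

open CategoryTheory CategoryTheory.Limits AlgebraicGeometry AlgSp Opposite Topology TopologicalSpace
open Groth.Agent.AlgSpace

namespace Groth.Agent.AlgSpDecent

variable {S : Scheme.{u}} {F : Sp S} {U : Over S}

section

variable (hX : IsAlgSpace F) (h : IsDecent F) {φ : (yon S).obj U ⟶ F} (hφ : RepWith @Etale φ)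

include hX h hφ

theorem eq_of_specializes_of_isDecent {u u' : U.left}
    (he : Points.ofPt φ u' = Points.ofPt φ u) (hs : u' ⤳ u) : u' = u :=
  eq_of_specializes_of_finFibres hφ (finFibres_of_isDecent hX.diag h _) rfl he hs

theorem exists_lift_of_specializes {u : U.left} {x' : Points F} (hs : x' ⤳ Points.ofPt φ u) :
    ∃ u', u' ⤳ u ∧ Points.ofPt φ u' = x' :=
  exists_specializes_lift hφ hs (finFibres_of_isDecent hX.diag h _) rfl

attribute [local instance] specializationPreorder in
/-- The coheight of a point of a decent space is read on any chart. -/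
theorem coheight_ofPt (u : U.left) :
    Order.coheight (Points.ofPt φ u) = Order.coheight u := by
  refine (Order.coheight_eq_of_strictMono (Points.ofPt φ) (fun a b hab => ?_) (fun a b hab => ?_) u).symm
  · refine lt_of_le_not_ge ((show b ⤳ a from hab.le).map (Points.continuous_ofPt φ)) fun hba => ?_
    obtain ⟨a', ha', hφa'⟩ := exists_lift_of_specializes hX h hφ (u := b) (x' := Points.ofPt φ a) hba
    have := eq_of_specializes_of_isDecent hX h hφ hφa' (ha'.trans hab.le)
    exact hab.not_ge (show a ⤳ b from this ▸ ha')
  · obtain ⟨a', ha', rfl⟩ := exists_lift_of_specializes hX h hφ (u := a) (x' := b) hab.le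
    exact ⟨a', lt_of_le_not_ge ha' (fun hle => hab.not_ge (hle.map (Points.continuous_ofPt φ))), rfl⟩

theorem ringKrullDim_stalk_chart (u : U.left) :
    ringKrullDim (U.left.presheaf.stalk u) =
      ((letI := specializationPreorder (Points F); Order.coheight (Points.ofPt φ u)) : WithBot ℕ∞) := by
  rw [ringKrullDim_stalk_eq_coheight, coheight_ofPt hX h hφ]

end

attribute [local instance] specializationPreorder in
theorem hasAt_ringKrullDim_iff (hX : IsAlgSpace F) (h : IsDecent F) (x : Points F) (d : WithBot ℕ∞) :
    HasAt (fun U u => ringKrullDim (U.presheaf.stalk u) = d) F x ↔ (Order.coheight x : WithBot ℕ∞) = d := by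
  constructor
  · rintro ⟨U, a, u, ha, rfl, hd⟩
    rw [← hd, ringKrullDim_stalk_chart hX h ha]
  · intro hd
    obtain ⟨U, φ, -, hφ, u, rfl⟩ := exists_affine_chart_at hX x
    exact ⟨U, φ, u, hφ, rfl, (ringKrullDim_stalk_chart hX h hφ u).trans hd⟩

attribute [local instance] specializationPreorder in
/-- The irreducible closed subsets are ordered as their generic points. -/
theorem coheight_irreducibleCloseds [T0Space (Points F)] [QuasiSober (Points F)]
    (T : IrreducibleCloseds (Points F)) (ξ : Points F) (hξ : IsGenericPoint ξ (T : Set (Points F))) :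
    Order.coheight T = Order.coheight ξ := by
  have hT : ξ = irreducibleSetEquivPoints T :=
    hξ.eq (by
      have := T.isIrreducible.isGenericPoint_genericPoint
      exact this T.isClosed)
  rw [hT]
  exact (@Order.coheight_orderIso _ _ _ (specializationOrder (Points F)).toPreorder irreducibleSetEquivPoints T).symm

attribute [local instance] specializationPreorder in
theorem isGenericPoint_component_iff [T0Space (Points F)] [QuasiSober (Points F)] (x : Points F) :
    (∃ T ∈ irreducibleComponents (Points F), IsGenericPoint x T) ↔ Order.coheight x = 0 := by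
  rw [Order.coheight_eq_zero]
  constructor
  · rintro ⟨T, hT, hx⟩ y hy
    have h1 : closure ({x} : Set (Points F)) ⊆ closure {y} :=
      closure_minimal (Set.singleton_subset_iff.2 (specializes_iff_mem_closure.1 hy)) isClosed_closure
    have h2 := hT.2 (isIrreducible_singleton.closure) (hx.def ▸ h1)
    rw [← hx.def] at h2
    exact specializes_iff_mem_closure.2 (h2 (subset_closure rfl))
  · intro hx
    refine ⟨closure {x}, ⟨isIrreducible_singleton.closure, fun T' hT' hsub => ?_⟩, rfl⟩
    obtain ⟨y, hy⟩ := QuasiSober.sober hT'.closure isClosed_closure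
    have hyx : y ⤳ x := hy.specializes (subset_closure (hsub (subset_closure rfl)))
    have hxy : x ⤳ y := hx hyx
    exact (subset_closure.trans hy.def.ge).trans (closure_minimal
      (Set.singleton_subset_iff.2 (specializes_iff_mem_closure.1 hxy)) isClosed_closure)

/-- A chart surjecting onto a subset has the dimension of that subset. -/
theorem topologicalKrullDim_image (hX : IsAlgSpace F) (h : IsDecent F) {φ : (yon S).obj U ⟶ F}
    (hφ : RepWith @Etale φ) (O : Opens U.left) :
    topologicalKrullDim (O : Set U.left) = topologicalKrullDim (Points.ofPt φ '' O) := by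
  have := t0Space_of_finFibres hX (finFibres_of_isDecent hX.diag h)
  have := quasiSober_of_isDecent hX h
  have hO : IsOpen (Points.ofPt φ '' (O : Set U.left)) := isOpenMap_ofPt φ hφ _ O.isOpen
  have : QuasiSober (Points.ofPt φ '' (O : Set U.left)) := hO.isOpenEmbedding_subtypeVal.quasiSober
  have : QuasiSober (O : Set U.left) := O.isOpen.isOpenEmbedding_subtypeVal.quasiSober
  let f : ↥(O : Set U.left) → ↥(Points.ofPt φ '' (O : Set U.left)) :=
    fun u => ⟨Points.ofPt φ u.1, u.1, u.2, rfl⟩
  refine le_antisymm (H12.topologicalKrullDim_le_of_eq_of_specializes f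
    (((Points.continuous_ofPt φ).comp continuous_subtype_val).subtype_mk _) fun a b hab he => ?_)
    (H12.topologicalKrullDim_le_of_surjective_of_lift f (fun ⟨y, u, hu, e⟩ => ⟨⟨u, hu⟩, Subtype.ext e⟩)
      (Or.inr fun a b hb => ?_))
  · exact Subtype.ext (eq_of_specializes_of_isDecent hX h hφ (congrArg Subtype.val he)
      ((subtype_specializes_iff _ _).1 hab))
  · obtain ⟨u', hu', hu''⟩ := exists_lift_of_specializes hX h hφ (u := a.1) (x' := b.1)
      ((subtype_specializes_iff _ _).1 hb)
    exact ⟨⟨u', hu'.mem_open O.isOpen a.2⟩, (subtype_specializes_iff _ _).2 hu', Subtype.ext hu''⟩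

theorem topologicalKrullDim_points (hX : IsAlgSpace F) (h : IsDecent F) :
    topologicalKrullDim (Points F) = AlgSp.dim F := by
  refine le_antisymm ?_ (iSup₂_le fun U a => iSup_le fun ha => ?_)
  · obtain ⟨A, q, hqe, hqs⟩ := hX.atlas
    refine le_trans ?_ (le_iSup₂_of_le A q (le_iSup_of_le hqe le_rfl))
    rw [show topologicalKrullDim (Points F) = topologicalKrullDim (Points.ofPt q '' (⊤ : Opens A.left)) from ?_]
    · rw [← topologicalKrullDim_image hX h hqe ⊤]
      exact (IsHomeomorph.topologicalKrullDim_eq _ (Homeomorph.Set.univ A.left).isHomeomorph).le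
    · rw [Opens.coe_top, Set.image_univ, (surjective_ofPt hqs).range_eq]
      exact (IsHomeomorph.topologicalKrullDim_eq _ (Homeomorph.Set.univ (Points F)).isHomeomorph).symm
  · rw [← (IsHomeomorph.topologicalKrullDim_eq _ (Homeomorph.Set.univ U.left).isHomeomorph)]
    refine (topologicalKrullDim_image hX h ha ⊤).le.trans ?_
    exact IsInducing.subtypeVal.topologicalKrullDim_le

theorem localDim_ofPt (hX : IsAlgSpace F) (h : IsDecent F) {φ : (yon S).obj U ⟶ F}
    (hφ : RepWith @Etale φ) (u : U.left) :
    FlatMor.localDim U.left u = FlatMor.localDim (Points F) (Points.ofPt φ u) := by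
  refine le_antisymm (le_iInf fun V => ?_) (le_iInf fun O => ?_)
  · refine (iInf_le _ ⟨⟨_, V.1.isOpen.preimage (Points.continuous_ofPt φ)⟩, V.2⟩).trans ?_
    refine (topologicalKrullDim_image hX h hφ _).le.trans ?_
    exact (IsEmbedding.inclusion (Set.image_preimage_subset _ _)).isInducing.topologicalKrullDim_le
  · exact (iInf_le _ ⟨⟨_, isOpenMap_ofPt φ hφ _ O.1.isOpen⟩, u, O.2, rfl⟩).trans
      (topologicalKrullDim_image hX h hφ O.1).ge

end Groth.Agent.AlgSpDecent
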