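import Groth.Agent.Lib.AlgSpDecent.MonoPointApps
import Mathlib.AlgebraicGeometry.Morphisms.UniversallyOpen
import Mathlib.RingTheory.RingHom.Etale
import Mathlib.RingTheory.Unramified.Field

/-!
# Fibres over quasi-compact monomorphic points
-/

universe u

set_option backward.isDefEq.respectTransparency.types false

open CategoryTheory CategoryTheory.Limits AlgebraicGeometry AlgSp Opposite Topology
open Groth.Agent.AlgSpace

namespace Groth.Agent.AlgSpDecent

/-- A monomorphism from a one point scheme étale over a field is a preimmersion. -/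
theorem isPreimmersion_of_subsingleton {K : Type u} [Field K] {T B : Scheme.{u}}
    (c : T ⟶ Spec (CommRingCat.of K)) [Etale c] [Subsingleton T] (z : T ⟶ B) [Mono z] :
    IsPreimmersion z := by
  rcases isEmpty_or_nonempty T with hT | ⟨⟨t⟩⟩
  · exact inferInstance
  have : Finite T := Finite.of_subsingleton
  have : CompactSpace T := Finite.compactSpace
  have : IsFinite c := isFinite_of_etale_field c
  have : IsAffine T := isAffine_of_isAffineHom c
  obtain ⟨A, _, _, e, he⟩ := exists_spec_form c
  have hetale : Etale (Spec.map (CommRingCat.ofHom (algebraMap K A))) :=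
    (MorphismProperty.cancel_left_of_respectsIso @Etale e.hom _).1 (he ▸ ‹Etale c›)
  rw [HasRingHomProperty.Spec_iff (P := @Etale), CommRingCat.hom_ofHom, RingHom.etale_algebraMap] at hetale
  have hfin : IsFinite (Spec.map (CommRingCat.ofHom (algebraMap K A))) :=
    (MorphismProperty.cancel_left_of_respectsIso @IsFinite e.hom _).1 (he ▸ ‹IsFinite c›)
  rw [IsFinite.SpecMap_iff, CommRingCat.hom_ofHom, RingHom.finite_algebraMap] at hfin
  have : IsArtinianRing A := IsArtinianRing.of_finite K A
  have : IsReduced A := Algebra.FormallyUnramified.isReduced_of_field K A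
  have : Subsingleton (PrimeSpectrum A) := e.hom.homeomorph.symm.injective.subsingleton
  have : Nonempty (PrimeSpectrum A) := ⟨e.hom t⟩
  have : Nontrivial A := (Classical.arbitrary (PrimeSpectrum A)).nontrivial
  have : IsLocalRing A := .of_unique_max_ideal
    ⟨(Classical.arbitrary (PrimeSpectrum A)).asIdeal, inferInstance, fun I hI =>
      congrArg PrimeSpectrum.asIdeal (Subsingleton.elim (⟨I, hI.isPrime⟩ : PrimeSpectrum A) _)⟩
  let : Field A := (IsArtinianRing.isField_of_isReduced_of_isLocalRing A).toField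
  let g : Spec (CommRingCat.of A) ⟶ B := e.inv ≫ z
  have : Mono g := mono_comp _ _
  suffices IsPreimmersion g by
    have := IsPreimmersion.comp e.hom g
    simpa [g] using this
  obtain ⟨⟨x, φ⟩, hφ⟩ := (Scheme.SpecToEquivOfField A B).symm.surjective g
  rw [← hφ]
  change IsPreimmersion (Spec.map φ ≫ B.fromSpecResidueField x)
  have hm : Mono (Spec.map φ ≫ B.fromSpecResidueField x) := by
    change Mono ((Scheme.SpecToEquivOfField A B).symm ⟨x, φ⟩)
    rw [hφ]; infer_instance
  have : Mono (Spec.map φ) := mono_of_mono _ (B.fromSpecResidueField x)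
  have : Nonempty ↥(Spec (CommRingCat.of A)) := ⟨e.hom t⟩
  have : IsIso (Spec.map φ) := isIso_of_mono_field (K := B.residueField x) (Spec.map φ)
  infer_instance

/-- A finite set of points meeting every étale relation has no specializations. -/
theorem eq_of_specializes_of_relation {B R : Scheme.{u}} (s t : R ⟶ B) [Etale s] [Etale t]
    {Sset : Set B} (hfin : Sset.Finite)
    (hrel : ∀ b ∈ Sset, ∀ b' ∈ Sset, ∃ r, t r = b ∧ s r = b')
    (hclosed : ∀ r, t r ∈ Sset → s r ∈ Sset)
    {a b : B} (ha : a ∈ Sset) (hb : b ∈ Sset) (hab : a ⤳ b) : a = b := by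
  by_contra hne
  have step : ∀ d ∈ Sset, ∃ d' ∈ Sset, d' ⤳ d ∧ d' ≠ d := by
    intro d hd
    obtain ⟨r, hrb, hrd⟩ := hrel b hb d hd
    obtain ⟨r', hr', hr'a⟩ := Flat.generalizingMap t (show a ⤳ t r from hrb.symm ▸ hab)
    refine ⟨s r', hclosed r' (hr'a.symm ▸ ha), hrd ▸ hr'.map s.continuous, fun h => ?_⟩
    have : LocallyQuasiFinite s := locallyQuasiFinite_of_etale s
    have hdisc := s.isDiscrete_preimage_singleton d
    have : DiscreteTopology ↥(s ⁻¹' {d}) := hdisc.to_subtype
    have hsp : (⟨r', h⟩ : ↥(s ⁻¹' {d})) ⤳ ⟨r, hrd⟩ := (subtype_specializes_iff _ _).2 hr'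
    have : r' = r := congrArg Subtype.val (specializes_iff_eq.1 hsp)
    exact hne (by rw [← hr'a, this, hrb])
  -- an infinite ascending chain in a finite set
  choose g hg hgs hgne using step
  let chain : ℕ → {x // x ∈ Sset} := fun n => n.rec ⟨a, ha⟩ fun _ d => ⟨g d.1 d.2, hg d.1 d.2⟩
  have hmono : ∀ i k, (chain (i + k)).1 ⤳ (chain i).1 := by
    intro i k
    induction k with
    | zero => exact specializes_rfl
    | succ k ih => exact (hgs _ _).trans ih
  have : Finite {x // x ∈ Sset} := hfin.to_subtype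
  obtain ⟨i, j, hij, heq⟩ := Finite.exists_ne_map_eq_of_infinite chain
  wlog hlt : i < j generalizing i j
  · exact this j i hij.symm heq.symm (lt_of_le_of_ne (not_lt.1 hlt) hij.symm)
  obtain ⟨k, rfl⟩ := Nat.exists_eq_add_of_lt hlt
  have h1 : (chain (i + k + 1)).1 ⤳ (chain (i + 1)).1 := by
    rw [show i + k + 1 = i + 1 + k by ring]; exact hmono (i + 1) k
  rw [← heq] at h1
  exact hgne _ (chain i).2 ((hgs _ _).antisymm h1).eq

variable {S : Scheme.{u}} {F : Sp S} {U : Over S}

/-- The fibre of an étale chart over a quasi-compact monomorphic point is preimmersed. -/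
theorem isPreimmersion_fibre (hd : Representable (Limits.diag F)) {p : FieldPt F} [Mono p.toHom]
    (hq : RepWith @QuasiCompact p.toHom) {φ : (yon S).obj U ⟶ F} (hφ : RepWith @Etale φ)
    {T : Over S} {c : T ⟶ p.pt} {a : T ⟶ U}
    (sqT : IsPullback ((yon S).map c) ((yon S).map a) p.toHom φ) : IsPreimmersion a.left := by
  have hinj := injective_of_mono_point sqT
  have : Mono ((yon S).map a) := sqT.mono_snd_of_mono
  have := mono_left a
  have : Etale c.left := hφ.2 _ _ _ sqT.flip
  have : QuasiCompact a.left := hq.2 _ _ _ sqT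
  obtain ⟨R, s, fst, sqR⟩ := hφ.1 φ
  obtain ⟨t, rfl⟩ := (yon S).map_surjective fst
  have : Etale s.left := hφ.2 φ _ _ sqR
  have : Etale t.left := hφ.2 φ _ _ sqR.flip
  have hrange := preimage_mk_eq_range sqT
  have hS : ∀ {b : U.left}, b ∈ Set.range a.left ↔ Points.ofPt φ b = Points.mk p :=
    fun {b} => (Set.ext_iff.1 hrange b).symm
  rw [IsZariskiLocalAtTarget.iff_of_iSup_eq_top (P := @IsPreimmersion)
    (fun V : U.left.affineOpens => V.1) (iSup_affineOpens_eq_top U.left)]
  rintro ⟨V, hV⟩
  let V' : Over S := Over.mk (V.ι ≫ U.hom)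
  let P : Set U.left := Set.range a.left ∩ V
  have hcomp : IsCompact (a.left ⁻¹' (V : Set U.left)) := a.left.isCompact_preimage hV.isCompact
  have : IsLocallyArtinian T.left := by
    have : LocallyQuasiFinite c.left := locallyQuasiFinite_of_etale c.left
    have : IsLocallyArtinian p.pt.left := inferInstanceAs (IsLocallyArtinian (Spec (CommRingCat.of p.K)))
    exact IsLocallyArtinian.of_locallyQuasiFinite c.left
  have hPfin : P.Finite := (hcomp.finite_of_discrete.image a.left).subset (by
    rintro _ ⟨⟨x, rfl⟩, hx⟩; exact ⟨x, hx, rfl⟩)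
  -- restrict the relation to `V`
  let RV : R.left.Opens := (t.left ⁻¹ᵁ V) ⊓ (s.left ⁻¹ᵁ V)
  let sV : RV.toScheme ⟶ V.toScheme := s.left.resLE V RV inf_le_right
  let tV : RV.toScheme ⟶ V.toScheme := t.left.resLE V RV inf_le_left
  have : Etale sV := IsZariskiLocalAtSource.resLE (P := @Etale) _ ‹_›
  have : Etale tV := IsZariskiLocalAtSource.resLE (P := @Etale) _ ‹_›
  have key : ∀ b ∈ P, ∀ b' ∈ P, b ⤳ b' → b = b' := by
    intro b hb b' hb' hsp
    have hsV : ∀ r : RV.toScheme, V.ι (sV r) = s.left r.1 := fun r => by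
      rw [← Scheme.Hom.comp_apply, Scheme.Hom.resLE_comp_ι]; rfl
    have htV : ∀ r : RV.toScheme, V.ι (tV r) = t.left r.1 := fun r => by
      rw [← Scheme.Hom.comp_apply, Scheme.Hom.resLE_comp_ι]; rfl
    have := eq_of_specializes_of_relation sV tV (Sset := V.ι ⁻¹' P)
      (hPfin.preimage V.ι.isOpenEmbedding.injective.injOn) ?_ ?_
      (a := (⟨b, hb.2⟩ : V.toScheme)) (b := ⟨b', hb'.2⟩) hb hb' ((subtype_specializes_iff _ _).2 hsp)
    · exact congrArg Subtype.val this
    · rintro d ⟨hd₁, hd₂⟩ d' ⟨hd'₁, hd'₂⟩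
      obtain ⟨r, hr, hr'⟩ := exists_pt_of_isPullback sqR (x := Points.ofScheme U (V.ι d)) (t := V.ι d')
        (by rw [← Points.ofPt_eq_map_ofScheme, hS.1 hd₁, hS.1 hd'₁])
      have hr : t.left r = V.ι d := (Points.schemeEquiv U).injective ((ofPt_map_eq t r).symm.trans hr)
      have hrV : r ∈ RV := ⟨show t.left r ∈ V from hr ▸ d.2, show s.left r ∈ V from hr' ▸ d'.2⟩
      exact ⟨⟨r, hrV⟩, V.ι.isOpenEmbedding.injective ((htV _).trans hr),
        V.ι.isOpenEmbedding.injective ((hsV _).trans hr')⟩
    · intro r hr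
      rw [Set.mem_preimage, htV] at hr
      rw [Set.mem_preimage, hsV]
      refine ⟨hS.2 ?_, r.2.2⟩
      rw [← ofPt_map_comp, ← sqR.w, ofPt_map_comp]
      exact hS.1 hr.1
  have hdisc : DiscreteTopology P := by
    have : Finite P := hPfin.to_subtype
    have : T1Space P := t1Space_iff_specializes_imp_eq.2 fun x y h =>
      Subtype.ext (key x.1 x.2 y.1 y.2 ((subtype_specializes_iff _ _).1 h))
    infer_instance
  have : Mono (a.left ∣_ V) := MorphismProperty.of_isPullback (P := MorphismProperty.monomorphisms Scheme)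
    (isPullback_morphismRestrict a.left V).flip (show Mono a.left from inferInstance)
  have hemb : IsEmbedding (a.left ∣_ V) := by
    have hd' : DiscreteTopology (a.left ⁻¹ᵁ V).toScheme := inferInstance
    let h : (a.left ⁻¹ᵁ V).toScheme → P := fun x => ⟨a.left x.1, ⟨x.1, rfl⟩, x.2⟩
    have hh : IsEmbedding h :=
      (IsOpenEmbedding.of_continuous_injective_isOpenMap continuous_of_discreteTopology
        (fun x y e => Subtype.ext (hinj (congrArg Subtype.val e))) (fun _ _ => isOpen_discrete _)).isEmbedding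
    refine IsEmbedding.of_comp (a.left ∣_ V).continuous V.ι.continuous ?_
    have : V.ι ∘ (a.left ∣_ V) = Subtype.val ∘ h := funext fun x => by
      rw [Function.comp_apply, ← Scheme.Hom.comp_apply, morphismRestrict_ι]; rfl
    rw [this]
    exact IsEmbedding.subtypeVal.comp hh
  refine (isPreimmersion_iff _).2 ⟨⟨fun x => ?_⟩, hemb⟩
  · let O : (a.left ⁻¹ᵁ V).toScheme.Opens := ⟨{x}, isOpen_discrete _⟩
    have : Subsingleton O := ⟨fun u v => Subtype.ext ((show u.1 = x from u.2).trans (show v.1 = x from v.2).symm)⟩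
    let c' := O.ι ≫ (a.left ⁻¹ᵁ V).ι ≫ c.left
    have : Etale c' := inferInstance
    have hpre := isPreimmersion_of_subsingleton (K := p.K) c' (O.ι ≫ (a.left ∣_ V))
    have := hpre.stalkMap_surjective (⟨x, rfl⟩ : O.toScheme)
    rw [Scheme.Hom.stalkMap_comp] at this
    exact fun y => by
      obtain ⟨w, hw⟩ := this (O.ι.stalkMap ⟨x, rfl⟩ y)
      exact ⟨w, (ConcreteCategory.bijective_of_isIso (O.ι.stalkMap ⟨x, rfl⟩)).injective hw⟩

end Groth.Agent.AlgSpDecent
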