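import Groth.Agent.Lib.AlgSpDecent.Basic2
import Groth.Agent.Lib.AlgSpDecent.MonoEmb
import Groth.Agent.Lib.AlgSpace.MorDiag
import Groth.Agent.Lib.FpqcDesc.Basic
import Mathlib.AlgebraicGeometry.Morphisms.Integral
import Mathlib.AlgebraicGeometry.Morphisms.FlatMono

/-!
# Field valued points and closed points of decent spaces
-/

universe u

set_option backward.isDefEq.respectTransparency.types false

open CategoryTheory CategoryTheory.Limits AlgebraicGeometry AlgSp Topology Opposite
open Groth.Agent.AlgSpace

namespace Groth.Agent.AlgSpDecent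

variable {S : Scheme.{u}} {F : Sp S}

/-- A field valued point factors through a quasi-compact monomorphic one at the same point. -/
theorem exists_factor_mono_point {k : Type u} [Field k]
    {str : Spec (CommRingCat.of k) ⟶ S} (g : (yon S).obj (Over.mk str) ⟶ F) (q : FieldPt F)
    [Mono q.toHom] (hq : RepWith @QuasiCompact q.toHom)
    (he : Points.mk q = Points.ofPt g (IsLocalRing.closedPoint k)) :
    ∃ m : Over.mk str ⟶ q.pt, (yon S).map m ≫ q.toHom = g := by
  obtain ⟨W, snd, fst, sq⟩ := hq.1 g
  obtain ⟨f, rfl⟩ := (yon S).map_surjective fst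
  have : Mono ((yon S).map snd) := sq.mono_snd_of_mono
  have := mono_left snd
  have : QuasiCompact snd.left := hq.2 g _ _ sq
  obtain ⟨z, -, hz⟩ := exists_pt_of_isPullback sq
    (x := Points.ofScheme q.pt (IsLocalRing.closedPoint q.K)) (t := IsLocalRing.closedPoint k)
    (by rw [← Points.ofPt_eq_map_ofScheme, Points.ofPt_toHom]; exact he)
  have : Nonempty W.left := ⟨z⟩
  have : Flat snd.left := (flat_fieldTest (K := k) snd.left).1
  have : Surjective snd.left := (flat_fieldTest (K := k) snd.left).2
  have : IsIso snd.left := Flat.isIso_of_surjective_of_mono snd.left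
  have : IsIso ((Over.forget S).map snd) := ‹_›
  have : IsIso snd := isIso_of_reflects_iso snd (Over.forget S)
  refine ⟨inv snd ≫ f, ?_⟩
  rw [Functor.map_comp, Category.assoc, sq.w, ← Functor.map_comp_assoc, IsIso.inv_hom_id]
  erw [(yon S).map_id]
  rw [Category.id_comp]

/-- The fibres of affine etale charts over field valued points of decent spaces are finite. -/
theorem isFinite_snd_point (h : IsDecent F) {k : Type u} [Field k]
    {str : Spec (CommRingCat.of k) ⟶ S} (g : (yon S).obj (Over.mk str) ⟶ F) {U T : Over S}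
    [IsAffine U.left] {φ : (yon S).obj U ⟶ F} (hφ : RepWith @Etale φ) {a : T ⟶ U} {c : T ⟶ Over.mk str}
    (sq : IsPullback ((yon S).map a) ((yon S).map c) φ g) : IsFinite c.left := by
  obtain ⟨q, hq, hm, hqc⟩ := h (Points.ofPt g (IsLocalRing.closedPoint k))
  obtain ⟨m, hmg⟩ := exists_factor_mono_point g q hqc hq
  obtain ⟨Tq, cq, fst, sqq⟩ := hφ.1 q.toHom
  obtain ⟨aq, rfl⟩ := (yon S).map_surjective fst
  have : QuasiCompact aq.left := hqc.2 _ _ _ sqq.flip
  have : CompactSpace Tq.left := QuasiCompact.compactSpace_of_compactSpace aq.left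
  have : Etale cq.left := hφ.2 _ _ _ sqq
  have : IsFinite cq.left := isFinite_of_etale_field (K := q.K) cq.left
  subst hmg
  have sb := (IsPullback.of_hasPullback cq m)
  have b := (sb.map (yon S)).paste_horiz sqq
  obtain ⟨ρ, hρ⟩ := (yon S).map_surjective (sq.isoIsPullback _ _ b).hom
  have hρc : ρ ≫ pullback.snd cq m = c :=
    (yon S).map_injective (by rw [Functor.map_comp, hρ]; exact IsPullback.isoIsPullback_hom_snd ..)
  have : IsIso ((yon S).map ρ) := hρ ▸ inferInstance
  have : IsIso ρ := isIso_of_reflects_iso ρ (yon S)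
  have : IsIso ρ.left := inferInstanceAs (IsIso ((Over.forget S).map ρ))
  have : IsFinite (pullback.snd cq m).left :=
    MorphismProperty.of_isPullback (P := @IsFinite) (sb.map (Over.forget S)) ‹_›
  rw [← hρc, Over.comp_left]
  infer_instance

/-- Properties of representable maps are tested on affine pieces of an atlas. -/
theorem repWith_of_affine_charts {G : Sp S} (hX : IsAlgSpace F) {f : G ⟶ F} (hf : Representable f)
    {P : MorphismProperty Scheme.{u}} [P.IsStableUnderBaseChange] [IsZariskiLocalAtTarget P]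
    [P.IsLocalAtTarget Scheme.fppfPrecoverage]
    (h : ∀ {U W : Over S}, IsAffine U.left → ∀ (φ : (yon S).obj U ⟶ F), RepWith @Etale φ →
      ∀ (fst : (yon S).obj W ⟶ G) (snd : W ⟶ U), IsPullback fst ((yon S).map snd) f φ → P snd.left) :
    RepWith P f := by
  obtain ⟨A, p, hpe, hps⟩ := hX.atlas
  have := isLocallySurjective_of_etale hpe hps
  refine repWith_of_locallySurjective hf (hf.isPullback p) P ((repWith_yon_map_iff _ _).2 ?_)
  refine (IsZariskiLocalAtTarget.iff_of_iSup_eq_top (P := P)
    (fun V : A.left.affineOpens => V.1) (iSup_affineOpens_eq_top A.left)).2 ?_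
  rintro ⟨V, hV⟩
  let ι : Over.mk (V.ι ≫ A.hom) ⟶ A := Over.homMk V.ι rfl
  let snd := hf.snd p
  let WV : Over S := Over.mk ((snd.left ⁻¹ᵁ V).ι ≫ (hf.pullback p).hom)
  let j : WV ⟶ hf.pullback p := Over.homMk (snd.left ⁻¹ᵁ V).ι rfl
  let r : WV ⟶ Over.mk (V.ι ≫ A.hom) := Over.homMk (snd.left ∣_ V) (by
    change (snd.left ∣_ V) ≫ V.ι ≫ A.hom = _
    rw [← Category.assoc, morphismRestrict_ι, Category.assoc, Over.w snd]
    rfl)
  have hsq : IsPullback j r snd ι := IsPullback.of_map (Over.forget S)
    (Over.OverMorphism.ext (morphismRestrict_ι snd.left V).symm) (isPullback_morphismRestrict snd.left V).flip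
  exact h (U := Over.mk (V.ι ≫ A.hom)) hV _ (repWith_etale_restrict hpe V) _ r
    ((hsq.map (yon S)).paste_horiz (hf.isPullback p))

section OverClosed

variable (hX : IsAlgSpace F) (h : IsDecent F) {s : ↥S} (hs : IsClosed ({s} : Set ↥S)) {k : Type u}
  [Field k] {φ : S.residueField s ⟶ CommRingCat.of k}
  (p : (yon S).obj (Over.mk (Spec.map φ ≫ S.fromSpecResidueField s)) ⟶ F)

include hs in
theorem isClosedImmersion_fromSpecResidueField : IsClosedImmersion (S.fromSpecResidueField s) :=
  IsClosedImmersion.of_isPreimmersion _ (by rw [Scheme.range_fromSpecResidueField]; exact hs)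

include hX h hs

theorem isFinite_repWith_point (hφ : φ.hom.Finite) : RepWith @IsFinite p := by
  have := FpqcDesc.descendsAlong_isFinite.{u}
  have := isLocalAtTarget_fppf (@IsFinite : MorphismProperty Scheme.{u})
  refine repWith_of_affine_charts hX (Functor.relativelyRepresentable.of_diag hX.diag p)
    fun {U W} hU ψ hψ fst a sq => ?_
  obtain ⟨c, rfl⟩ := (yon S).map_surjective fst
  have : IsFinite c.left := isFinite_snd_point h p hψ sq.flip
  have := isClosedImmersion_fromSpecResidueField hs
  have : IsFinite (Spec.map φ) := (IsFinite.SpecMap_iff _).2 hφ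
  have : IsSeparated U.hom := inferInstance
  have : IsFinite (a.left ≫ U.hom) := by
    rw [Over.w a, ← Over.w c]
    exact inferInstanceAs (IsFinite (c.left ≫ Spec.map φ ≫ S.fromSpecResidueField s))
  exact IsFinite.of_comp a.left U.hom

theorem isClosedImmersion_repWith_point (hφ : Function.Bijective φ.hom) :
    RepWith @IsClosedImmersion p := by
  have hfin := isFinite_repWith_point hX h hs p (RingHom.Finite.of_surjective _ hφ.2)
  refine ⟨hfin.1, fun U W g fst a sq => ?_⟩
  have : IsFinite a.left := hfin.2 g _ _ sq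
  have : IsIso φ := (ConcreteCategory.isIso_iff_bijective φ).2 hφ
  have := isClosedImmersion_fromSpecResidueField hs
  let Pt : Over S := Over.mk (Spec.map φ ≫ S.fromSpecResidueField s)
  have : Mono ((yon S).map a) := by
    have : Mono p := mono_of_yon p fun T x y _ => by
      obtain ⟨x, rfl⟩ := (yon S).map_surjective x
      obtain ⟨y, rfl⟩ := (yon S).map_surjective y
      congr 1
      exact Over.OverMorphism.ext ((cancel_mono (Spec.map φ ≫ S.fromSpecResidueField s)).1
        ((Over.w x).trans (Over.w y).symm))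
    exact sq.mono_snd_of_mono
  have := mono_left a
  exact (IsClosedImmersion.iff_isFinite_and_mono _).2 ⟨‹_›, ‹_›⟩

theorem isClosed_point (hφ : φ.hom.IsIntegral) (t : ↥(Spec (CommRingCat.of k))) :
    IsClosed ({Points.ofPt p t} : Set (Points F)) := by
  obtain ⟨A, q, hqe, hqs⟩ := hX.atlas
  rw [← (isOpenQuotientMap_ofPt hqe hqs).isQuotientMap.isClosed_preimage]
  have hcov : (⨆ V : A.left.affineOpens, V.1) = ⊤ := iSup_affineOpens_eq_top A.left
  rw [(TopologicalSpace.IsOpenCover.mk hcov).isClosed_iff_coe_preimage]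
  rintro ⟨V, hV⟩
  let ι : Over.mk (V.ι ≫ A.hom) ⟶ A := Over.homMk V.ι rfl
  have : IsAffine (Over.mk (V.ι ≫ A.hom)).left := hV
  have hψ := repWith_etale_restrict hqe V
  obtain ⟨W, c, fst, sq⟩ := hψ.1 p
  obtain ⟨a, rfl⟩ := (yon S).map_surjective fst
  have : IsFinite c.left := isFinite_snd_point h p hψ sq
  have := isClosedImmersion_fromSpecResidueField hs
  have : IsIntegralHom (Spec.map φ) := IsIntegralHom.SpecMap_iff.2 hφ
  have : IsIntegralHom (a.left ≫ (Over.mk (V.ι ≫ A.hom)).hom) := by
    rw [Over.w a, ← Over.w c]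
    exact inferInstanceAs (IsIntegralHom (c.left ≫ Spec.map φ ≫ S.fromSpecResidueField s))
  have : IsSeparated (Over.mk (V.ι ≫ A.hom)).hom := inferInstance
  have : IsIntegralHom a.left := IsIntegralHom.of_comp a.left (Over.mk (V.ι ≫ A.hom)).hom
  have e : (fun v : V.toScheme => Points.ofPt q (V.ι v)) ⁻¹' {Points.ofPt p t} =
      Set.range a.left := by
    ext v
    constructor
    · intro hv
      obtain ⟨w, hw, -⟩ := exists_pt_of_isPullback sq
        (x := Points.ofScheme (Over.mk (V.ι ≫ A.hom)) v) (t := t)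
        (by rw [← Points.ofPt_eq_map_ofScheme, ofPt_map_comp]; exact hv)
      rw [ofPt_map_eq] at hw
      exact ⟨w, (Points.schemeEquiv _).injective hw⟩
    · rintro ⟨w, rfl⟩
      change Points.ofPt q (ι.left (a.left w)) = _
      rw [← ofPt_map_comp, ← ofPt_map_comp, sq.w, ofPt_map_comp]
      exact congrArg (Points.ofPt p) (@Subsingleton.elim _ (inferInstanceAs (Subsingleton (PrimeSpectrum k))) _ _)
  change IsClosed ((fun v : V.toScheme => Points.ofPt q (V.ι v)) ⁻¹' {Points.ofPt p t})
  rw [e]
  exact a.left.isClosedMap.isClosed_range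

end OverClosed

/-- A closed point of a decent space is given by a closed immersion from the spectrum of a field. -/
theorem exists_closedImmersion_point (hX : IsAlgSpace F) (h : IsDecent F) {x : Points F}
    (hx : IsClosed ({x} : Set (Points F))) :
    ∃ p : FieldPt F, Points.mk p = x ∧ RepWith @IsClosedImmersion p.toHom := by
  obtain ⟨p, rfl, hm, hqc⟩ := h x
  have := isLocalAtTarget_fppf_isClosedImmersion.{u}
  refine ⟨p, rfl, repWith_of_affine_charts hX hqc.1 fun {U W} hU ψ hψ fst a sq => ?_⟩
  obtain ⟨c, rfl⟩ := (yon S).map_surjective fst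
  have := isPreimmersion_fibre hX.diag hqc hψ sq
  refine IsClosedImmersion.of_isPreimmersion _ ?_
  rw [← preimage_mk_eq_range sq]
  exact hx.preimage (Points.continuous_ofPt ψ)

end Groth.Agent.AlgSpDecent
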