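import Groth.Prelude.Def_AlgSp3
import Groth.Agent.S7547
import Groth.Agent.Lib.AlgSpDecent.ClosedPoints
import Mathlib.AlgebraicGeometry.Morphisms.Finite
import Mathlib.AlgebraicGeometry.Morphisms.FiniteType

/-!
# Jacobson algebraic spaces and finite type points
-/

universe u

set_option backward.isDefEq.respectTransparency.types false

open CategoryTheory CategoryTheory.Limits AlgebraicGeometry Opposite MorphismProperty Topology

namespace Groth.Agent.AlgSpDecent

open AlgSp Groth.Agent.AlgSpace

variable {S : Scheme.{u}} {F G : Sp S}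

/-- Jacobson spaces descend along etale surjections. -/
theorem jacobsonSpace_of_etale_surjective {W V : Scheme.{u}} (f : W ⟶ V) [Etale f] [Surjective f]
    [JacobsonSpace W] : JacobsonSpace V := by
  by_contra hV
  obtain ⟨v, hnc, hlc⟩ := Groth.Agent.S7547.result hV
  refine hnc (closure_subset_iff_isClosed.1 fun v₀ hv₀ => ?_)
  obtain ⟨w₀, rfl⟩ := f.surjective v₀
  obtain ⟨w, hw, hwv⟩ := Flat.generalizingMap f (specializes_iff_mem_closure.2 hv₀)
  have : LocallyQuasiFinite f := locallyQuasiFinite_of_etale f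
  have hlcw : IsLocallyClosed ({w} : Set W) := by
    have hdisc : _root_.IsDiscrete (f ⁻¹' {v}) := f.isDiscrete_preimage_singleton v
    have := hdisc.to_subtype
    obtain ⟨O, hO, he⟩ := isOpen_induced_iff.1
      (isOpen_discrete ({(⟨w, hwv⟩ : f ⁻¹' {v})} : Set (f ⁻¹' {v})))
    rw [show ({w} : Set W) = O ∩ f ⁻¹' {v} by
      ext b
      constructor
      · rintro rfl
        exact ⟨(he.symm.subset rfl : (⟨b, hwv⟩ : f ⁻¹' {v}) ∈ Subtype.val ⁻¹' O), hwv⟩
      · rintro ⟨h1, h2⟩
        exact congrArg Subtype.val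
          (he.subset (show (⟨b, h2⟩ : f ⁻¹' {v}) ∈ Subtype.val ⁻¹' O from h1))]
    exact hO.isLocallyClosed.inter (hlc.preimage f.continuous)
  have hwc := isClosed_singleton_of_isLocallyClosed_singleton hlcw
  have : w₀ = w := hwc.closure_subset (specializes_iff_mem_closure.1 hw)
  rw [this]
  exact hwv

/-- A locally of finite type map to a Jacobson chart has Jacobson source. -/
theorem jacobson_of_locP_lft {W : Over S} {g : (yon S).obj W ⟶ F} (hg : LocP @LocallyOfFiniteType g)
    (hF : EtaleLocally (fun U => JacobsonSpace ↥U) F) : JacobsonSpace W.left := by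
  obtain ⟨U, p, hpe, hps, hU⟩ := hF
  obtain ⟨T, b, fst, sq⟩ := hpe.1 g
  obtain ⟨a, rfl⟩ := (yon S).map_surjective fst
  have hb : Etale b.left := hpe.2 _ _ _ sq
  have : Surjective b.left := hps.2 _ _ _ sq
  have := hg ((yon S).map b) p a ((repWith_yon_map_iff @Etale b).2 hb) hpe sq.w.symm
  have : JacobsonSpace U.left := hU
  have : JacobsonSpace T.left := LocallyOfFiniteType.jacobsonSpace a.left
  exact jacobsonSpace_of_etale_surjective b.left

/-- Every chart of a Jacobson algebraic space is Jacobson. -/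
theorem jacobson_chart {W : Over S} {a : (yon S).obj W ⟶ F} (ha : RepWith @Etale a)
    (hF : EtaleLocally (fun U => JacobsonSpace ↥U) F) : JacobsonSpace W.left := by
  obtain ⟨U, p, hpe, hps, hU⟩ := hF
  obtain ⟨T, b, fst, sq⟩ := hpe.1 a
  obtain ⟨c, rfl⟩ := (yon S).map_surjective fst
  have hb : Etale b.left := hpe.2 _ _ _ sq
  have : Surjective b.left := hps.2 _ _ _ sq
  have : Etale c.left := ha.2 _ _ _ sq.flip
  have : JacobsonSpace U.left := hU
  have : JacobsonSpace T.left := LocallyOfFiniteType.jacobsonSpace c.left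
  exact jacobsonSpace_of_etale_surjective b.left

/-- Jacobson passes to sources of morphisms locally of finite type. -/
theorem etaleLocally_jacobson_of_locP_lft (hG : IsAlgSpace G) (hF : EtaleLocally (fun U => JacobsonSpace ↥U) F)
    {f : G ⟶ F} (hf : LocP @LocallyOfFiniteType f) : EtaleLocally (fun U => JacobsonSpace ↥U) G := by
  obtain ⟨V, q, hqe, hqs⟩ := hG.atlas
  obtain ⟨U, p, hpe, hps, hU⟩ := hF
  obtain ⟨T, b, fst, sq⟩ := hpe.1 (q ≫ f)
  obtain ⟨a, rfl⟩ := (yon S).map_surjective fst
  have hb : Etale b.left := hpe.2 _ _ _ sq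
  have : Surjective b.left := hps.2 _ _ _ sq
  have := hf ((yon S).map b ≫ q) p a
    ((RepWith (S := S) @Etale).comp_mem _ _ ((repWith_yon_map_iff @Etale b).2 hb) hqe) hpe
    (by rw [Category.assoc, ← sq.w])
  have : JacobsonSpace U.left := hU
  exact ⟨T, (yon S).map b ≫ q,
    (RepWith (S := S) @Etale).comp_mem _ _ ((repWith_yon_map_iff @Etale b).2 hb) hqe,
    (RepWith (S := S) @Surjective).comp_mem _ _
      ((repWith_yon_map_iff @Surjective b).2 ‹Surjective b.left›) hqs,
    LocallyOfFiniteType.jacobsonSpace a.left⟩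

/-- A finite type point has a closed representative in any lft scheme mapping onto it. -/
theorem exists_closed_over_ftPt (hF : EtaleLocally (fun U => JacobsonSpace ↥U) F) {x : Points F}
    (hx : HasAt (fun U u => IsClosed ({u} : Set ↥U)) F x) {W : Over S} {g : (yon S).obj W ⟶ F}
    (hg : LocP @LocallyOfFiniteType g) (hxW : x ∈ Set.range (Points.ofPt g)) :
    ∃ w : ↥W.left, IsClosed ({w} : Set ↥W.left) ∧ Points.ofPt g w = x := by
  obtain ⟨U, p, u, hpe, rfl, hu⟩ := hx
  obtain ⟨w₁, hw₁⟩ := hxW
  have hu : IsClosed ({u} : Set U.left) := hu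
  have := jacobson_chart hpe hF
  have := jacobson_of_locP_lft hg hF
  obtain ⟨T, b, fst, sq⟩ := hpe.1 g
  obtain ⟨a, rfl⟩ := (yon S).map_surjective fst
  have hb : Etale b.left := hpe.2 _ _ _ sq
  have := hg ((yon S).map b) p a ((repWith_yon_map_iff @Etale b).2 hb) hpe sq.w.symm
  have : JacobsonSpace T.left := LocallyOfFiniteType.jacobsonSpace a.left
  have hne : (a.left ⁻¹' {u}).Nonempty := by
    obtain ⟨v, hv, hv'⟩ := exists_pt_of_isPullback sq (x := Points.ofScheme U u) (t := w₁)
      (by rw [← Points.ofPt_eq_map_ofScheme, hw₁])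
    exact ⟨v, (Points.schemeEquiv U).injective ((ofPt_map_eq a v).symm.trans hv)⟩
  obtain ⟨t, ht, htc⟩ := nonempty_inter_closedPoints hne
    (hu.preimage a.left.continuous).isLocallyClosed
  refine ⟨b.left t, b.left.closePoints_subset_preimage_closedPoints htc, ?_⟩
  rw [← ofPt_map_comp b g t, ← sq.w, ofPt_map_comp]
  exact congrArg (Points.ofPt p) ht

/-- Representable etale morphisms from schemes are locally of finite type. -/
theorem locP_lft_of_repWith_etale {W : Over S} {a : (yon S).obj W ⟶ F} (ha : RepWith @Etale a) :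
    LocP @LocallyOfFiniteType a := by
  intro U V c b h hc hb e
  obtain ⟨T, t, fst, sq⟩ := ha.1 b
  obtain ⟨s, rfl⟩ := (yon S).map_surjective fst
  obtain ⟨c, rfl⟩ := (yon S).map_surjective c
  have : Etale c.left := (repWith_yon_map_iff @Etale c).1 hc
  obtain ⟨l, hl⟩ := (yon S).map_surjective (sq.lift ((yon S).map c) ((yon S).map h) e)
  have : Etale s.left := hb.2 _ _ _ sq.flip
  have : Etale t.left := ha.2 _ _ _ sq
  have hls : l ≫ s = c := (yon S).map_injective (by rw [Functor.map_comp, hl, IsPullback.lift_fst])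
  have hlt : l ≫ t = h := (yon S).map_injective (by rw [Functor.map_comp, hl, IsPullback.lift_snd])
  rw [← hlt, Over.comp_left]
  have : LocallyOfFiniteType (l.left ≫ s.left) := by rw [← Over.comp_left, hls]; infer_instance
  have : LocallyOfFiniteType l.left := locallyOfFiniteType_of_comp l.left s.left
  infer_instance

/-- For a decent space with a Jacobson atlas, finite type points are exactly the closed points. -/
theorem ftPt_iff_isClosed (hFs : IsAlgSpace F) (hd : IsDecent F)
    (hF : EtaleLocally (fun U => JacobsonSpace ↥U) F) (x : Points F) :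
    HasAt (fun U u => IsClosed ({u} : Set ↥U)) F x ↔ IsClosed ({x} : Set (Points F)) := by
  refine ⟨fun hx => ?_, fun hx => ?_⟩
  · obtain ⟨V, q, hqe, hqs⟩ := hFs.atlas
    rw [← (isOpenQuotientMap_ofPt hqe hqs).isQuotientMap.isClosed_preimage]
    refine closure_subset_iff_isClosed.1 fun v hv => ?_
    obtain ⟨O, hO, hvO, -⟩ :=
      exists_isAffineOpen_mem_and_subset (X := V.left) (x := v) (U := ⊤) trivial
    let o : Over.mk (O.ι ≫ V.hom) ⟶ V := Over.homMk O.ι rfl
    have hψ : RepWith @Etale ((yon S).map o ≫ q) := repWith_etale_restrict hqe O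
    have hfin := finFibres_of_isDecent hFs.diag hd x _ _ (show IsAffine (Over.mk (O.ι ≫ V.hom)).left from hO) hψ
    have hc : IsClosed (Points.ofPt ((yon S).map o ≫ q) ⁻¹' {x}) := by
      rw [← Set.biUnion_of_singleton (Points.ofPt ((yon S).map o ≫ q) ⁻¹' {x})]
      refine hfin.isClosed_biUnion fun z hz => ?_
      obtain ⟨w, hw, hwx⟩ := exists_closed_over_ftPt hF hx (locP_lft_of_repWith_etale hψ) ⟨z, hz⟩
      obtain ⟨R, s, t, hs, ht, hrel, hcl⟩ := exists_chart_relation hψ
      obtain ⟨r, hr, hr'⟩ := hrel w z (hwx.trans hz.symm)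
      have := jacobson_chart hψ hF
      have : JacobsonSpace R.left := LocallyOfFiniteType.jacobsonSpace t.left
      have hrc : IsLocallyClosed ({r} : Set R.left) := by
        have hdisc : _root_.IsDiscrete (t.left ⁻¹' {w}) :=
          have := locallyQuasiFinite_of_etale t.left
          t.left.isDiscrete_preimage_singleton w
        have := hdisc.to_subtype
        obtain ⟨O, hO, he⟩ := isOpen_induced_iff.1
          (isOpen_discrete ({(⟨r, hr⟩ : t.left ⁻¹' {w})} : Set (t.left ⁻¹' {w})))
        rw [show ({r} : Set R.left) = O ∩ t.left ⁻¹' {w} by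
          ext b
          constructor
          · rintro rfl
            exact ⟨(he.symm.subset rfl : (⟨b, hr⟩ : t.left ⁻¹' {w}) ∈ Subtype.val ⁻¹' O), hr⟩
          · rintro ⟨h1, h2⟩
            exact congrArg Subtype.val
              (he.subset (show (⟨b, h2⟩ : t.left ⁻¹' {w}) ∈ Subtype.val ⁻¹' O from h1))]
        exact hO.isLocallyClosed.inter (hw.preimage t.left.continuous).isLocallyClosed
      rw [← hr']
      exact s.left.closePoints_subset_preimage_closedPoints
        (isClosed_singleton_of_isLocallyClosed_singleton hrc)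
    have hvo : (⟨v, hvO⟩ : O.toScheme) ∈ closure (Points.ofPt ((yon S).map o ≫ q) ⁻¹' {x}) := by
      rw [show Points.ofPt ((yon S).map o ≫ q) ⁻¹' {x} = o.left ⁻¹' (Points.ofPt q ⁻¹' {x}) from
        Set.ext fun z => by simp [ofPt_map_comp]]
      change (⟨v, hvO⟩ : O.toScheme) ∈ closure (O.ι ⁻¹' _)
      rw [← O.ι.isOpenEmbedding.isOpenMap.preimage_closure_eq_closure_preimage O.ι.continuous]
      exact hv
    have := hc.closure_subset hvo
    rw [Set.mem_preimage, ofPt_map_comp] at this
    exact this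
  · obtain ⟨U, p, hpe, hps, hU⟩ := hF
    have : JacobsonSpace U.left := hU
    obtain ⟨u₁, hu₁⟩ := surjective_ofPt hps x
    obtain ⟨u, hu, huc⟩ := nonempty_inter_closedPoints (Z := Points.ofPt p ⁻¹' {x}) ⟨u₁, hu₁⟩
      (hx.preimage (Points.continuous_ofPt p)).isLocallyClosed
    exact ⟨U, p, u, hpe, hu, huc⟩

/-- A decent space is Jacobson exactly when its space of points is. -/
theorem jacobson_iff_points (hFs : IsAlgSpace F) (hd : IsDecent F) :
    EtaleLocally (fun U => JacobsonSpace ↥U) F ↔ JacobsonSpace (Points F) := by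
  refine ⟨fun hF => ?_, fun hP => ?_⟩
  · rw [jacobsonSpace_iff_locallyClosed]
    intro Z hZne hZ
    obtain ⟨U, p, hpe, hps, hU⟩ := id hF
    have : JacobsonSpace U.left := hU
    obtain ⟨u₁, hu₁⟩ : (Points.ofPt p ⁻¹' Z).Nonempty := by
      obtain ⟨z, hz⟩ := hZne
      obtain ⟨u, rfl⟩ := surjective_ofPt hps z
      exact ⟨u, hz⟩
    obtain ⟨u, hu, huc⟩ := nonempty_inter_closedPoints (Z := Points.ofPt p ⁻¹' Z) ⟨u₁, hu₁⟩
      (hZ.preimage (Points.continuous_ofPt p))
    exact ⟨Points.ofPt p u, hu,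
      (ftPt_iff_isClosed hFs hd hF _).1 ⟨U, p, u, hpe, rfl, huc⟩⟩
  · obtain ⟨V, q, hqe, hqs⟩ := hFs.atlas
    refine ⟨V, q, hqe, hqs, ?_⟩
    change JacobsonSpace V.left
    let O : V.left.affineOpens → V.left.Opens := Subtype.val
    have hcov : TopologicalSpace.IsOpenCover O := iSup_affineOpens_eq_top V.left
    rw [hcov.jacobsonSpace_iff]
    rintro ⟨O, hO⟩
    change JacobsonSpace O.toScheme
    by_contra hJ
    obtain ⟨v, hnc, hlc⟩ := Groth.Agent.S7547.result (X := O.toScheme) hJ
    let A : Over S := Over.mk (O.ι ≫ V.hom)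
    let φ : (yon S).obj A ⟶ F := (yon S).map (Over.homMk O.ι rfl) ≫ q
    have hφ : RepWith @Etale φ := repWith_etale_restrict hqe O
    let x : Points F := Points.ofPt φ (v : A.left)
    have hfin := finFibres_of_isDecent hFs.diag hd x
    let P : Set A.left := Points.ofPt φ ⁻¹' {x}
    have hPfin : P.Finite := hfin A φ hO hφ
    have hspec : ∀ {a b : A.left}, a ∈ P → b ∈ P → a ⤳ b → a = b := fun ha hb h =>
      eq_of_specializes_of_finFibres hφ hfin hb ha h
    obtain ⟨Ω, C, hΩ, hC, he⟩ := hlc
    let Ω' : Set A.left := Ω \ ⋃ v' ∈ P \ {(v : A.left)}, closure {v'}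
    have hΩ' : IsOpen Ω' :=
      hΩ.sdiff ((hPfin.diff).isClosed_biUnion fun _ _ => isClosed_closure)
    have hvΩ' : (v : A.left) ∈ Ω' := by
      refine ⟨(he.subset rfl).1, fun h => ?_⟩
      obtain ⟨v', hv', hvc⟩ := Set.mem_iUnion₂.1 h
      exact hv'.2 (hspec hv'.1 rfl (specializes_iff_mem_closure.2 hvc))
    have key : Points.ofPt φ '' Ω' ∩ closure {x} = {x} := by
      refine Set.Subset.antisymm ?_ (Set.singleton_subset_iff.2 ⟨⟨_, hvΩ', rfl⟩, subset_closure rfl⟩)
      rintro _ ⟨⟨b, hb, rfl⟩, hbx⟩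
      have : b ∈ closure P := by
        rw [← (isOpenMap_ofPt φ hφ).preimage_closure_eq_closure_preimage (Points.continuous_ofPt φ)]
        exact hbx
      rw [← Set.biUnion_of_singleton P, hPfin.closure_biUnion] at this
      obtain ⟨v', hv', hbv'⟩ := Set.mem_iUnion₂.1 this
      have hv'v : v' = (v : A.left) := by
        by_contra hne
        exact hb.2 (Set.mem_iUnion₂.2 ⟨v', ⟨hv', hne⟩, hbv'⟩)
      have hbC : b ∈ C := closure_minimal
        (Set.singleton_subset_iff.2 (he.subset rfl).2) hC (hv'v ▸ hbv')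
      rw [Set.mem_singleton_iff, show b = (v : A.left) from he.symm.subset ⟨hb.1, hbC⟩]
    have hxl : IsLocallyClosed ({x} : Set (Points F)) :=
      ⟨_, _, isOpenMap_ofPt φ hφ _ hΩ', isClosed_closure, key.symm⟩
    have hxc := isClosed_singleton_of_isLocallyClosed_singleton hxl
    have hPc : IsClosed P := hxc.preimage (Points.continuous_ofPt φ)
    refine hnc (closure_subset_iff_isClosed.1 fun b hb => ?_)
    have hbP : (b : A.left) ∈ P := hPc.closure_subset
      (closure_mono (Set.singleton_subset_iff.2 (show (v : A.left) ∈ P from rfl)) hb)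
    exact (hspec (a := (v : A.left)) rfl hbP (specializes_iff_mem_closure.2 hb)).symm

end Groth.Agent.AlgSpDecent
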