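import Groth.Agent.Lib.AlgSpDecent.ZeroDim
import Groth.Agent.Lib.AlgSpDecent.Jacobson
import Groth.Agent.Lib.AlgSpDecent.Dim
import Groth.Agent.Lib.PtSet.Constr
import Groth.Agent.Lib.QuasiFlat.Spec
import Groth.Agent.Lib.AlgSpDescent.SchemeSource

/-!
# Zero dimensional spaces over a field
-/

universe u

set_option backward.isDefEq.respectTransparency.types false

open CategoryTheory CategoryTheory.Limits AlgebraicGeometry Opposite MorphismProperty Topology
  TopologicalSpace

namespace Groth.Agent.AlgSpDecent

open AlgSp Groth.Agent.AlgSpace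

/-- A closed subset of a locally Noetherian scheme stable under generalization is open. -/
theorem isOpen_of_isClosed_stableUnderGeneralization {X : Scheme.{u}} [IsLocallyNoetherian X]
    {P : Set X} (hP : IsClosed P) (hg : StableUnderGeneralization P) : IsOpen P := by
  refine isOpen_iff_forall_mem_open.2 fun x hx => ?_
  obtain ⟨O, hO, hxO, -⟩ := exists_isAffineOpen_mem_and_subset (X := X) (x := x) (U := ⊤) trivial
  have : IsAffine O.toScheme := hO
  have : IsNoetherianRing Γ(X, O) := IsLocallyNoetherian.component_noetherian ⟨O, hO⟩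
  have : NoetherianSpace O.toScheme := by
    haveI : NoetherianSpace (Spec Γ(X, O)) :=
      inferInstanceAs (NoetherianSpace (PrimeSpectrum Γ(X, O)))
    exact noetherianSpace_of_surjective hO.isoSpec.inv hO.isoSpec.inv.continuous
      hO.isoSpec.inv.surjective
  let E : Set O.toScheme := O.ι ⁻¹' P
  have hEc : IsClosed E := hP.preimage O.ι.continuous
  have hE : IsConstructible E := by
    rw [← isConstructible_compl]
    exact IsRetrocompact.isConstructible hEc.isOpen_compl (fun W _ _ => NoetherianSpace.isCompact _)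
  have := PtSet.isOpen_of_isConstructible_stableUnderGeneralization hE (hg.preimage O.ι.continuous)
  exact ⟨O.ι '' E, Set.image_preimage_subset _ _, O.ι.isOpenEmbedding.isOpenMap _ this,
    ⟨⟨x, hxO⟩, hx, rfl⟩⟩

/-- A locally Noetherian scheme without specializations is discrete. -/
theorem discreteTopology_of_forall_specializes {X : Scheme.{u}} [IsLocallyNoetherian X]
    (h : ∀ a b : X, a ⤳ b → a = b) : DiscreteTopology X := by
  refine discreteTopology_iff_isOpen_singleton.2 fun x => ?_
  refine isOpen_of_isClosed_stableUnderGeneralization (closure_subset_iff_isClosed.1 fun y hy => ?_) ?_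
  · exact (h x y (specializes_iff_mem_closure.2 hy)).symm
  · rintro a b hab rfl
    exact h b a hab

theorem isLocallyArtinian_of_lft_discrete {X : Scheme.{u}} [IsLocallyNoetherian X]
    [DiscreteTopology X] : IsLocallyArtinian X :=
  IsLocallyArtinian.of_isLocallyNoetherian_of_discreteTopology

variable {k : Type u} [Field k] {F : Sp (Spec (CommRingCat.of k))}

/-- Charts of a space locally of finite type over a field are locally of finite type. -/
theorem chart_lft {P : MorphismProperty Scheme.{u}}
    {p : F ⟶ (yon (Spec (CommRingCat.of k))).obj (Over.mk (𝟙 _))} (hp : LocP P p)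
    {U : Over (Spec (CommRingCat.of k))} {a : (yon _).obj U ⟶ F} (ha : RepWith @Etale a) :
    P U.hom :=
  hp a (𝟙 _) (Over.homMk U.hom (Category.comp_id _)) ha
    (MorphismProperty.of_isIso (RepWith (S := Spec (CommRingCat.of k)) @Etale) _) (isTerminalBase.hom_ext _ _)

theorem jacobson_field {p : F ⟶ (yon (Spec (CommRingCat.of k))).obj (Over.mk (𝟙 _))}
    (hp : LocP @LocallyOfFiniteType p) {U : Over (Spec (CommRingCat.of k))} {a : (yon _).obj U ⟶ F}
    (ha : RepWith @Etale a) : JacobsonSpace U.left ∧ IsLocallyNoetherian U.left := by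
  have : LocallyOfFiniteType U.hom := chart_lft hp ha
  exact ⟨LocallyOfFiniteType.jacobsonSpace U.hom, LocallyOfFiniteType.isLocallyNoetherian U.hom⟩

/-- The points of an open fibre of a chart are open. -/
theorem isOpen_singleton_of_isOpen_point (hF : IsAlgSpace F)
    {p : F ⟶ (yon (Spec (CommRingCat.of k))).obj (Over.mk (𝟙 _))} (hp : LocP @LocallyOfFiniteType p)
    {x : Points F} (hx : IsOpen ({x} : Set (Points F)))
    {U : Over (Spec (CommRingCat.of k))} {a : (yon _).obj U ⟶ F} (ha : RepWith @Etale a)
    (u : U.left) (hu : Points.ofPt a u = x) : IsOpen ({u} : Set U.left) := by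
  obtain ⟨hJ, hN⟩ := jacobson_field hp ha
  let P : U.left.Opens := ⟨Points.ofPt a ⁻¹' {x}, hx.preimage (Points.continuous_ofPt a)⟩
  obtain ⟨R, s, t, hs, ht, hrel, hcl⟩ := exists_chart_relation ha
  have := LocallyOfFiniteType.jacobsonSpace t.left
  obtain ⟨c, hc, hcc⟩ := nonempty_inter_closedPoints (Z := (P : Set U.left)) ⟨u, hu⟩ P.isOpen.isLocallyClosed
  have hall : ∀ z ∈ P, IsClosed ({z} : Set U.left) := fun z hz => by
    obtain ⟨r, hr, hr'⟩ := hrel c z ((hc : Points.ofPt a c = x).trans (hz : Points.ofPt a z = x).symm)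
    have hrc : IsLocallyClosed ({r} : Set R.left) := by
      have hdisc : _root_.IsDiscrete (t.left ⁻¹' {c}) :=
        have := locallyQuasiFinite_of_etale t.left
        t.left.isDiscrete_preimage_singleton c
      have := hdisc.to_subtype
      obtain ⟨O, hO, he⟩ := isOpen_induced_iff.1
        (isOpen_discrete ({(⟨r, hr⟩ : t.left ⁻¹' {c})} : Set (t.left ⁻¹' {c})))
      rw [show ({r} : Set R.left) = O ∩ t.left ⁻¹' {c} by
        ext b
        constructor
        · rintro rfl
          exact ⟨(he.symm.subset rfl : (⟨b, hr⟩ : t.left ⁻¹' {c}) ∈ Subtype.val ⁻¹' O), hr⟩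
        · rintro ⟨h1, h2⟩
          exact congrArg Subtype.val
            (he.subset (show (⟨b, h2⟩ : t.left ⁻¹' {c}) ∈ Subtype.val ⁻¹' O from h1))]
      exact hO.isLocallyClosed.inter (IsClosed.preimage t.left.continuous hcc).isLocallyClosed
    rw [← hr']
    exact s.left.closePoints_subset_preimage_closedPoints
      (isClosed_singleton_of_isLocallyClosed_singleton hrc)
  have : IsLocallyNoetherian P.toScheme := isLocallyNoetherian_of_isOpenImmersion P.ι
  have : DiscreteTopology P.toScheme := discreteTopology_of_forall_specializes fun z w h =>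
    Subtype.ext ((hall z.1 z.2).closure_subset
      (specializes_iff_mem_closure.1 (h.map P.ι.continuous))).symm
  have h2 := P.ι.isOpenEmbedding.isOpenMap _ (isOpen_discrete ({⟨u, hu⟩} : Set P.toScheme))
  rwa [Set.image_singleton] at h2

theorem point_conditions (hF : IsAlgSpace F)
    {p : F ⟶ (yon (Spec (CommRingCat.of k))).obj (Over.mk (𝟙 _))} (hp : LocP @LocallyOfFiniteType p)
    (x : Points F) :
    (IsOpen ({x} : Set (Points F)) ↔
        (IsClosed ({x} : Set (Points F)) ∧ ∀ x' : Points F, x' ⤳ x → x' = x)) ∧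
      (IsOpen ({x} : Set (Points F)) ↔ HasAt (fun U u => FlatMor.localDim ↥U u = 0) F x) ∧
      (IsDecent F → (FlatMor.localDim (Points F) x = 0 ↔ IsOpen ({x} : Set (Points F)))) := by
  obtain ⟨V, q, hqe, hqs⟩ := hF.atlas
  obtain ⟨hJ, hN⟩ := jacobson_field hp hqe
  obtain ⟨v, rfl⟩ := surjective_ofPt hqs x
  have hopen : ∀ {u : V.left}, IsOpen ({u} : Set V.left) →
      IsOpen ({Points.ofPt q u} : Set (Points F)) := fun h => by
    have := isOpenMap_ofPt q hqe _ h
    rwa [Set.image_singleton] at this
  refine ⟨⟨fun h => ⟨?_, fun x' hx' => hx'.mem_open h rfl⟩, fun ⟨hc, hg⟩ => ?_⟩,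
    ⟨fun h => ⟨V, q, v, hqe, rfl, ?_⟩, ?_⟩, fun hd => ⟨fun h => ?_, fun h => ?_⟩⟩
  · rw [← (isOpenQuotientMap_ofPt hqe hqs).isQuotientMap.isClosed_preimage]
    refine closure_subset_iff_isClosed.1 fun z hz => ?_
    obtain ⟨O, hO, hzO, -⟩ := exists_isAffineOpen_mem_and_subset (X := V.left) (x := z) (U := ⊤) trivial
    have : IsNoetherianRing Γ(V.left, O) := IsLocallyNoetherian.component_noetherian ⟨O, hO⟩
    have hsub : (Points.ofPt q ⁻¹' {Points.ofPt q v} ∩ O : Set V.left).Finite := by
      have : NoetherianSpace O.toScheme := by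
        haveI : NoetherianSpace (Spec Γ(V.left, O)) :=
          inferInstanceAs (NoetherianSpace (PrimeSpectrum Γ(V.left, O)))
        exact noetherianSpace_of_surjective hO.isoSpec.inv hO.isoSpec.inv.continuous
          hO.isoSpec.inv.surjective
      let P : Set O.toScheme := O.ι ⁻¹' (Points.ofPt q ⁻¹' {Points.ofPt q v})
      have hPd : DiscreteTopology P := discreteTopology_iff_isOpen_singleton.2 fun w => by
        have h1 : IsOpen ((O.ι ∘ (Subtype.val : P → O.toScheme)) ⁻¹' {O.ι w.1}) :=
          (isOpen_singleton_of_isOpen_point hF hp h hqe _ w.2).preimage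
            (O.ι.continuous.comp continuous_subtype_val)
        rwa [show ((O.ι ∘ Subtype.val) ⁻¹' {O.ι w.1} : Set P) = {w} from
          Set.ext fun w' => ⟨fun e => Subtype.ext (O.ι.isOpenEmbedding.injective e),
            fun e => congrArg (fun t : P => O.ι t.1) e⟩] at h1
      have : CompactSpace P := isCompact_iff_compactSpace.1 (NoetherianSpace.isCompact _)
      have : Finite P := finite_of_compact_of_discrete
      refine ((Set.toFinite P).image O.ι).subset ?_
      rintro w ⟨hw, hwO⟩
      exact ⟨⟨w, hwO⟩, hw, rfl⟩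
    have hclosed : IsClosed (Points.ofPt q ⁻¹' {Points.ofPt q v} ∩ O : Set V.left) := by
      rw [← Set.biUnion_of_singleton (Points.ofPt q ⁻¹' {Points.ofPt q v} ∩ O : Set V.left)]
      refine hsub.isClosed_biUnion fun w hw => ?_
      exact isClosed_singleton_of_isLocallyClosed_singleton
        (isOpen_singleton_of_isOpen_point hF hp h hqe w hw.1).isLocallyClosed
    have hz' := O.isOpen.inter_closure ⟨hzO, hz⟩
    rw [Set.inter_comm] at hz'
    exact (hclosed.closure_subset hz').1
  · have hP : IsOpen (Points.ofPt q ⁻¹' {Points.ofPt q v}) :=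
      isOpen_of_isClosed_stableUnderGeneralization (hc.preimage (Points.continuous_ofPt q))
        fun a b hab hb => hg _ ((hb : _ = _) ▸ hab.map (Points.continuous_ofPt q))
    exact (isOpenQuotientMap_ofPt hqe hqs).isQuotientMap.isOpen_preimage.1 hP
  · exact (QF.localDim_eq_zero_iff v).2 (isOpen_singleton_of_isOpen_point hF hp h hqe v rfl)
  · rintro ⟨U, a, u, ha, hu, h⟩
    obtain ⟨hJ, hN⟩ := jacobson_field hp ha
    have := isOpenMap_ofPt a ha _ ((QF.localDim_eq_zero_iff u).1 h)
    rwa [Set.image_singleton, hu] at this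
  · rw [← localDim_ofPt hF hd hqe] at h
    exact hopen ((QF.localDim_eq_zero_iff v).1 h)
  · rw [← localDim_ofPt hF hd hqe]
    exact (QF.localDim_eq_zero_iff v).2 (isOpen_singleton_of_isOpen_point hF hp h hqe v rfl)

theorem discrete_iff_dim (hF : IsAlgSpace F) [Nonempty (Points F)]
    {p : F ⟶ (yon (Spec (CommRingCat.of k))).obj (Over.mk (𝟙 _))} (hp : LocP @LocallyOfFiniteType p) :
    (DiscreteTopology (Points F) ↔ AlgSp.dim F = 0) ∧
      (DiscreteTopology (Points F) → topologicalKrullDim (Points F) = 0) ∧
      (IsDecent F → topologicalKrullDim (Points F) = 0 → DiscreteTopology (Points F)) ∧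
      (IsDecent F → Finite (Points F) → AlgSp.dim F = 0) := by
  obtain ⟨V, q, hqe, hqs⟩ := hF.atlas
  obtain ⟨hJ, hN⟩ := jacobson_field hp hqe
  have : Nonempty V.left := ⟨(surjective_ofPt hqs (Classical.arbitrary _)).choose⟩
  have hiff : DiscreteTopology (Points F) ↔ AlgSp.dim F = 0 := by
    rw [dim_eq_of_chart hqe hqs]
    constructor
    · intro
      have : DiscreteTopology V.left := discreteTopology_iff_isOpen_singleton.2 fun v =>
        isOpen_singleton_of_isOpen_point hF hp (isOpen_discrete _) hqe v rfl
      exact le_antisymm (topologicalKrullDim_zero_of_discreteTopology _) TopDimLib.zero_le_dim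
    · intro h
      have := IsLocallyArtinian.of_topologicalKrullDim_le_zero (X := V.left) h.le
      refine discreteTopology_iff_isOpen_singleton.2 fun x => ?_
      obtain ⟨v, rfl⟩ := surjective_ofPt hqs x
      have := isOpenMap_ofPt q hqe _ (isOpen_discrete ({v} : Set V.left))
      rwa [Set.image_singleton] at this
  refine ⟨hiff, fun _ => le_antisymm (topologicalKrullDim_zero_of_discreteTopology _)
    TopDimLib.zero_le_dim, fun hd h => hiff.2 ?_, fun hd hfin => hiff.1 ?_⟩
  · rw [← h, topologicalKrullDim_points hF hd]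
  · have : EtaleLocally (fun U => JacobsonSpace ↥U) F := ⟨V, q, hqe, hqs, hJ⟩
    have := (jacobson_iff_points hF hd).1 this
    have := t0Space_of_finFibres hF (finFibres_of_isDecent hF.diag hd)
    exact JacobsonSpace.discreteTopology (Set.toFinite _)

/-- Locally quasi-finite over a field means locally of finite type of dimension at most zero. -/
theorem lqf_field_iff (p : F ⟶ (yon (Spec (CommRingCat.of k))).obj (Over.mk (𝟙 _))) :
    LocP (@LocallyQuasiFinite ⊓ @LocallyOfFiniteType : MorphismProperty Scheme.{u}) p ↔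
      LocP @LocallyOfFiniteType p ∧ AlgSp.dim F ≤ 0 := by
  constructor
  · refine fun hp => ⟨fun U V a b h ha hb e => (hp a b h ha hb e).2, iSup₂_le fun U a => iSup_le fun ha => ?_⟩
    obtain ⟨hq, hl⟩ := chart_lft hp ha
    have : LocallyQuasiFinite U.hom := hq
    have := IsLocallyArtinian.of_locallyQuasiFinite U.hom
    exact topologicalKrullDim_zero_of_discreteTopology _
  · rintro ⟨hp, hdim⟩ U V a b h ha hb e
    have hl : LocallyOfFiniteType h.left := hp a b h ha hb e
    refine ⟨?_, hl⟩
    obtain ⟨hJ, hN⟩ := jacobson_field hp ha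
    have : topologicalKrullDim U.left ≤ 0 :=
      le_trans (show topologicalKrullDim U.left ≤ AlgSp.dim F from
        le_iSup₂_of_le (f := fun (U : Over (Spec (CommRingCat.of k))) (a : (yon _).obj U ⟶ F) =>
          ⨆ (_ : RepWith @Etale a), topologicalKrullDim ↥U.left) U a
          (le_iSup_of_le ha le_rfl)) hdim
    have := IsLocallyArtinian.of_topologicalKrullDim_le_zero (X := U.left) this
    refine locallyQuasiFinite_iff_isDiscrete_preimage_singleton.2 fun v => ?_
    exact IsDiscrete.mk (inferInstanceAs (DiscreteTopology (h.left ⁻¹' {v})))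

/-- A subspace of a locally quasi-finite space over a field is locally quasi-finite. -/
theorem lqf_field_of_mono {G : Sp (Spec (CommRingCat.of k))} (hG : IsAlgSpace G) (hF : IsAlgSpace F)
    (f : G ⟶ F) [Mono f] (q : F ⟶ (yon (Spec (CommRingCat.of k))).obj (Over.mk (𝟙 _)))
    (hq : LocP (@LocallyQuasiFinite ⊓ @LocallyOfFiniteType : MorphismProperty Scheme.{u}) q) :
    LocP (@LocallyQuasiFinite ⊓ @LocallyOfFiniteType : MorphismProperty Scheme.{u}) (f ≫ q) := by
  intro U W a b h ha hb e
  obtain ⟨V, c, hce, hcs⟩ := hF.atlas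
  obtain ⟨hcq, hcl⟩ := chart_lft hq hce
  have : LocallyQuasiFinite V.hom := hcq
  have : LocallyOfFiniteType V.hom := hcl
  have := IsLocallyArtinian.of_locallyQuasiFinite V.hom
  have sqP := IsPullback.of_hasPullback f c
  have : Mono (pullback.snd f c) := inferInstance
  have hPs : IsAlgSpace (pullback f c) := isAlgSpace_pullback hF hG (IsAlgSpace.yon_obj V) sqP
  have hrep := isRepresentable_of_mono_discrete ⟨_, hPs⟩ (Y := V) (pullback.snd f c)
  obtain ⟨P, ⟨eP⟩⟩ := exists_yon_iso_of_isRepresentable hrep
  obtain ⟨m, hm⟩ := (yon _).map_surjective (eP.hom ≫ pullback.snd f c)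
  have : Mono ((yon (Spec (CommRingCat.of k))).map m) := by rw [hm]; infer_instance
  have : Mono m.left := mono_left m
  have : LocallyOfFiniteType m.left := locallyOfFiniteType_of_mono_artinian m.left
  have : LocallyQuasiFinite m.left := LocallyQuasiFinite.of_injective m.left.injective
  -- the common etale cover of `U`
  obtain ⟨T, i, fst, sqT⟩ := hce.1 (a ≫ f)
  obtain ⟨j, rfl⟩ := (yon _).map_surjective fst
  have : Etale i.left := hce.2 _ _ _ sqT
  have : Surjective i.left := hcs.2 _ _ _ sqT
  obtain ⟨l, hl⟩ := (yon _).map_surjective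
    (sqP.lift ((yon _).map i ≫ a) ((yon _).map j) (by rw [Category.assoc, sqT.w]) ≫ eP.inv)
  have hlj : l ≫ m = j := (yon _).map_injective (by
    rw [Functor.map_comp, hl, hm, Category.assoc, eP.inv_hom_id_assoc, IsPullback.lift_snd])
  have hl' : (yon _).map l ≫ eP.hom = sqP.lift ((yon _).map i ≫ a) ((yon _).map j)
      (by rw [Category.assoc, sqT.w]) := by rw [hl, Category.assoc, eP.inv_hom_id, Category.comp_id]
  have het : Etale l.left := by
    let L := sqP.lift ((yon _).map i ≫ a) ((yon _).map j) (by rw [Category.assoc, sqT.w])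
    have sqL : IsPullback ((yon _).map i) L a (pullback.fst f c) :=
      IsPullback.of_bot (by rw [IsPullback.lift_snd]; exact sqT.flip) (IsPullback.lift_fst _ _ _ _).symm sqP
    refine (repWith_yon_map_iff @Etale l).1 ?_
    rw [hl]
    exact repWith_comp ((RepWith (S := Spec (CommRingCat.of k)) @Etale).of_isPullback sqL ha)
      (MorphismProperty.of_isIso (RepWith (S := Spec (CommRingCat.of k)) @Etale) eP.inv)
  have := locallyQuasiFinite_of_etale l.left
  have : LocallyOfFiniteType j.left := by rw [← hlj, Over.comp_left]; infer_instance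
  have : LocallyQuasiFinite j.left := by rw [← hlj, Over.comp_left]; infer_instance
  have hUhom : LocallyOfFiniteType U.hom ∧ DiscreteTopology U.left := by
    have hT : LocallyOfFiniteType T.hom := by rw [← Over.w j]; infer_instance
    have hTq : LocallyQuasiFinite T.hom := by rw [← Over.w j]; infer_instance
    have := IsLocallyArtinian.of_locallyQuasiFinite T.hom
    refine ⟨?_, discreteTopology_iff_isOpen_singleton.2 fun u => ?_⟩
    · exact AlgSpDescent.descendsEtaleSource_locallyOfFiniteType i.left U.hom ‹Etale i.left› ‹Surjective i.left›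
        (by rw [Over.w i]; exact hT)
    · obtain ⟨t, rfl⟩ := i.left.surjective u
      have := i.left.isOpenMap _ (isOpen_discrete ({t} : Set T.left))
      rwa [Set.image_singleton] at this
  obtain ⟨hUl, hUd⟩ := hUhom
  have hW : LocallyOfFiniteType (h.left ≫ W.hom) := by rw [Over.w h]; exact hUl
  have hl := locallyOfFiniteType_of_comp h.left W.hom
  refine ⟨locallyQuasiFinite_iff_isDiscrete_preimage_singleton.2 fun v => ?_, hl⟩
  exact IsDiscrete.mk (inferInstanceAs (DiscreteTopology (h.left ⁻¹' {v})))

end Groth.Agent.AlgSpDecent
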