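import Groth.Agent.Lib.AlgSpDecent.MonoPoint
import Groth.Agent.Lib.AlgSpace.Points

/-!
# Monomorphic points and finite fibres of étale charts
-/

universe u

set_option backward.isDefEq.respectTransparency.types false

open CategoryTheory CategoryTheory.Limits AlgebraicGeometry AlgSp Opposite
open Groth.Agent.AlgSpace

namespace Groth.Agent.AlgSpDecent

variable {S : Scheme.{u}} {F : Sp S} {U R : Over S}

/-- A field-valued point with finite self product gives a monomorphic point. -/
theorem exists_mono_of_self_product {K : Type u} [Field K]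
    {strK : Spec (CommRingCat.of K) ⟶ S} {g : (yon S).obj (Over.mk strK) ⟶ F}
    {G : Over S} {s t : G ⟶ Over.mk strK} (sq : IsPullback ((yon S).map t) ((yon S).map s) g g)
    (hs : IsFinite s.left) (ht : IsFinite t.left) :
    ∃ p : FieldPt F, Points.mk p = Points.ofPt g (IsLocalRing.closedPoint K) ∧ Mono p.toHom := by
  obtain ⟨p, π, hπ, hm, -⟩ := exists_mono_point_of_isFinite_self_product sq hs ht
  exact ⟨p, by rw [← hπ, ofPt_map_comp, Points.ofPt_toHom], hm⟩

/-- A point with finite fibre of the relation is represented by a monomorphism from a field. -/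
theorem exists_mono_of_finite_fibre (hd : Representable (Limits.diag F)) {φ : (yon S).obj U ⟶ F}
    (hφ : RepWith @Etale φ) {s t : R ⟶ U} (sq : IsPullback ((yon S).map t) ((yon S).map s) φ φ)
    (u u' : ↥U.left) (he : Points.ofPt φ u = Points.ofPt φ u')
    (hfin : {r : ↥R.left | t.left r = u ∧ s.left r = u'}.Finite) :
    ∃ p : FieldPt F, Points.mk p = Points.ofPt φ u ∧ Mono p.toHom := by
  have : Etale s.left := hφ.2 φ _ _ sq
  have : Etale t.left := hφ.2 φ _ _ sq.flip
  have hne : ∃ r : ↥R.left, t.left r = u ∧ s.left r = u' := by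
    obtain ⟨r, hr, hr'⟩ := exists_pt_of_isPullback sq (x := Points.ofScheme U u) (t := u')
      (by rw [← Points.ofPt_eq_map_ofScheme]; exact he)
    exact ⟨r, (Points.schemeEquiv U).injective ((ofPt_map_eq t r).symm.trans hr), hr'⟩
  obtain ⟨M, m, m', sqM, hMne, hm, hm'⟩ := exists_finite_fibre_product φ sq u u' hne hfin
  let g := (yon S).map (Over.homMk (U.left.fromSpecResidueField u) rfl :
    Over.mk (U.left.fromSpecResidueField u ≫ U.hom) ⟶ U) ≫ φ
  obtain ⟨G, s', fst, sqG⟩ := (Functor.relativelyRepresentable.of_diag hd g) g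
  obtain ⟨t', rfl⟩ := (yon S).map_surjective fst
  have h1 := isFinite_self_product (K := U.left.residueField u) sqG sqM hMne hm hm'
  have h2 := isFinite_self_product (K := U.left.residueField u) sqG.flip sqM hMne hm hm'
  obtain ⟨p, hp, hpm⟩ := exists_mono_of_self_product (K := U.left.residueField u) sqG h1 h2
  refine ⟨p, hp.trans ?_, hpm⟩
  rw [ofPt_map_comp]
  exact congrArg (Points.ofPt φ) (U.left.fromSpecResidueField_apply u _)

/-- A quasi-compact étale scheme over a field is finite. -/
theorem isFinite_of_etale_field {K : Type u} [Field K] {T : Scheme.{u}}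
    (c : T ⟶ Spec (CommRingCat.of K)) [Etale c] [CompactSpace T] : IsFinite c := by
  have : LocallyQuasiFinite c := locallyQuasiFinite_of_etale c
  have : QuasiCompact c := (quasiCompact_iff_compactSpace _).2 ‹_›
  exact IsFinite.of_locallyQuasiFinite c

theorem isFinite_open_subsingleton {K : Type u} [Field K] {T : Scheme.{u}}
    (c : T ⟶ Spec (CommRingCat.of K)) [Etale c] (O : T.Opens) [Subsingleton O] :
    IsFinite (O.ι ≫ c) := by
  have : Finite O := Finite.of_subsingleton
  have : CompactSpace O.toScheme := Finite.compactSpace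
  exact isFinite_of_etale_field _

/-- Points of a scheme étale over a field are open. -/
theorem isOpen_singleton_of_etale_field {K : Type u} [Field K] {T : Scheme.{u}}
    (c : T ⟶ Spec (CommRingCat.of K)) [Etale c] (z : T) : IsOpen ({z} : Set T) := by
  have : LocallyQuasiFinite c := locallyQuasiFinite_of_etale c
  have : IsLocallyArtinian T := IsLocallyArtinian.of_locallyQuasiFinite c
  exact isOpen_discrete _

theorem finite_pairs {K : Type u} [Field K] {T : Scheme.{u}}
    (c : T ⟶ Spec (CommRingCat.of K)) [Etale c] (z z' : T) :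
    {w : ↥(pullback c c) | pullback.fst c c w = z ∧ pullback.snd c c w = z'}.Finite := by
  let O : T.Opens := ⟨{z}, isOpen_singleton_of_etale_field c z⟩
  have : Subsingleton O := ⟨fun a b => Subtype.ext ((show a.1 = z from a.2).trans (show b.1 = z from b.2).symm)⟩
  have := isFinite_open_subsingleton c O
  have hfin : (pullback.snd (O.ι ≫ c) c ⁻¹' {z'}).Finite :=
    (pullback.snd (O.ι ≫ c) c).finite_preimage_singleton z'
  let θ : pullback (O.ι ≫ c) c ⟶ pullback c c :=
    pullback.map _ _ _ _ O.ι (𝟙 _) (𝟙 _) (by simp) (by simp)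
  refine (hfin.image θ).subset fun w ⟨h1, h2⟩ => ?_
  have hw : w ∈ Set.range θ := by
    rw [Scheme.Pullback.range_map, O.range_ι]
    exact ⟨h1, ⟨_, rfl⟩⟩
  obtain ⟨v, rfl⟩ := hw
  refine ⟨v, ?_, rfl⟩
  rw [Set.mem_preimage, Set.mem_singleton_iff, ← h2, ← Scheme.Hom.comp_apply, pullback.lift_snd]
  rfl

theorem mono_left {A B : Over S} (f : A ⟶ B) [Mono ((yon S).map f)] : Mono f.left := by
  have : Mono f := (yon S).mono_of_mono_map ‹_›
  exact inferInstanceAs (Mono ((Over.forget S).map f))

section MonoPt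

variable {p : FieldPt F} {φ : (yon S).obj U ⟶ F} {T : Over S} {c : T ⟶ p.pt} {a : T ⟶ U}

theorem injective_of_mono_point [Mono p.toHom]
    (sqT : IsPullback ((yon S).map c) ((yon S).map a) p.toHom φ) : Function.Injective a.left := by
  have : Mono ((yon S).map a) := sqT.mono_snd_of_mono
  have := mono_left a
  exact a.left.injective

theorem preimage_mk_eq_range (sqT : IsPullback ((yon S).map c) ((yon S).map a) p.toHom φ) :
    Points.ofPt φ ⁻¹' {Points.mk p} = Set.range a.left := by
  ext u
  constructor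
  · intro hu
    obtain ⟨w, hw, -⟩ := exists_pt_of_isPullback sqT.flip (x := Points.ofScheme U u)
      (t := (IsLocalRing.closedPoint p.K : ↥p.pt.left))
      (by rw [← Points.ofPt_eq_map_ofScheme, Points.ofPt_toHom]; exact hu)
    exact ⟨w, (Points.schemeEquiv U).injective ((ofPt_map_eq a w).symm.trans hw)⟩
  · rintro ⟨w, rfl⟩
    rw [Set.mem_preimage, ← ofPt_map_comp, ← sqT.w, ofPt_map_comp]
    exact Points.ofPt_toHom p _

/-- Points of the relation over the point are images of pairs of points of the fibre. -/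
theorem exists_pair_of_mem_fibre
    (sqT : IsPullback ((yon S).map c) ((yon S).map a) p.toHom φ) {s t : R ⟶ U}
    (sq : IsPullback ((yon S).map t) ((yon S).map s) φ φ) :
    ∃ ρ : pullback c c ⟶ R, ρ ≫ t = pullback.fst c c ≫ a ∧ ρ ≫ s = pullback.snd c c ≫ a ∧
      ∀ r : ↥R.left, Points.ofPt φ (t.left r) = Points.mk p → ∃ w, ρ.left w = r := by
  obtain ⟨ρ, hρ⟩ := (yon S).map_surjective (sq.lift ((yon S).map (pullback.fst c c ≫ a))
    ((yon S).map (pullback.snd c c ≫ a)) (by
      simp only [Functor.map_comp, Category.assoc, ← sqT.w]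
      rw [← Functor.map_comp_assoc, ← Functor.map_comp_assoc, pullback.condition]))
  have hρt : ρ ≫ t = pullback.fst c c ≫ a :=
    (yon S).map_injective (by rw [Functor.map_comp, hρ, IsPullback.lift_fst])
  have hρs : ρ ≫ s = pullback.snd c c ≫ a :=
    (yon S).map_injective (by rw [Functor.map_comp, hρ, IsPullback.lift_snd])
  refine ⟨ρ, hρt, hρs, fun r hr => ?_⟩
  have sqW := IsPullback.of_hasPullback a t
  obtain ⟨tT, -, htT⟩ := (Set.ext_iff.1 (preimage_mk_eq_range sqT) (t.left r)).1 hr |>
    fun ⟨x, hx⟩ => (⟨x, trivial, hx⟩ : ∃ x, True ∧ a.left x = t.left r)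
  obtain ⟨w, hw1, hw2⟩ := Scheme.Pullback.exists_preimage_pullback (f := a.left) (g := t.left) tT r htT
  let e := (sqW.map (Over.forget S)).isoPullback
  let W := pullback a t
  let l₁ := sqT.lift ((yon S).map (pullback.fst a t ≫ c)) ((yon S).map (pullback.snd a t ≫ s)) (by
    rw [Functor.map_comp, Functor.map_comp, Category.assoc, Category.assoc, sqT.w, ← Category.assoc]
    rw [← Functor.map_comp, pullback.condition, Functor.map_comp, Category.assoc, sq.w])
  obtain ⟨l, hl⟩ := (yon S).map_surjective l₁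
  have hlc : l ≫ c = pullback.fst a t ≫ c :=
    (yon S).map_injective (by rw [Functor.map_comp, hl, IsPullback.lift_fst])
  have hla : l ≫ a = pullback.snd a t ≫ s :=
    (yon S).map_injective (by rw [Functor.map_comp, hl, IsPullback.lift_snd])
  let θ : W ⟶ pullback c c := pullback.lift (pullback.fst a t) l hlc.symm
  have hθ : θ ≫ ρ = pullback.snd a t := by
    apply (yon S).map_injective
    refine sq.hom_ext ?_ ?_
    · rw [← Functor.map_comp, ← Functor.map_comp, Category.assoc, hρt, pullback.lift_fst_assoc,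
        pullback.condition]
    · rw [← Functor.map_comp, ← Functor.map_comp, Category.assoc, hρs, pullback.lift_snd_assoc, hla]
  refine ⟨θ.left (e.inv w), ?_⟩
  rw [← Scheme.Hom.comp_apply, ← Over.comp_left, hθ]
  have : e.inv ≫ (pullback.snd a t).left = pullback.snd a.left t.left :=
    (sqW.map (Over.forget S)).isoPullback_inv_snd
  exact congr($this w).trans hw2

end MonoPt

/-- The fibres of the relation over a monomorphic point are finite. -/
theorem finite_fibre_of_mono {p : FieldPt F} [Mono p.toHom] (hd : Representable (Limits.diag F))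
    {φ : (yon S).obj U ⟶ F} (hφ : RepWith @Etale φ) {s t : R ⟶ U}
    (sq : IsPullback ((yon S).map t) ((yon S).map s) φ φ) (u u' : ↥U.left)
    (hu : Points.ofPt φ u = Points.mk p) :
    {r : ↥R.left | t.left r = u ∧ s.left r = u'}.Finite := by
  obtain ⟨T, c, fst, sqT'⟩ := (Functor.relativelyRepresentable.of_diag hd φ) p.toHom
  obtain ⟨a, rfl⟩ := (yon S).map_surjective fst
  have sqT := sqT'.flip
  have : Etale c.left := hφ.2 _ _ _ sqT'
  obtain ⟨ρ, hρt, hρs, hρ⟩ := exists_pair_of_mem_fibre sqT sq
  have hinj := injective_of_mono_point sqT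
  have e1 := ((IsPullback.of_hasPullback c c).map (Over.forget S))
  by_cases hz : u ∈ Set.range a.left ∧ u' ∈ Set.range a.left
  · obtain ⟨⟨z, hz⟩, z', hz'⟩ := hz
    refine ((finite_pairs (K := p.K) c.left z z').image (ρ.left ∘ e1.isoPullback.inv)).subset
      fun r ⟨hr, hr'⟩ => ?_
    obtain ⟨w, rfl⟩ := hρ r (by rw [hr]; exact hu)
    refine ⟨e1.isoPullback.hom w, ⟨hinj ?_, hinj ?_⟩, congrArg ρ.left congr($(e1.isoPullback.hom_inv_id) w)⟩
    · rw [hz, ← hr, ← Scheme.Hom.comp_apply ρ.left, ← Over.comp_left, hρt]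
      exact congr(a.left ($(e1.isoPullback_hom_fst) w))
    · rw [hz', ← hr', ← Scheme.Hom.comp_apply ρ.left, ← Over.comp_left, hρs]
      exact congr(a.left ($(e1.isoPullback_hom_snd) w))
  · refine Set.Finite.subset Set.finite_empty fun r ⟨hr, hr'⟩ => hz ⟨?_, ?_⟩
    · exact hr ▸ (Set.ext_iff.1 (preimage_mk_eq_range sqT) _).1 (hr ▸ hu)
    · obtain ⟨w, rfl⟩ := hρ r (by rw [hr]; exact hu)
      rw [← hr', ← Scheme.Hom.comp_apply, ← Over.comp_left, hρs]
      exact ⟨_, rfl⟩

/-- Monomorphic points versus points with étale quasi-compact self product. -/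
theorem exists_mono_iff_self_product (hd : Representable (Limits.diag F)) (x : Points F) :
    (∃ p : FieldPt F, Points.mk p = x ∧ Mono p.toHom) ↔
      ∃ q : FieldPt F, Points.mk q = x ∧
        ∀ (P : Sp S) (fst snd : P ⟶ (yon S).obj q.pt), IsPullback fst snd q.toHom q.toHom →
          RepWith @Etale fst ∧ RepWith @QuasiCompact fst := by
  constructor
  · rintro ⟨p, hp, hm⟩
    refine ⟨p, hp, fun P fst snd sq => ?_⟩
    have : IsIso fst := sq.isIso_fst_of_mono
    exact ⟨MorphismProperty.of_isIso (RepWith (S := S) @Etale) fst, MorphismProperty.of_isIso (RepWith (S := S) @QuasiCompact) fst⟩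
  · rintro ⟨q, rfl, h⟩
    obtain ⟨G, t, fst, sq⟩ := (Functor.relativelyRepresentable.of_diag hd q.toHom) q.toHom
    obtain ⟨s, rfl⟩ := (yon S).map_surjective fst
    have fin : ∀ {a b : G ⟶ q.pt}, IsPullback ((yon S).map a) ((yon S).map b) q.toHom q.toHom →
        IsFinite a.left := fun {a b} sq' => by
      obtain ⟨he, hq⟩ := h _ _ _ sq'
      have : Etale a.left := (repWith_yon_map_iff _ _).1 he
      have : QuasiCompact a.left := (repWith_yon_map_iff _ _).1 hq
      have : CompactSpace q.pt.left := inferInstanceAs (CompactSpace (Spec (CommRingCat.of q.K)))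
      have : CompactSpace G.left := QuasiCompact.compactSpace_of_compactSpace a.left
      exact isFinite_of_etale_field (K := q.K) a.left
    obtain ⟨p, hp, hm⟩ := exists_mono_of_self_product (K := q.K) sq.flip (fin sq) (fin sq.flip)
    exact ⟨p, hp.trans (Points.ofPt_toHom q _), hm⟩

/-- A finite fibre of an étale chart over a point gives a monomorphic point with finite fibre. -/
theorem exists_mono_of_finite_fibres (hd : Representable (Limits.diag F))
    {φ : (yon S).obj U ⟶ F} (hφ : RepWith @Etale φ) {x : Points F}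
    (hx : x ∈ Set.range (Points.ofPt φ)) (hU : (Points.ofPt φ ⁻¹' {x}).Finite)
    (hR : ∀ (R : Over S) (s t : R ⟶ U), IsPullback ((yon S).map t) ((yon S).map s) φ φ →
      (Points.ofPt ((yon S).map t ≫ φ) ⁻¹' {x}).Finite) :
    ∃ p : FieldPt F, Points.mk p = x ∧ Mono p.toHom ∧
      ∀ (T : Over S) (c : T ⟶ p.pt) (snd : (yon S).obj T ⟶ (yon S).obj U),
        IsPullback ((yon S).map c) snd p.toHom φ → Nonempty ↥T.left ∧ IsFinite c.left := by
  obtain ⟨u, rfl⟩ := hx
  obtain ⟨R, s, fst, sq⟩ := hφ.1 φ
  obtain ⟨t, rfl⟩ := (yon S).map_surjective fst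
  obtain ⟨p, hp, hm⟩ := exists_mono_of_finite_fibre hd hφ sq u u rfl
    ((hR R s t sq).subset fun r ⟨hr, _⟩ => by
      rw [Set.mem_preimage, ofPt_map_comp, hr]; rfl)
  refine ⟨p, hp, hm, fun T c snd sqT => ?_⟩
  obtain ⟨a, rfl⟩ := (yon S).map_surjective snd
  have hr := preimage_mk_eq_range sqT
  rw [hp] at hr
  refine ⟨?_, ?_⟩
  · obtain ⟨z, -⟩ := (hr ▸ rfl : u ∈ Set.range a.left)
    exact ⟨z⟩
  have : Etale c.left := hφ.2 _ _ _ sqT.flip
  have : Finite (Set.range a.left) := (hr ▸ hU).to_subtype
  have : Finite T.left := Finite.of_injective (fun z => (⟨a.left z, z, rfl⟩ : Set.range a.left))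
    fun z z' h => injective_of_mono_point sqT (congrArg Subtype.val h)
  have : CompactSpace T.left := Finite.compactSpace
  exact isFinite_of_etale_field (K := p.K) c.left

/-- Conversely a monomorphic point with finite fibre gives finite fibres. -/
theorem finite_fibres_of_mono {p : FieldPt F} [Mono p.toHom] (hd : Representable (Limits.diag F))
    {φ : (yon S).obj U ⟶ F}
    (h : ∀ (T : Over S) (c : T ⟶ p.pt) (snd : (yon S).obj T ⟶ (yon S).obj U),
        IsPullback ((yon S).map c) snd p.toHom φ → Nonempty ↥T.left ∧ IsFinite c.left) :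
    Points.mk p ∈ Set.range (Points.ofPt φ) ∧ (Points.ofPt φ ⁻¹' {Points.mk p}).Finite ∧
      ∀ (R : Over S) (s t : R ⟶ U), IsPullback ((yon S).map t) ((yon S).map s) φ φ →
        (Points.ofPt ((yon S).map t ≫ φ) ⁻¹' {Points.mk p}).Finite := by
  obtain ⟨T, c, fst, sqT'⟩ := (Functor.relativelyRepresentable.of_diag hd φ) p.toHom
  obtain ⟨a, rfl⟩ := (yon S).map_surjective fst
  have sqT := sqT'.flip
  obtain ⟨⟨z⟩, hc⟩ := h T c _ sqT
  have hr := preimage_mk_eq_range sqT
  obtain ⟨n, hn⟩ := exists_finLE_of_isFinite (K := p.K) c.left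
  have := hn.discrete.1
  refine ⟨⟨a.left z, (Set.ext_iff.1 hr _).2 ⟨z, rfl⟩⟩, hr ▸ Set.finite_range _, fun R s t sq => ?_⟩
  obtain ⟨ρ, -, -, hρ⟩ := exists_pair_of_mem_fibre sqT sq
  have sc := IsPullback.of_hasPullback c c
  have : IsFinite (pullback.fst c c).left :=
    MorphismProperty.of_isPullback (P := @IsFinite) (sc.map (Over.forget S)).flip hc
  have hP : Finite (pullback c c).left := Set.finite_univ_iff.1 (by
    simpa using (pullback.fst c c).left.finite_preimage (Set.finite_univ (α := T.left)))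
  refine (Set.finite_range ρ.left).subset fun r hr => ?_
  rw [Set.mem_preimage, ofPt_map_comp] at hr
  obtain ⟨w, rfl⟩ := hρ r hr
  exact ⟨w, rfl⟩

end Groth.Agent.AlgSpDecent
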