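import Groth.Agent.Lib.AlgSpDecent.Basic2
import Groth.Agent.Lib.AlgSpDescent.RedNoeth
import Mathlib.RingTheory.Ideal.KrullsHeightTheorem

/-!
# Locally noetherian spaces: no chains of generalisations
-/

universe u

open CategoryTheory CategoryTheory.Limits AlgebraicGeometry AlgSp Opposite Topology

namespace Groth.Agent.AlgSpDecent

/-- Locally noetherian schemes have no infinite chains of strict generalisations. -/
theorem no_chain_of_isLocallyNoetherian {B : Scheme.{u}} [IsLocallyNoetherian B] (d : ℕ → B) :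
    ¬ ∀ n, d (n + 1) ⤳ d n ∧ d (n + 1) ≠ d n := by
  intro h
  obtain ⟨O, hO, h0, -⟩ := exists_isAffineOpen_mem_and_subset (X := B) (x := d 0) (U := ⊤) trivial
  have hmem : ∀ n, d n ∈ O := fun n => by
    induction n with
    | zero => exact h0
    | succ n ih => exact (h n).1.mem_open O.isOpen ih
  have : IsNoetherianRing Γ(B, O) := IsLocallyNoetherian.component_noetherian ⟨O, hO⟩
  let q : ℕ → PrimeSpectrum Γ(B, O) := fun n => hO.isoSpec.hom ⟨d n, hmem n⟩
  refine not_strictAnti_of_wellFoundedLT (fun n => (q n).asIdeal.height) (strictAnti_nat_of_succ_lt fun n => ?_)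
  refine Ideal.height_strict_mono_of_isPrime (lt_of_le_of_ne ?_ fun e => (h n).2 ?_)
  · exact (PrimeSpectrum.le_iff_specializes _ _).2
      (((subtype_specializes_iff (x := ⟨d (n + 1), hmem _⟩) (y := ⟨d n, hmem n⟩)).2 (h n).1).map
        hO.isoSpec.hom.continuous)
  · exact congrArg Subtype.val (hO.isoSpec.hom.homeomorph.injective (PrimeSpectrum.ext e) :
      (⟨d (n + 1), hmem _⟩ : O.toScheme) = ⟨d n, hmem n⟩)

variable {S : Scheme.{u}} {F : Sp S} {U : Over S}

theorem isLocallyNoetherian_of_etale_chart (hF : IsLocNoethSp F) {a : (yon S).obj U ⟶ F}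
    (ha : RepWith @Etale a) : IsLocallyNoetherian U.left :=
  AlgSpDescent.prop_of_etale_chart
    (fun _ _ f (_ : Etale f) (_ : IsLocallyNoetherian _) => LocallyOfFiniteType.isLocallyNoetherian f)
    (fun _ _ f (_ : Etale f) _ _ => AlgSpDescent.isLocallyNoetherian_of_fppf f) hF ha

end Groth.Agent.AlgSpDecent
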