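import Groth.Agent.Lib.AlgSpDecent.DimMor
import Groth.Agent.Lib.AlgSpDecent.Dim
import Groth.Agent.Lib.AlgSpDecent.LocNoeth
import Groth.Agent.Lib.AlgSpace.EtaleApps
import Groth.Agent.Lib.GeomRed18.Common
import Groth.Agent.Lib.Descend.BaseChangeAt
import Groth.Prelude.Def_AlgSpSub

/-!
# Properties at points read on charts
-/

universe u

set_option backward.isDefEq.respectTransparency.types false

open CategoryTheory CategoryTheory.Limits AlgebraicGeometry AlgSp Opposite Topology TopologicalSpace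
open Groth.Agent.AlgSpace

namespace Groth.Agent.AlgSpDecent

section Scheme

variable {A B : Scheme.{u}} (f : A ⟶ B) [Etale f]

theorem ringKrullDim_stalk_etale (a : A) :
    ringKrullDim (A.presheaf.stalk a) = ringKrullDim (B.presheaf.stalk (f a)) := by
  letI := specializationPreorder A
  letI := specializationPreorder B
  rw [ringKrullDim_stalk_eq_coheight, ringKrullDim_stalk_eq_coheight, coheight_eq_of_etale f a]

theorem localDim_etale (a : A) : FlatMor.localDim A a = FlatMor.localDim B (f a) := by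
  refine le_antisymm (le_iInf fun V => ?_) (le_iInf fun O => ?_)
  · refine (iInf_le _ ⟨f ⁻¹ᵁ V.1, V.2⟩).trans ?_
    have := locallyQuasiFinite_of_etale f
    have : LocallyQuasiFinite (f ∣_ V.1) :=
      IsZariskiLocalAtTarget.restrict (P := @LocallyQuasiFinite) ‹_› V.1
    exact topologicalKrullDim_le_of_lqf (f ∣_ V.1)
  · let V : B.Opens := ⟨f '' (O.1 : Set A), f.isOpenMap _ O.1.isOpen⟩
    refine (iInf_le _ ⟨V, ⟨a, O.2, rfl⟩⟩).trans ?_
    have e : O.1 ≤ f ⁻¹ᵁ V := fun x hx => ⟨x, hx, rfl⟩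
    let g := f.resLE V O.1 e
    have : Etale g := IsZariskiLocalAtSource.resLE (P := @Etale) _ inferInstance
    have hg : Function.Surjective g := by
      rintro ⟨y, x, hx, rfl⟩
      exact ⟨⟨x, hx⟩, Subtype.ext (f.coe_resLE_apply e ⟨x, hx⟩)⟩
    have key : topologicalKrullDim V.toScheme ≤ topologicalKrullDim (Scheme.Opens.toScheme (X := A) O.1) :=
      H12.topologicalKrullDim_le_of_surjective_of_lift (X := (Scheme.Opens.toScheme (X := A) O.1)) (Y := V.toScheme) g hg
        (Or.inr (Flat.generalizingMap g))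
    exact key

theorem isReduced_stalk_etale (a : A) :
    _root_.IsReduced (A.presheaf.stalk a) ↔ _root_.IsReduced (B.presheaf.stalk (f a)) := by
  refine ⟨fun _ => isReduced_of_injective (f.stalkMap a).hom (GeomRed.stalkMap_injective f a),
    fun _ => ?_⟩
  have : Flat (B.fromSpecStalk (f a)) := Descend.flat_fromSpecStalk _
  let P := pullback f (B.fromSpecStalk (f a))
  let p : P ⟶ A := pullback.fst _ _
  have : IsReduced (Spec (B.presheaf.stalk (f a))) := inferInstance
  have : IsReduced P := AlgSpDescent.isReduced_of_smooth (pullback.snd f (B.fromSpecStalk (f a)))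
  obtain ⟨z, hz, -⟩ := Scheme.Pullback.exists_preimage_pullback (f := f) (g := B.fromSpecStalk (f a)) a
    (IsLocalRing.closedPoint _) (Scheme.fromSpecStalk_closedPoint).symm
  have hz' : p z = a := hz
  rw [← hz']
  exact isReduced_of_injective (p.stalkMap z).hom (GeomRed.stalkMap_injective p z)

theorem ringKrullDim_zero_of_flat {A B : Scheme.{u}} (f : A ⟶ B) [Flat f] (a : A)
    (h : ringKrullDim (A.presheaf.stalk a) = 0) : ringKrullDim (B.presheaf.stalk (f a)) = 0 := by
  letI := specializationPreorder A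
  letI := specializationPreorder B
  rw [ringKrullDim_stalk_eq_coheight] at h ⊢
  have hmin : IsMax a := Order.coheight_eq_zero.1 (by exact_mod_cast h)
  have : Order.coheight (f a) = 0 := Order.coheight_eq_zero.2 fun b hb => by
    obtain ⟨a', ha', rfl⟩ := Flat.generalizingMap f (show b ⤳ f a from hb)
    exact (hmin (show a ≤ a' from ha')).map f.continuous
  rw [this]; rfl

end Scheme

variable {S : Scheme.{u}} {F G : Sp S} {U U' : Over S}

/-- Two charts through a point are dominated by a third. -/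
theorem exists_common_chart {a : (yon S).obj U ⟶ F} (ha : RepWith @Etale a)
    {a' : (yon S).obj U' ⟶ F} (ha' : RepWith @Etale a') {u : U.left} {u' : U'.left}
    (h : Points.ofPt a u = Points.ofPt a' u') :
    ∃ (Z : Over S) (p : Z ⟶ U) (q : Z ⟶ U') (z : Z.left),
      Etale p.left ∧ Etale q.left ∧ p.left z = u ∧ q.left z = u' := by
  have sq := ha.1.isPullback' a'
  obtain ⟨z, hz₁, hz₂⟩ := exists_pt_of_isPullback sq (x := Points.ofScheme U u) (t := u')
    (by rw [← Points.ofPt_eq_map_ofScheme]; exact h)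
  rw [ofPt_map_eq] at hz₁
  exact ⟨_, ha.1.fst' a', ha.1.snd a', z, ha'.2 a _ _ sq.flip,
    ha.2 a' _ _ (ha.1.isPullback a'), (Points.schemeEquiv U).injective hz₁, hz₂⟩

/-- An étale invariant property of germs may be read on any chart. -/
theorem hasAt_iff_of_chart {Q : ∀ W : Scheme.{u}, ↥W → Prop}
    (hQ : ∀ ⦃A B : Scheme.{u}⦄ (f : A ⟶ B), Etale f → ∀ a, Q A a ↔ Q B (f a))
    {a : (yon S).obj U ⟶ F} (ha : RepWith @Etale a) (u : U.left) :
    HasAt Q F (Points.ofPt a u) ↔ Q U.left u := by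
  refine ⟨fun ⟨U', a', u', ha', he, hu'⟩ => ?_, fun h => ⟨U, a, u, ha, rfl, h⟩⟩
  obtain ⟨Z, p, q, z, hp, hq, hpz, hqz⟩ := exists_common_chart ha ha' he.symm
  rw [← hpz, ← hQ p.left hp, hQ q.left hq, hqz]
  exact hu'

theorem hasAt_iff_forall_chart (hF : IsAlgSpace F) {Q : ∀ W : Scheme.{u}, ↥W → Prop}
    (hQ : ∀ ⦃A B : Scheme.{u}⦄ (f : A ⟶ B), Etale f → ∀ a, Q A a ↔ Q B (f a)) (x : Points F) :
    HasAt Q F x ↔ ∀ (U : Over S) (a : (yon S).obj U ⟶ F) (u : U.left),
      RepWith @Etale a → Points.ofPt a u = x → Q U.left u := by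
  refine ⟨fun h U a u ha hx => (hasAt_iff_of_chart hQ ha u).1 (hx.symm ▸ h), fun h => ?_⟩
  obtain ⟨U, a, hae, has⟩ := hF.atlas
  obtain ⟨u, rfl⟩ := surjective_ofPt has x
  exact ⟨U, a, u, hae, rfl, h U a u hae rfl⟩

theorem hasAt_map_iff (hF : IsAlgSpace F) {Q : ∀ W : Scheme.{u}, ↥W → Prop}
    (hQ : ∀ ⦃A B : Scheme.{u}⦄ (f : A ⟶ B), Etale f → ∀ a, Q A a ↔ Q B (f a))
    {f : F ⟶ G} (hf : IsEtaleMor f) (x : Points F) :
    HasAt Q F x ↔ HasAt Q G (Points.map f x) := by
  obtain ⟨U, a, hae, has⟩ := hF.atlas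
  obtain ⟨u, rfl⟩ := surjective_ofPt has x
  rw [Points.map_ofPt, hasAt_iff_of_chart hQ hae, hasAt_iff_of_chart hQ (hf a hae)]

theorem dim_eq_of_isEtaleMor (hF : IsAlgSpace F) {f : F ⟶ G} (hf : IsEtaleMor f)
    (hs : IsSurjectiveMor f) : AlgSp.dim F = AlgSp.dim G := by
  obtain ⟨U, a, hae, has⟩ := hF.atlas
  rw [dim_eq_of_chart hae has, dim_eq_of_chart (hf a hae)
    (repWith_surjective_of_ofPt (hf a hae).1 (fun y => by
      obtain ⟨x, rfl⟩ := hs y
      obtain ⟨u, rfl⟩ := surjective_ofPt has x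
      exact ⟨u, (Points.map_ofPt _ _ _).symm⟩))]

theorem hasAt_ringKrullDim_zero_map (hF : IsAlgSpace F) (hG : IsAlgSpace G) {f : F ⟶ G}
    (hf : LocP @Flat f) (x : Points F)
    (hx : HasAt (fun U u => ringKrullDim ↥(U.presheaf.stalk u) = 0) F x) :
    HasAt (fun U u => ringKrullDim ↥(U.presheaf.stalk u) = 0) G (Points.map f x) := by
  obtain ⟨V, b, hbe, hbs⟩ := hG.atlas
  obtain ⟨U, a, h, hae, has, w⟩ := exists_chart_over hF hG f b hbe hbs
  obtain ⟨u, rfl⟩ := surjective_ofPt has x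
  have : Flat h.left := hf a b h hae hbe w
  rw [hasAt_iff_of_chart (fun A B g _ a => by rw [ringKrullDim_stalk_etale g a]) hae] at hx
  refine ⟨V, b, h.left u, hbe, ?_, ringKrullDim_zero_of_flat h.left u hx⟩
  rw [Points.map_ofPt, w, ofPt_map_comp]

theorem isReducedSp_iff_forall_hasAt (hF : IsAlgSpace F) :
    IsReducedSp F ↔
      ∀ x : Points F, HasAt (fun U u => _root_.IsReduced ↥(U.presheaf.stalk u)) F x := by
  have hQ : ∀ ⦃A B : Scheme.{u}⦄ (f : A ⟶ B), Etale f → ∀ a,
      _root_.IsReduced (A.presheaf.stalk a) ↔ _root_.IsReduced (B.presheaf.stalk (f a)) :=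
    fun A B f _ a => isReduced_stalk_etale f a
  refine ⟨fun ⟨U, a, hae, has, hU⟩ x => ?_, fun h => ?_⟩
  · obtain ⟨u, rfl⟩ := surjective_ofPt has x
    have : IsReduced U.left := hU
    exact ⟨U, a, u, hae, rfl, inferInstance⟩
  · obtain ⟨U, a, hae, has⟩ := hF.atlas
    have : ∀ u, _root_.IsReduced (U.left.presheaf.stalk u) := fun u =>
      (hasAt_iff_forall_chart hF hQ _).1 (h (Points.ofPt a u)) U a u hae rfl
    exact ⟨U, a, hae, has, isReduced_of_isReduced_stalk U.left⟩

end Groth.Agent.AlgSpDecent
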