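import Groth.Agent.Lib.AlgSpDecent.DenseOpen
import Groth.Agent.Lib.AlgSpace.Chart
import Mathlib.AlgebraicGeometry.ZariskisMainTheorem

/-!
# Quasi-finite morphisms are finite near minimal points
-/

universe u

set_option backward.isDefEq.respectTransparency.types false

open CategoryTheory CategoryTheory.Limits AlgebraicGeometry AlgSp Topology Opposite
open Groth.Agent.AlgSpace

namespace Groth.Agent.AlgSpDecent

/-- A point in the closure of the range of a quasi-compact morphism generalises to the range. -/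
theorem exists_specializes_of_mem_closure_range {X Y : Scheme.{u}} (f : X ⟶ Y) [QuasiCompact f]
    {y : Y} (hy : y ∈ closure (Set.range f)) : ∃ x, f x ⤳ y := by
  obtain ⟨W, hW, hyW, -⟩ := exists_isAffineOpen_mem_and_subset (X := Y) (x := y) (U := ⊤) trivial
  have : IsAffine W.toScheme := hW
  have : CompactSpace ↥(f ⁻¹ᵁ W).toScheme :=
    QuasiCompact.compactSpace_of_compactSpace (f ∣_ W)
  choose O hO hxO hOW using fun x : (f ⁻¹ᵁ W).toScheme =>
    exists_isAffineOpen_mem_and_subset (X := (f ⁻¹ᵁ W).toScheme) (x := x) (U := ⊤) trivial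
  obtain ⟨T, hT⟩ := isCompact_univ.elim_finite_subcover (fun x => (O x : Set (f ⁻¹ᵁ W).toScheme))
    (fun x => (O x).isOpen) (fun x _ => Set.mem_iUnion.2 ⟨x, hxO x⟩)
  have hy' : (⟨y, hyW⟩ : W.toScheme) ∈ closure (⋃ x ∈ (T : Set _), (f ∣_ W) '' O x) := by
    rw [W.ι.isOpenEmbedding.isInducing.closure_eq_preimage_closure_image]
    refine closure_mono ?_ (mem_closure_iff.2 fun G hG hyG => mem_closure_iff.1 hy _
      (hG.inter W.isOpen) ⟨hyG, hyW⟩ |>.imp (fun a ha => ⟨ha.1.1, ha.2, ha.1.2⟩) : y ∈ closure (Set.range f ∩ W))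
    rintro _ ⟨⟨x, rfl⟩, hx⟩
    obtain ⟨i, hi, hxi⟩ := Set.mem_iUnion₂.1 (hT (Set.mem_univ (⟨x, hx⟩ : (f ⁻¹ᵁ W).toScheme)))
    exact ⟨(f ∣_ W) ⟨x, hx⟩, Set.mem_iUnion₂.2 ⟨i, hi, _, hxi, rfl⟩, morphismRestrict_base_coe f W _⟩
  rw [T.finite_toSet.closure_biUnion] at hy'
  obtain ⟨i, -, hi⟩ := Set.mem_iUnion₂.1 hy'
  have : IsAffine (O i).toScheme := hO i
  let g : (O i).toScheme ⟶ W.toScheme := (O i).ι ≫ (f ∣_ W)
  have hg : Set.range g = (f ∣_ W) '' O i := by
    rw [← (O i).range_ι, ← Set.range_comp]; rfl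
  rw [← hg] at hi
  let φ := g.appTop.hom
  have hnat : ∀ z, (show PrimeSpectrum Γ(W.toScheme, ⊤) from W.toScheme.toSpecΓ (g z)) =
      PrimeSpectrum.comap φ (show PrimeSpectrum _ from (O i).toScheme.toSpecΓ z) := fun z =>
    congrArg (fun k => k z) (Scheme.toSpecΓ_naturality g)
  let e := W.toScheme.isoSpec.hom.homeomorph
  have hmem : e ⟨y, hyW⟩ ∈ closure (PrimeSpectrum.comap φ '' PrimeSpectrum.zeroLocus ((⊥ : Ideal Γ((O i).toScheme, ⊤)) : Set Γ((O i).toScheme, ⊤))) := by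
    refine closure_mono ?_ (image_closure_subset_closure_image e.continuous ⟨_, hi, rfl⟩)
    rintro _ ⟨_, ⟨z, rfl⟩, rfl⟩
    exact ⟨_, by simp, (hnat z).symm⟩
  rw [PrimeSpectrum.closure_image_comap_zeroLocus] at hmem
  obtain ⟨q, hq₁, hq₂⟩ := Ideal.exists_minimalPrimes_le (J := (e ⟨y, hyW⟩).asIdeal) hmem
  obtain ⟨p, hp, -, hpq⟩ := Ideal.exists_comap_eq_of_mem_minimalPrimes φ _ hq₁
  obtain ⟨z, hz⟩ := (O i).toScheme.isoSpec.hom.homeomorph.surjective ⟨p, hp⟩
  refine ⟨((O i).ι z).1, ?_⟩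
  have hsp : e (g z) ⤳ e ⟨y, hyW⟩ := by
    refine (PrimeSpectrum.le_iff_specializes _ _).1 ?_
    change (show PrimeSpectrum Γ(W.toScheme, ⊤) from W.toScheme.toSpecΓ (g z)).asIdeal ≤ _
    rw [hnat]
    change ((show PrimeSpectrum _ from (O i).toScheme.isoSpec.hom.homeomorph z).asIdeal.comap φ) ≤ _
    rw [hz, hpq]
    exact hq₂
  have := (e.isInducing.specializes_iff.1 hsp).map W.ι.continuous
  exact (morphismRestrict_base_coe f W _) ▸ this

/-- Points in one fibre of an integral morphism are incomparable. -/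
theorem eq_of_specializes_of_isIntegralHom {X Y : Scheme.{u}} (q : X ⟶ Y) [IsIntegralHom q]
    {z' z : X} (h : z' ⤳ z) (hq : q z' = q z) : z' = z := by
  obtain ⟨W, hW, hzW, -⟩ := exists_isAffineOpen_mem_and_subset (X := Y) (x := q z) (U := ⊤) trivial
  have : IsAffine W.toScheme := hW
  have hzW' : q z' ∈ W := hq ▸ hzW
  have : IsAffine (q ⁻¹ᵁ W).toScheme := hW.preimage q
  let g := q ∣_ W
  let P : (q ⁻¹ᵁ W).toScheme → PrimeSpectrum Γ((q ⁻¹ᵁ W).toScheme, ⊤) :=
    (q ⁻¹ᵁ W).toScheme.toSpecΓ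
  let := g.appTop.hom.toAlgebra
  have : Algebra.IsIntegral Γ(W.toScheme, ⊤) Γ((q ⁻¹ᵁ W).toScheme, ⊤) :=
    ⟨((HasAffineProperty.iff_of_isAffine (P := @IsIntegralHom)).1
      (inferInstanceAs (IsIntegralHom g))).2⟩
  have hle : (P ⟨z', hzW'⟩).asIdeal ≤ (P ⟨z, hzW⟩).asIdeal :=
    (PrimeSpectrum.le_iff_specializes _ _).2
      (((q ⁻¹ᵁ W).ι.isOpenEmbedding.isInducing.specializes_iff.1 h :
          (⟨z', hzW'⟩ : (q ⁻¹ᵁ W).toScheme) ⤳ ⟨z, hzW⟩).map
        (q ⁻¹ᵁ W).toScheme.toSpecΓ.continuous)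
  have hg : g ⟨z', hzW'⟩ = g ⟨z, hzW⟩ := Subtype.ext (by
    exact ((morphismRestrict_base_coe q W _).trans hq).trans (morphismRestrict_base_coe q W _).symm)
  rcases hle.lt_or_eq with hlt | heq
  · refine absurd (congrArg (fun w => (show PrimeSpectrum _ from W.toScheme.toSpecΓ w).asIdeal) hg) ?_
    have hnat : ∀ w, (show PrimeSpectrum Γ(W.toScheme, ⊤) from W.toScheme.toSpecΓ (g w)) =
        PrimeSpectrum.comap g.appTop.hom (P w) :=
      fun w => congrArg (fun k => k w) (Scheme.toSpecΓ_naturality g)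
    simp only [hnat]
    exact (Ideal.IsIntegral.comap_lt_comap (R := Γ(W.toScheme, ⊤)) hlt).ne
  · exact congrArg Subtype.val
      ((q ⁻¹ᵁ W).toScheme.isoSpec.hom.homeomorph.injective (PrimeSpectrum.ext heq))

/-- A separated quasi-compact quasi-finite morphism is finite near every minimal point of the target. -/
theorem exists_isFinite_restrict_of_isMin {R U : Scheme.{u}} (f : R ⟶ U) [LocallyQuasiFinite f]
    [LocallyOfFiniteType f] [IsSeparated f] [QuasiCompact f] {u : U}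
    (hu : ∀ u' : U, u' ⤳ u → u' = u) : ∃ V : U.Opens, u ∈ V ∧ IsFinite (f ∣_ V) := by
  let i := f.toNormalization
  let q := f.fromNormalization
  have hfac : i ≫ q = f := f.toNormalization_fromNormalization
  have : QuasiCompact (i ≫ q) := by rw [hfac]; infer_instance
  have : QuasiCompact i := QuasiCompact.of_comp i q
  let B : Set f.normalization := closure (Set.range i) \ Set.range i
  have hB : IsClosed B := isClosed_closure.sdiff i.isOpenEmbedding.isOpen_range
  let V : U.Opens := ⟨_, (q.isClosedMap _ hB).isOpen_compl⟩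
  refine ⟨V, ?_, ?_⟩
  · rintro ⟨z, ⟨hz, hzi⟩, hzu⟩
    obtain ⟨r, hr⟩ := exists_specializes_of_mem_closure_range i hz
    refine hzi ⟨r, ?_⟩
    have h1 : q (i r) = q z := (hu _ (hzu ▸ hr.map q.continuous)).trans hzu.symm
    exact eq_of_specializes_of_isIntegralHom q hr h1
  · let j := i ∣_ (q ⁻¹ᵁ V)
    have : IsClosedImmersion j := by
      refine IsClosedImmersion.iff_isPreimmersion.2 ⟨inferInstance, ?_⟩
      have : Set.range j = (q ⁻¹ᵁ V).ι ⁻¹' closure (Set.range i) := by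
        ext ⟨z, hz⟩
        constructor
        · rintro ⟨r, hr⟩
          exact subset_closure ⟨r.1, (morphismRestrict_base_coe i _ r).symm.trans (congrArg Subtype.val hr)⟩
        · intro hzc
          obtain ⟨r, rfl⟩ : z ∈ Set.range i := by
            by_contra h
            exact hz ⟨z, ⟨hzc, h⟩, rfl⟩
          exact ⟨⟨r, hz⟩, Subtype.ext (morphismRestrict_base_coe i _ _)⟩
      rw [this]
      exact isClosed_closure.preimage (q ⁻¹ᵁ V).ι.continuous
    have h : IsIntegralHom ((i ≫ q) ∣_ V) := by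
      rw [morphismRestrict_comp]
      have : IsIntegralHom j := inferInstance
      exact MorphismProperty.comp_mem _ j (q ∣_ V) this (IsZariskiLocalAtTarget.restrict (P := @IsIntegralHom) inferInstance V)
    rw [hfac] at h
    exact (IsFinite.iff_isIntegralHom_and_locallyOfFiniteType _).2
      ⟨h, IsZariskiLocalAtTarget.restrict (P := @LocallyOfFiniteType) ‹_› V⟩

variable {S : Scheme.{u}}

/-- A point with zero-dimensional local ring has no other generalisation. -/
theorem eq_of_specializes_of_dim_zero {U : Scheme.{u}} {u v : U}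
    (h : ringKrullDim ↥(U.presheaf.stalk u) = 0) (hv : v ⤳ u) : v = u := by
  obtain ⟨p, rfl⟩ : v ∈ Set.range (U.fromSpecStalk u) := by rw [Scheme.range_fromSpecStalk]; exact hv
  have : Ring.KrullDimLE 0 ↥(U.presheaf.stalk u) := Ring.krullDimLE_iff.2 (by rw [h]; rfl)
  have hp : p = IsLocalRing.closedPoint (U.presheaf.stalk u) :=
    PrimeSpectrum.ext (Ring.KrullDimLE.eq_maximalIdeal_of_isPrime p.asIdeal)
  rw [hp, Scheme.fromSpecStalk_closedPoint]

/-- A minimal point with quasi-compact relation lies in an open subscheme. -/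
theorem exists_open_scheme_at {X : Sp S} {V R : Over S} {φ : (yon S).obj V ⟶ X} {s t : R ⟶ V}
    [IsAffine V.left] (hφ : RepWith @Etale φ) (sq : IsPullback ((yon S).map t) ((yon S).map s) φ φ)
    [QuasiCompact s.left] {u : ↥V.left} (hu : ∀ u' : ↥V.left, u' ⤳ u → u' = u) :
    ∃ W : Set (Points X), IsOpen W ∧ Points.ofPt φ u ∈ W ∧
      ∃ Y : Over S, Nonempty ((yon S).obj Y ≅ openSub W) := by
  have : Etale s.left := hφ.2 φ _ _ sq
  have := isSeparated_rel sq
  have := locallyQuasiFinite_of_etale s.left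
  obtain ⟨N, huN, hN⟩ := exists_isFinite_restrict_of_isMin s.left hu
  obtain ⟨Q, hQ, huQ, hQN⟩ := exists_isAffineOpen_mem_and_subset (X := V.left) (x := u) (U := N) huN
  have : IsFinite (s.left ∣_ Q) := by
    have h := IsZariskiLocalAtTarget.restrict (P := @IsFinite) hN (N.ι ⁻¹ᵁ Q)
    rw [MorphismProperty.arrow_mk_iso_iff @IsFinite (morphismRestrictRestrict s.left N (N.ι ⁻¹ᵁ Q)),
      show N.ι ''ᵁ (N.ι ⁻¹ᵁ Q) = Q by
        rw [Scheme.Hom.image_preimage_eq_opensRange_inf, Scheme.Opens.opensRange_ι,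
          inf_eq_right.2 (show Q ≤ N from hQN)]] at h
    exact h
  obtain ⟨W, hW, huW, -, hY⟩ := exists_open_scheme_of_finite hφ sq Q hQ huQ
  exact ⟨W, hW, huW, hY⟩

/-- Cancelling a monomorphism from both legs of a cartesian square. -/
theorem isPullback_of_comp_mono' {C : Type*} [Category C] {P A B Z Z' : C} {a : P ⟶ A} {b : P ⟶ B}
    {f : A ⟶ Z} {g : B ⟶ Z} (m : Z ⟶ Z') [Mono m] (h : IsPullback a b (f ≫ m) (g ≫ m)) :
    IsPullback a b f g :=
  ⟨⟨(cancel_mono m).1 (by simpa using h.w)⟩, ⟨PullbackCone.IsLimit.mk _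
    (fun c => h.lift c.fst c.snd (by rw [c.condition_assoc]))
    (fun c => h.lift_fst _ _ _) (fun c => h.lift_snd _ _ _)
    (fun c k h₁ h₂ => h.hom_ext (by rw [h.lift_fst, h₁]) (by rw [h.lift_snd, h₂]))⟩⟩

/-- Composing both legs with a monomorphism preserves cartesian squares. -/
theorem isPullback_comp_mono {C : Type*} [Category C] {P A B Z Z' : C} {a : P ⟶ A} {b : P ⟶ B}
    {f : A ⟶ Z} {g : B ⟶ Z} (m : Z ⟶ Z') [Mono m] (h : IsPullback a b f g) :
    IsPullback a b (f ≫ m) (g ≫ m) :=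
  ⟨⟨by rw [h.w_assoc]⟩, ⟨PullbackCone.IsLimit.mk _
    (fun c => h.lift c.fst c.snd ((cancel_mono m).1 (by simpa using c.condition)))
    (fun c => h.lift_fst _ _ _) (fun c => h.lift_snd _ _ _)
    (fun c k h₁ h₂ => h.hom_ext (by rw [h.lift_fst, h₁]) (by rw [h.lift_snd, h₂]))⟩⟩

/-- A Zariski locally quasi-separated space has a dense open subscheme containing all points of
codimension zero. -/
theorem exists_dense_of_zarLocQS (X : Space S)
    (hX : ∃ (ι : Type u) (Xi : ι → Space S) (j : ∀ i, Xi i ⟶ X),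
      IsZarCover (fun i => (Xi i).obj) (fun i => (j i).hom) ∧ ∀ i, IsQuasiSeparatedSp (Xi i).obj) :
    ∃ (X' : Space S) (j : X' ⟶ X), RepWith @IsOpenImmersion j.hom ∧ X'.obj.obj.IsRepresentable ∧
      Dense (Set.range (Points.map j.hom)) ∧
      ∀ x : Points X.obj, HasAt (fun U u => ringKrullDim ↥(U.presheaf.stalk u) = 0) X.obj x →
        x ∈ Set.range (Points.map j.hom) := by
  obtain ⟨ι, Xi, j, ⟨hj, hjc⟩, hqs⟩ := hX
  -- charts through the pieces, over affine opens of the base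
  have chart : ∀ {U : Over S} (a : (yon S).obj U ⟶ X.obj) (u : ↥U.left), RepWith @Etale a →
      ∃ (O : U.left.Opens) (R : Over S) (s t : R ⟶ Over.mk (O.ι ≫ U.hom)), u ∈ O ∧ IsAffineOpen O ∧
        IsPullback ((yon S).map t) ((yon S).map s)
          ((yon S).map (Over.homMk O.ι rfl : Over.mk (O.ι ≫ U.hom) ⟶ U) ≫ a)
          ((yon S).map (Over.homMk O.ι rfl : Over.mk (O.ι ≫ U.hom) ⟶ U) ≫ a) ∧
        QuasiCompact s.left ∧ ∀ v, (s.left ⁻¹' {v}).Finite := by
    intro U a u ha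
    obtain ⟨i, hi⟩ := hjc (Points.ofPt a u)
    obtain ⟨S₀, hS₀, huS₀, -⟩ := exists_isAffineOpen_mem_and_subset (X := S) (x := U.hom u) (U := ⊤) trivial
    let P : U.left.Opens := U.hom ⁻¹ᵁ S₀ ⊓ ⟨Points.ofPt a ⁻¹' Set.range (Points.map (j i).hom),
      (isOpen_range_map_of_openImmersion (hj i)).preimage (Points.continuous_ofPt a)⟩
    obtain ⟨O, hO, huO, hOP⟩ := exists_isAffineOpen_mem_and_subset (X := U.left) (x := u) (U := P)
      ⟨huS₀, hi⟩
    have : IsAffine (Over.mk (O.ι ≫ U.hom)).left := hO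
    have := hS₀
    let φ := (yon S).map (Over.homMk O.ι rfl : Over.mk (O.ι ≫ U.hom) ⟶ U) ≫ a
    have hφ : RepWith @Etale φ := repWith_etale_restrict ha O
    obtain ⟨g, hg⟩ := exists_factor_of_range (hj i) φ (by
      rintro _ ⟨z, rfl⟩
      obtain ⟨v, rfl⟩ := (Points.schemeEquiv _).surjective z
      change Points.map φ (Points.ofScheme _ v) ∈ _
      rw [← Points.ofPt_eq_map_ofScheme, ofPt_map_comp]
      exact (hOP v.2).2)
    have : Mono (j i).hom := mono_of_repWith _ (repWith_mono (fun _ _ g (_ : IsOpenImmersion g) =>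
      (inferInstance : Mono g)) (hj i))
    obtain ⟨R, s, fst, sq⟩ := hφ.1 φ
    obtain ⟨t, rfl⟩ := (yon S).map_surjective fst
    have sq' : IsPullback ((yon S).map t) ((yon S).map s) g g :=
      isPullback_of_comp_mono' (j i).hom (by rw [hg]; exact sq)
    have hg' : RepWith @Etale g := by
      refine repWith_of_isPullback (isPullback_of_mono g (j i).hom) ?_
      rw [hg]; exact hφ
    have hqc : QuasiCompact s.left := by
      have h1 : QuasiCompact (prod.lift t s).left := prop_lift_of_repWith_diag (hqs i) sq'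
      let v₀ : O.toScheme ⟶ S₀.toScheme := IsOpenImmersion.lift S₀.ι (O.ι ≫ U.hom) (by
        rintro _ ⟨v, rfl⟩; rw [S₀.range_ι]; exact (hOP v.2).1)
      have : IsAffine O.toScheme := hO
      have : IsAffine S₀.toScheme := hS₀
      have hv₀ : v₀ ≫ S₀.ι = O.ι ≫ U.hom := IsOpenImmersion.lift_fac _ _ _
      have h3 := isPullback_comp_mono S₀.ι (IsPullback.of_hasPullback v₀ v₀)
      rw [hv₀] at h3
      have h2 : QuasiCompact (Limits.prod.snd : Over.mk (O.ι ≫ U.hom) ⨯ Over.mk (O.ι ≫ U.hom) ⟶ _).left := by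
        have h4 := isPullback_fst_left (Over.mk (O.ι ≫ U.hom)) (Over.mk (O.ι ≫ U.hom))
        rw [← h4.isoIsPullback_hom_snd _ _ h3]
        infer_instance
      rw [← Limits.prod.lift_snd t s, Over.comp_left]
      infer_instance
    refine ⟨O, R, s, t, huO, hO, sq, hqc, fun v => ?_⟩
    have hdec := isDecent_of_isQuasiSeparatedSp (Xi i).property (hqs i)
    obtain ⟨q, hq, -, hqc'⟩ := hdec (Points.ofPt g v)
    refine ((finite_fibres_of_qc_fieldPt (Xi i).property.diag q hqc' hg').2 R s t sq').subset fun r hr => ?_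
    rw [Set.mem_preimage, Set.mem_singleton_iff] at hr
    rw [Set.mem_preimage, Set.mem_singleton_iff, ofPt_map_comp, ofPt_rel sq' r, hr, hq]
  obtain ⟨W, hW, hd, Y, ⟨e⟩, hmax⟩ := exists_max_open_scheme X fun G hG hne => by
    obtain ⟨x, hx⟩ := hne
    obtain ⟨U, a, -, ha, u, rfl⟩ := exists_affine_chart_at X.property x
    obtain ⟨O, R, s, t, huO, hO, sq, -, hfin⟩ := chart a u ha
    have : IsAffine (Over.mk (O.ι ≫ U.hom)).left := hO
    exact exists_open_scheme_in (repWith_etale_restrict ha O) sq hfin hG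
      ⟨⟨u, huO⟩, by rw [Set.mem_preimage, ofPt_map_comp]; exact hx⟩
  refine ⟨⟨openSub W, (IsAlgSpace.yon_obj Y).of_iso e⟩, ObjectProperty.homMk (openSubι W),
    repWith_openSubι hW, (representableByOfIso e).isRepresentable, ?_⟩
  change Dense (Set.range (Points.map (openSubι W))) ∧ ∀ x, _ → x ∈ Set.range (Points.map (openSubι W))
  rw [range_openSubι]
  refine ⟨hd, ?_⟩
  rintro x ⟨U, a, u, ha, rfl, hdim⟩
  obtain ⟨O, R, s, t, huO, hO, sq, hqc, -⟩ := chart a u ha
  have : IsAffine (Over.mk (O.ι ≫ U.hom)).left := hO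
  obtain ⟨W', hW', huW', hY'⟩ := exists_open_scheme_at (repWith_etale_restrict ha O) sq
    (u := ⟨u, huO⟩) fun v hv => Subtype.ext (eq_of_specializes_of_dim_zero hdim (hv.map O.ι.continuous))
  rw [ofPt_map_comp] at huW'
  exact hmax W' hW' hY' huW'

end Groth.Agent.AlgSpDecent
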