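import Groth.Agent.Lib.AlgSpDecent.FinDeg
import Mathlib.AlgebraicGeometry.Morphisms.Etale
import Mathlib.RingTheory.Unramified.LocalStructure

/-!
# Etale morphisms from affine schemes have bounded fibres
-/

universe u

set_option backward.isDefEq.respectTransparency.types false

open CategoryTheory CategoryTheory.Limits AlgebraicGeometry TensorProduct Polynomial

namespace Groth.Agent.AlgSpDecent

/-- The fibres of a standard étale algebra have dimension at most the degree of the polynomial. -/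
theorem exists_finrank_fibre_le (A S : Type u) [CommRing A] [CommRing S] [Algebra A S]
    [h : Algebra.IsStandardEtale A S] :
    ∃ n, ∀ (L : Type u) [Field L] [Algebra A L],
      Module.Finite L (L ⊗[A] S) ∧ Module.finrank L (L ⊗[A] S) ≤ n := by
  obtain ⟨⟨P⟩⟩ := h
  refine ⟨P.f.natDegree, fun L _ _ => ?_⟩
  let x : L ⊗[A] S := 1 ⊗ₜ P.x
  have hfL : (aeval x) (P.f.map (algebraMap A L)) = 0 := by
    rw [aeval_map_algebraMap, show x = Algebra.TensorProduct.includeRight P.x from rfl,
      aeval_algHom_apply, P.hasMap.1, map_zero]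
  let φ : AdjoinRoot (P.f.map (algebraMap A L)) →ₐ[L] L ⊗[A] S :=
    AdjoinRoot.liftAlgHom _ (Algebra.ofId L (L ⊗[A] S)) x hfL
  have hmon := P.monic_f.map (algebraMap A L)
  have : Module.Finite L (AdjoinRoot (P.f.map (algebraMap A L))) := hmon.finite_adjoinRoot
  let R := φ.range
  have hx : x ∈ R := ⟨AdjoinRoot.root _, AdjoinRoot.liftAlgHom_root _ _ _ hfL⟩
  have hR : Module.Finite L R :=
    Module.Finite.of_surjective φ.rangeRestrict.toLinearMap φ.rangeRestrict_surjective
  let xR : R := ⟨x, hx⟩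
  let v : A →+* R := (algebraMap L R).comp (algebraMap A L)
  let : Algebra A R := v.toAlgebra
  let ι : R →ₐ[A] L ⊗[A] S :=
    { (R.val : R →+* L ⊗[A] S) with commutes' := fun a => (IsScalarTower.algebraMap_apply A L (L ⊗[A] S) a).symm }
  have hg : IsUnit (aeval xR P.g) := by
    have hinj : Function.Injective (Algebra.lmul L R (aeval xR P.g)) := by
      intro a b hab
      have hu : IsUnit (ι (aeval xR P.g)) := by
        rw [← aeval_algHom_apply, show ι xR = Algebra.TensorProduct.includeRight P.x from rfl,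
          aeval_algHom_apply]
        exact P.hasMap.2.map _
      refine Subtype.ext (hu.mul_left_cancel ?_)
      have := congrArg ι hab
      change ι (aeval xR P.g * a) = ι (aeval xR P.g * b) at this
      rwa [map_mul, map_mul] at this
    obtain ⟨b, hb⟩ := LinearMap.injective_iff_surjective.1 hinj 1
    exact IsUnit.of_mul_eq_one b hb
  have hm : P.HasMap xR := by
    refine ⟨Subtype.ext ?_, hg⟩
    change ι (aeval xR P.f) = 0
    rw [← aeval_algHom_apply, show ι xR = Algebra.TensorProduct.includeRight P.x from rfl,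
      aeval_algHom_apply, P.hasMap.1, map_zero]
  let l : S →ₐ[A] R := (P.lift xR hm).comp P.equivRing.toAlgHom
  have hl : ι.comp l = Algebra.TensorProduct.includeRight := by
    apply P.hom_ext
    simp [l]
    rfl
  have htop : R = ⊤ := by
    refine eq_top_iff.2 fun z _ => ?_
    induction z using TensorProduct.induction_on with
    | zero => exact zero_mem R
    | tmul r s =>
      rw [← mul_one r, ← smul_eq_mul, ← TensorProduct.smul_tmul']
      exact R.smul_mem (show (Algebra.TensorProduct.includeRight : S →ₐ[A] L ⊗[A] S) s ∈ R from hl ▸ (l s).2) r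
    | add a b ha hb => exact add_mem (ha trivial) (hb trivial)
  have hs : Function.Surjective φ := (AlgHom.range_eq_top φ).1 htop
  refine ⟨Module.Finite.of_surjective φ.toLinearMap hs,
    (LinearMap.finrank_le_finrank_of_surjective (f := φ.toLinearMap) hs).trans ?_⟩
  rw [(AdjoinRoot.powerBasis' hmon).finrank, AdjoinRoot.powerBasis'_dim]
  exact Polynomial.natDegree_map_le

variable {K : Type u} [Field K] {n m : ℕ}

theorem finLE_zero_of_isEmpty {T : Scheme.{u}} [IsEmpty T]
    (c : T ⟶ Spec (CommRingCat.of K)) : FinLE n c := by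
  obtain ⟨B, _, _, e, rfl⟩ := exists_spec_form c
  have : IsEmpty (PrimeSpectrum B) := e.hom.homeomorph.toEquiv.symm.isEmpty
  have : Subsingleton B := PrimeSpectrum.isEmpty_iff_subsingleton.1 this
  rw [finLE_iso_comp_iff, finLE_spec_iff]
  exact ⟨inferInstance, by simp [Module.finrank_zero_of_subsingleton]⟩

theorem finLE_coprod {X Y : Scheme.{u}} {a : X ⟶ Spec (CommRingCat.of K)}
    {b : Y ⟶ Spec (CommRingCat.of K)} (ha : FinLE n a) (hb : FinLE m b) :
    FinLE (n + m) (coprod.desc a b) := by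
  have := ha.isAffine
  have := hb.isAffine
  obtain ⟨B, _, _, e, rfl, hB, hBn⟩ := exists_spec_form' ha
  obtain ⟨C, _, _, e', rfl, hC, hCm⟩ := exists_spec_form' hb
  let ε := coprod.mapIso e e' ≪≫ asIso (coprodSpec B C)
  have : ε.hom ≫ Spec.map (CommRingCat.ofHom (algebraMap K (B × C))) =
      coprod.desc (e.hom ≫ Spec.map (CommRingCat.ofHom (algebraMap K B)))
        (e'.hom ≫ Spec.map (CommRingCat.ofHom (algebraMap K C))) := by
    ext
    · simp only [ε, Iso.trans_hom, coprod.mapIso_hom, asIso_hom, coprod.inl_map_assoc, coprodSpec_inl_assoc, coprod.inl_desc, Category.assoc, ← Spec.map_comp]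
      rfl
    · simp only [ε, Iso.trans_hom, coprod.mapIso_hom, asIso_hom, coprod.inr_map_assoc, coprodSpec_inr_assoc, coprod.inr_desc, Category.assoc, ← Spec.map_comp]
      rfl
  rw [← this, finLE_iso_comp_iff, finLE_spec_iff]
  exact ⟨inferInstance, by rw [Module.finrank_prod]; omega⟩

theorem finLE_sup {P : Scheme.{u}} {c : P ⟶ Spec (CommRingCat.of K)} {O₁ O₂ : P.Opens}
    (h₁ : FinLE n (O₁.ι ≫ c)) (h₂ : FinLE m (O₂.ι ≫ c)) : FinLE (n + m) ((O₁ ⊔ O₂).ι ≫ c) := by
  let π : O₁.toScheme ⨿ O₂.toScheme ⟶ (O₁ ⊔ O₂).toScheme :=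
    coprod.desc (P.homOfLE le_sup_left) (P.homOfLE le_sup_right)
  have : Flat π := by
    rw [IsZariskiLocalAtSource.iff_of_openCover (P := @Flat) (Scheme.IsLocallyDirected.openCover _)]
    rintro ⟨_ | _⟩
    · change Flat (coprod.inl ≫ π); rw [coprod.inl_desc]; infer_instance
    · change Flat (coprod.inr ≫ π); rw [coprod.inr_desc]; infer_instance
  have : Surjective π := ⟨fun x => by
    rcases (x.2 : x.1 ∈ O₁ ⊔ O₂) with hx | hx
    · exact ⟨(coprod.inl : _ ⟶ O₁.toScheme ⨿ O₂.toScheme) ⟨x.1, hx⟩, Subtype.ext (by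
        rw [← Scheme.Hom.comp_apply, coprod.inl_desc, Scheme.homOfLE_apply])⟩
    · exact ⟨(coprod.inr : _ ⟶ O₁.toScheme ⨿ O₂.toScheme) ⟨x.1, hx⟩, Subtype.ext (by
        rw [← Scheme.Hom.comp_apply, coprod.inr_desc, Scheme.homOfLE_apply])⟩⟩
  refine finLE_of_surjective_flat π ?_
  have : π ≫ (O₁ ⊔ O₂).ι ≫ c = coprod.desc (O₁.ι ≫ c) (O₂.ι ≫ c) := by ext <;> simp [π]
  rw [this]
  exact finLE_coprod h₁ h₂

/-- An étale morphism from an affine scheme has bounded fibres. -/
theorem exists_finLE_of_etale {W U : Scheme.{u}} [IsAffine W] (f : W ⟶ U) [Etale f] :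
    ∃ n, ∀ (L : Type u) [Field L] (y : Spec (CommRingCat.of L) ⟶ U), FinLE n (pullback.snd f y) := by
  have hloc : ∀ w : W, ∃ (A B : Type u) (_ : CommRing A) (_ : CommRing B) (_ : Algebra A B)
      (_ : Algebra.IsStandardEtale A B) (k : Spec (CommRingCat.of A) ⟶ U)
      (j : Spec (CommRingCat.of B) ⟶ W) (_ : IsOpenImmersion k) (_ : IsOpenImmersion j),
      j ≫ f = Spec.map (CommRingCat.ofHom (algebraMap A B)) ≫ k ∧ w ∈ j.opensRange := by
    intro w
    obtain ⟨U₀, hU₀, hwU, -⟩ := exists_isAffineOpen_mem_and_subset (X := U) (x := f w) (U := ⊤) trivial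
    obtain ⟨V₀, hV₀, hwV, hVU⟩ := exists_isAffineOpen_mem_and_subset (X := W) (x := w)
      (U := f ⁻¹ᵁ U₀) hwU
    have hr : (f.appLE U₀ V₀ hVU).hom.Etale :=
      HasRingHomProperty.appLE (P := @Etale) f ‹_› ⟨U₀, hU₀⟩ ⟨V₀, hV₀⟩ hVU
    let : Algebra Γ(U, U₀) Γ(W, V₀) := (f.appLE U₀ V₀ hVU).hom.toAlgebra
    have : Algebra.Etale Γ(U, U₀) Γ(W, V₀) := hr
    let q := hV₀.primeIdealOf ⟨w, hwV⟩
    have : Algebra.IsEtaleAt Γ(U, U₀) q.asIdeal := inferInstance
    obtain ⟨g, hgq, hg⟩ := Algebra.IsEtaleAt.exists_isStandardEtale (R := Γ(U, U₀)) q.asIdeal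
    refine ⟨Γ(U, U₀), Localization.Away g, _, _, _, hg, hU₀.fromSpec,
      Spec.map (CommRingCat.ofHom (algebraMap Γ(W, V₀) (Localization.Away g))) ≫ hV₀.fromSpec,
      inferInstance, inferInstance, ?_, ?_⟩
    · rw [Category.assoc, ← IsAffineOpen.SpecMap_appLE_fromSpec f hU₀ hV₀ hVU, ← Spec.map_comp_assoc]
      congr 2
    · have : q ∈ Set.range (Spec.map (CommRingCat.ofHom (algebraMap Γ(W, V₀) (Localization.Away g)))) := by
        change q ∈ Set.range (PrimeSpectrum.comap (algebraMap Γ(W, V₀) (Localization.Away g)))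
        rw [PrimeSpectrum.localization_away_comap_range (Localization.Away g) g]
        exact hgq
      obtain ⟨z, hz⟩ := this
      exact ⟨z, by rw [Scheme.Hom.comp_apply, hz, IsAffineOpen.fromSpec_primeIdealOf]⟩
  choose A B iA iB iAB hAB k j hk hj hjk hw using hloc
  obtain ⟨t, ht⟩ := (CompactSpace.isCompact_univ (X := W)).elim_finite_subcover
    (fun w => ((j w).opensRange : Set W)) (fun w => (j w).opensRange.isOpen)
    (fun w _ => Set.mem_iUnion.2 ⟨w, hw w⟩)
  choose d hd using fun w => exists_finrank_fibre_le (A w) (B w)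
  refine ⟨∑ w ∈ t, d w, fun L _ y => ?_⟩
  let O := fun w => pullback.fst f y ⁻¹ᵁ (j w).opensRange
  have hO : ∀ w, FinLE (d w) ((O w).ι ≫ pullback.snd f y) := by
    intro w
    by_cases hy : IsEmpty (O w).toScheme
    · exact finLE_zero_of_isEmpty _
    obtain ⟨⟨p, hp⟩⟩ := not_isEmpty_iff.1 hy
    have hyr : Set.range y ⊆ Set.range (k w) := by
      rintro _ ⟨z, rfl⟩
      obtain ⟨v, hv⟩ := hp
      have hz : z = pullback.snd f y p :=
        @Subsingleton.elim _ (inferInstanceAs (Subsingleton (PrimeSpectrum L))) _ _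
      refine ⟨Spec.map (CommRingCat.ofHom (algebraMap (A w) (B w))) v, ?_⟩
      rw [hz, ← Scheme.Hom.comp_apply, ← hjk, Scheme.Hom.comp_apply, hv,
        ← Scheme.Hom.comp_apply, pullback.condition, Scheme.Hom.comp_apply]
    let y' := IsOpenImmersion.lift (k w) y hyr
    have hy' : y' ≫ k w = y := IsOpenImmersion.lift_fac _ _ _
    let : Algebra (A w) L := (Spec.preimage y').hom.toAlgebra
    have hy'' : y' = Spec.map (CommRingCat.ofHom (algebraMap (A w) L)) := (Spec.map_preimage y').symm
    -- the piece is the pullback along the standard étale map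
    let r := pullback.fst (pullback.fst f y) (j w)
    have hr : r.opensRange = O w := Scheme.Hom.opensRange_pullbackFst _ _
    have s1 : IsPullback (pullback.snd (pullback.fst f y) (j w)) (r ≫ pullback.snd f y) (j w ≫ f) y :=
      (IsPullback.of_hasPullback (pullback.fst f y) (j w)).flip.paste_vert (IsPullback.of_hasPullback f y)
    have s1' : IsPullback (pullback.snd (pullback.fst f y) (j w)) (r ≫ pullback.snd f y)
        (Spec.map (CommRingCat.ofHom (algebraMap (A w) (B w))) ≫ k w) (y' ≫ k w) := by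
      rw [hy', ← hjk]; exact s1
    have s2' : IsPullback (pullback.snd (pullback.fst f y) (j w)) (r ≫ pullback.snd f y)
        (Spec.map (CommRingCat.ofHom (algebraMap (A w) (B w)))) y' :=
      ⟨⟨(cancel_mono (k w)).1 (by simpa only [Category.assoc] using s1'.w)⟩,
        ⟨PullbackCone.IsLimit.mk _ (fun c => s1'.lift c.fst c.snd (by rw [c.condition_assoc]))
          (fun c => s1'.lift_fst _ _ _) (fun c => s1'.lift_snd _ _ _)
          (fun c m h1 h2 => s1'.hom_ext (h1.trans (s1'.lift_fst _ _ _).symm)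
            (h2.trans (s1'.lift_snd _ _ _).symm))⟩⟩
    have s2 : IsPullback (pullback.snd (pullback.fst f y) (j w)) (r ≫ pullback.snd f y)
        (Spec.map (CommRingCat.ofHom (algebraMap (A w) (B w))))
        (Spec.map (CommRingCat.ofHom (algebraMap (A w) L))) := hy'' ▸ s2'
    let ε : pullback (pullback.fst f y) (j w) ≅ Spec (CommRingCat.of (L ⊗[A w] B w)) :=
      s2.flip.isoPullback ≪≫ pullbackSpecIso (A w) L (B w)
    have hε : ε.hom ≫ Spec.map (CommRingCat.ofHom (algebraMap L (L ⊗[A w] B w))) =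
        r ≫ pullback.snd f y := by
      simp [ε, ← pullbackSpecIso_inv_fst']
    have h1 : FinLE (d w) (r ≫ pullback.snd f y) := by
      rw [← hε, finLE_iso_comp_iff, finLE_spec_iff]
      exact hd w L
    rw [← hr, ← finLE_iso_comp_iff r.isoOpensRange, Scheme.Hom.isoOpensRange_hom_ι_assoc]
    exact h1
  classical
  have hsup : ∀ s : Finset W, FinLE (∑ w ∈ s, d w) ((s.sup O).ι ≫ pullback.snd f y) := by
    intro s
    induction s using Finset.induction_on with
    | empty =>
      have : IsEmpty ((∅ : Finset W).sup O).toScheme := ⟨fun x => by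
        have h : x.1 ∈ (⊥ : (pullback f y).Opens) := Finset.sup_empty (f := O) ▸ x.2
        exact h⟩
      exact finLE_zero_of_isEmpty _
    | @insert w s hws ih =>
      rw [Finset.sum_insert hws]
      rw [Finset.sup_insert]
      exact finLE_sup (hO w) ih
  have htop : t.sup O = ⊤ := by
    refine top_le_iff.1 fun p _ => ?_
    obtain ⟨w, hwt, hpw⟩ := Set.mem_iUnion₂.1 (ht (Set.mem_univ (pullback.fst f y p)))
    exact Finset.le_sup (f := O) hwt hpw
  have h := hsup t
  rw [htop] at h
  exact (finLE_iso_comp_iff (pullback f y).topIso _).1 h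

end Groth.Agent.AlgSpDecent
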