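import Groth.Agent.Lib.AlgSpDecent.Basic

/-!
# Decent morphisms
-/

universe u

open CategoryTheory CategoryTheory.Limits AlgebraicGeometry Opposite AlgSp

noncomputable section

namespace Groth.Agent.AlgSpDecent

variable {S : Scheme.{u}} {F G H P X Y Z : Sp S}

theorem mono_map_homMk {T : Over S} {W : Scheme.{u}} (i : W ⟶ T.left) [Mono i] :
    Mono ((yon S).map (Over.homMk (U := Over.mk (i ≫ T.hom)) (V := T) i rfl)) := by
  have : Mono (Over.homMk (U := Over.mk (i ≫ T.hom)) (V := T) i rfl) :=
    (Over.forget S).mono_of_mono_map (inferInstanceAs (Mono i))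
  exact @Functor.map_mono _ _ _ _ (yon S) _ _ _ _ this

/-- Decency of the source from decency of the target and of the morphism. -/
theorem isDecent_source {f : X ⟶ Y} (hf : IsDecentMor f) (hY : IsDecent Y) : IsDecent X := by
  intro x
  obtain ⟨q, hq, hqm, hqq⟩ := hY (Points.map f x)
  have sq : IsPullback (pullback.fst f q.toHom) (pullback.snd f q.toHom) f q.toHom :=
    IsPullback.of_hasPullback _ _
  obtain ⟨w, hw⟩ := mem_range_map_fst sq x
    (by obtain ⟨z, hz⟩ := exists_map_toHom_eq q; exact ⟨z, hz.trans hq⟩)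
  obtain ⟨r, hr, hrm, hrq⟩ := hf q.toHom _ _ sq w
  have h := HasMonoQC.map (i := pullback.fst f q.toHom)
    ((RepWith (S := S) @QuasiCompact).of_isPullback sq.flip hqq) ⟨r, hr, hrm, hrq⟩
  rwa [hw] at h

/-- Decent morphisms are stable under base change. -/
theorem isDecentMor_baseChange {fst : P ⟶ X} {snd : P ⟶ Z} {f : X ⟶ Y} {g : Z ⟶ Y}
    (sq : IsPullback fst snd f g) (hf : IsDecentMor f) : IsDecentMor snd :=
  fun _ _ g' fst' snd' sq' => hf (g' ≫ g) (fst' ≫ fst) snd' (sq'.paste_horiz sq)

theorem isDecentMor_comp {f : X ⟶ Y} {g : Y ⟶ Z} (hf : IsDecentMor f) (hg : IsDecentMor g) :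
    IsDecentMor (f ≫ g) := by
  intro T F' t fst snd sq
  have sqY : IsPullback (pullback.fst g t) (pullback.snd g t) g t := IsPullback.of_hasPullback _ _
  let m : F' ⟶ pullback g t :=
    sqY.lift (fst ≫ f) snd (by rw [Category.assoc]; exact sq.w)
  have sq' : IsPullback fst m f (pullback.fst g t) :=
    IsPullback.of_bot (by simpa [m] using sq) (by simp [m]) sqY
  exact isDecent_source (isDecentMor_baseChange sq' hf) (hg t _ _ sqY)

/-- It suffices to test decency of a morphism on affine schemes over the target. -/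
theorem isDecentMor_of_affine {f : X ⟶ Y}
    (h : ∀ (Z : Over S) (g : (yon S).obj Z ⟶ Y) (P : Sp S) (fst : P ⟶ X)
      (snd : P ⟶ (yon S).obj Z), IsAffine Z.left → IsPullback fst snd f g → IsDecent P) :
    IsDecentMor f := by
  intro T F' g fst snd sq w
  let t : ↥T.left := Points.toScheme T (Points.map snd w)
  obtain ⟨V, hV, htV, -⟩ := exists_isAffineOpen_mem_and_subset (X := T.left) (x := t) (U := ⊤) trivial
  let Vs : Over S := Over.mk (V.ι ≫ T.hom)
  let κ : Over S := Over.mk ((V.toScheme.fromSpecResidueField ⟨t, htV⟩) ≫ Vs.hom)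
  let j : Vs ⟶ T := Over.homMk V.ι rfl
  let i : κ ⟶ Vs := Over.homMk (V.toScheme.fromSpecResidueField ⟨t, htV⟩) rfl
  have hm : Mono ((yon S).map (i ≫ j)) := by
    have hi : Mono (i ≫ j) :=
      (Over.forget S).mono_of_mono_map
        (inferInstanceAs (Mono (V.toScheme.fromSpecResidueField ⟨t, htV⟩ ≫ V.ι)))
    exact @Functor.map_mono _ _ _ _ (yon S) _ _ _ _ hi
  have hq : RepWith @QuasiCompact ((yon S).map (i ≫ j)) := by
    have : Subsingleton ↥(Spec (V.toScheme.residueField ⟨t, htV⟩)) :=
      inferInstanceAs (Subsingleton (PrimeSpectrum (V.toScheme.residueField ⟨t, htV⟩)))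
    exact (repWith_yon_map_iff _ _).2
      (quasiCompact_of_subsingleton (V.toScheme.fromSpecResidueField ⟨t, htV⟩ ≫ V.ι))
  -- the fibre over the point
  have sqt : IsPullback (pullback.fst snd ((yon S).map (i ≫ j)))
      (pullback.snd snd ((yon S).map (i ≫ j))) snd ((yon S).map (i ≫ j)) :=
    IsPullback.of_hasPullback _ _
  have sqV : IsPullback (pullback.fst snd ((yon S).map j))
      (pullback.snd snd ((yon S).map j)) snd ((yon S).map j) :=
    IsPullback.of_hasPullback _ _
  let m : pullback snd ((yon S).map (i ≫ j)) ⟶ pullback snd ((yon S).map j) :=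
    sqV.lift (pullback.fst _ _) (pullback.snd _ _ ≫ (yon S).map i)
      (by rw [Category.assoc, ← Functor.map_comp]; exact sqt.w)
  have sqi : IsPullback m (pullback.snd snd ((yon S).map (i ≫ j)))
      (pullback.snd snd ((yon S).map j)) ((yon S).map i) :=
    IsPullback.of_right (by simpa [m] using sqt) (by simp [m]) sqV
  have hPV : IsDecent (pullback snd ((yon S).map j)) :=
    h Vs _ _ _ _ (show IsAffine V.toScheme from hV) (sqV.paste_horiz sq)
  have hPt : IsDecent (pullback snd ((yon S).map (i ≫ j))) :=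
    isDecent_of_isPullback (IsAlgSpace.yon_obj Vs).diag hPV (isDecent_yon κ) sqi
  have hz : ∃ z, Points.map ((yon S).map (i ≫ j)) z = Points.map snd w := by
    refine ⟨Points.ofScheme κ (IsLocalRing.closedPoint _), ?_⟩
    rw [Points.map_ofPt, Category.id_comp, ofPt_map_eq]
    have : (i ≫ j).left (IsLocalRing.closedPoint _) = t := by
      change (V.toScheme.fromSpecResidueField ⟨t, htV⟩ ≫ V.ι) (IsLocalRing.closedPoint _) = t
      rw [Scheme.Hom.comp_apply, Scheme.fromSpecResidueField_apply]
      rfl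
    rw [this]
    exact Points.ofScheme_toScheme T _
  obtain ⟨w', hw'⟩ := mem_range_map_fst sqt w (by obtain ⟨z, hz⟩ := hz; exact ⟨z, hz⟩)
  have h' := HasMonoQC.map (i := pullback.fst snd ((yon S).map (i ≫ j)))
    ((RepWith (S := S) @QuasiCompact).of_isPullback sqt.flip hq) (hPt w')
  rwa [hw'] at h'

/-- Monomorphic points pull back along representable morphisms. -/
theorem exists_mono_point_of_representable {f : X ⟶ Y} (hf : Representable f) (x : Points X)
    {q : FieldPt Y} (hq : Points.mk q = Points.map f x) (hm : Mono q.toHom) :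
    ∃ p : FieldPt X, Points.mk p = x ∧ Mono p.toHom := by
  obtain ⟨W, s, fst, sq⟩ := hf q.toHom
  obtain ⟨w, hw⟩ := mem_range_map_fst sq x
    (by obtain ⟨z, hz⟩ := exists_map_toHom_eq q; exact ⟨z, hz.trans hq⟩)
  obtain ⟨r, rfl, hrm, -⟩ := isDecent_yon W w
  have hfst : Mono fst := sq.mono_fst_of_mono
  refine ⟨r.map fst, by rw [← hw]; exact (Points.map_mk fst r).symm, ?_⟩
  rw [FieldPt.toHom_map]
  exact @mono_comp _ _ _ _ _ _ hrm _ hfst

end Groth.Agent.AlgSpDecent
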