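import Groth.Agent.Lib.AlgSpDecent.MonoEmb
import Groth.Agent.Lib.AlgSpDecent.EtaleBdd
import Groth.Agent.Lib.AlgSpDecent.Mor
import Groth.Agent.Lib.AlgSpace.LocP
import Groth.Agent.Lib.AlgSpace.Diag

/-!
# Points with finite fibres, decent spaces
-/

universe u

set_option backward.isDefEq.respectTransparency.types false

open CategoryTheory CategoryTheory.Limits AlgebraicGeometry AlgSp Opposite Topology
open Groth.Agent.AlgSpace

namespace Groth.Agent.AlgSpDecent

variable {S : Scheme.{u}} {F : Sp S} {U : Over S}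

/-- The fibres over a point of all etale charts from affine schemes are finite. -/
def FinFibres (x : Points F) : Prop :=
  ∀ (B : Over S) (ψ : (yon S).obj B ⟶ F), IsAffine B.left → RepWith @Etale ψ →
    (Points.ofPt ψ ⁻¹' {x}).Finite

theorem exists_affine_chart_at (hX : IsAlgSpace F) (y : Points F) :
    ∃ (U : Over S) (φ : (yon S).obj U ⟶ F),
      IsAffine U.left ∧ RepWith @Etale φ ∧ y ∈ Set.range (Points.ofPt φ) := by
  obtain ⟨A, q, hqe, hqs⟩ := hX.atlas
  obtain ⟨a, rfl⟩ := surjective_ofPt hqs y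
  obtain ⟨O, hO, haO, -⟩ := exists_isAffineOpen_mem_and_subset (X := A.left) (x := a) (U := ⊤) trivial
  exact ⟨Over.mk (O.ι ≫ A.hom), _, hO, repWith_etale_restrict hqe O, ⟨a, haO⟩, ofPt_map_comp _ q _⟩

/-- A monomorphic point with finite fibres is quasi-compact. -/
theorem repWith_quasiCompact_of_finFibres (hX : IsAlgSpace F) {p : FieldPt F} [Mono p.toHom]
    (hfin : FinFibres (Points.mk p)) : RepWith @QuasiCompact p.toHom := by
  have hrep : ∀ {A : Over S} (φ : (yon S).obj A ⟶ F), Representable φ :=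
    fun φ => Functor.relativelyRepresentable.of_diag hX.diag φ
  refine repWith_of_affine (hrep _) fun {T} hT g => ?_
  obtain ⟨V, snd, fst, sqV⟩ := hrep p.toHom g
  refine ⟨V, fst, snd, sqV, (quasiCompact_iff_compactSpace _).2 ?_⟩
  have hloc : ∀ v : T.left, ∃ (W : Over S) (w : W ⟶ V) (O : T.left.Opens),
      CompactSpace W.left ∧ v ∈ O ∧ snd.left ⁻¹' O ⊆ Set.range w.left := by
    intro v
    obtain ⟨B, ψ, hB, hψ, hvB⟩ := exists_affine_chart_at hX (Points.ofPt g v)
    obtain ⟨W, b, fW, sqW⟩ := hψ.1 g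
    obtain ⟨a, rfl⟩ := (yon S).map_surjective fW
    obtain ⟨b₀, hb₀⟩ := hvB
    obtain ⟨w₀, hw₀, hw₀'⟩ := exists_pt_of_isPullback sqW (x := Points.ofScheme B b₀) (t := v)
      (by rw [← Points.ofPt_eq_map_ofScheme]; exact hb₀)
    obtain ⟨O', hO', hwO', -⟩ := exists_isAffineOpen_mem_and_subset (X := W.left) (x := w₀) (U := ⊤) trivial
    have : Etale b.left := hψ.2 g _ _ sqW
    let o : Over.mk (O'.ι ≫ W.hom) ⟶ W := Over.homMk O'.ι rfl
    obtain ⟨Z, c, fZ, sqZ⟩ := hrep ψ p.toHom
    obtain ⟨z, rfl⟩ := (yon S).map_surjective fZ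
    have hfin : Finite Z.left := by
      have := (hfin B ψ hB hψ).to_subtype
      exact Finite.of_injective (fun t => (⟨z.left t, by
        rw [preimage_mk_eq_range sqZ.flip]; exact ⟨t, rfl⟩⟩ : Points.ofPt ψ ⁻¹' {Points.mk p}))
        fun t t' e => injective_of_mono_point sqZ.flip (congrArg Subtype.val e)
    have : CompactSpace Z.left := Finite.compactSpace
    have : IsAffine (Over.mk (O'.ι ≫ W.hom)).left := hO'
    have : QuasiCompact z.left := (quasiCompact_iff_compactSpace _).2 inferInstance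
    have sP := IsPullback.of_hasPullback (o ≫ a) z
    have : QuasiCompact (pullback.fst (o ≫ a) z).left :=
      MorphismProperty.of_isPullback (P := @QuasiCompact) (sP.map (Over.forget S)).flip ‹_›
    have : CompactSpace (pullback (o ≫ a) z).left :=
      QuasiCompact.compactSpace_of_compactSpace (pullback.fst (o ≫ a) z).left
    obtain ⟨l, hl⟩ := (yon S).map_surjective (sqV.lift
      ((yon S).map (pullback.snd (o ≫ a) z ≫ c)) ((yon S).map (pullback.fst (o ≫ a) z ≫ o ≫ b)) (by
        simp only [Functor.map_comp, Category.assoc, ← sqW.w, ← sqZ.w]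
        rw [← Functor.map_comp_assoc, ← Functor.map_comp_assoc, ← Functor.map_comp_assoc, Category.assoc,
          pullback.condition]))
    have hlsnd : l ≫ snd = pullback.fst (o ≫ a) z ≫ o ≫ b :=
      (yon S).map_injective (by rw [Functor.map_comp, hl, IsPullback.lift_snd])
    refine ⟨_, l, ⟨b.left '' O', b.left.isOpenMap _ O'.isOpen⟩, ‹_›, ⟨w₀, hwO', hw₀'⟩, fun y hy => ?_⟩
    obtain ⟨w, hw, hwy⟩ := hy
    have haw : a.left w ∈ Set.range z.left := by
      rw [← preimage_mk_eq_range sqZ.flip, Set.mem_preimage, Set.mem_singleton_iff, ← ofPt_map_comp,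
        sqW.w, ofPt_map_comp, hwy, ← ofPt_map_comp, ← sqV.w]
      obtain ⟨f₀, rfl⟩ := (yon S).map_surjective fst
      rw [ofPt_map_comp]
      exact Points.ofPt_toHom p _
    obtain ⟨t, ht⟩ := haw
    obtain ⟨e, he, -⟩ := Scheme.Pullback.exists_preimage_pullback (f := (o ≫ a).left) (g := z.left)
      (⟨w, hw⟩ : O'.toScheme) t (by rw [ht]; rfl)
    have : Mono ((yon S).map snd) := sqV.mono_snd_of_mono
    have := mono_left snd
    refine ⟨(sP.map (Over.forget S)).isoPullback.inv e, snd.left.injective ?_⟩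
    rw [← hwy, ← Scheme.Hom.comp_apply l.left, ← Over.comp_left, hlsnd, Over.comp_left, Over.comp_left,
      Scheme.Hom.comp_apply, Scheme.Hom.comp_apply]
    have hfst : (sP.map (Over.forget S)).isoPullback.inv ≫ (pullback.fst (o ≫ a) z).left =
        pullback.fst (o ≫ a).left z.left := (sP.map (Over.forget S)).isoPullback_inv_fst
    exact congrArg (fun q : O'.toScheme => b.left (O'.ι q)) ((congr($hfst e)).trans he)
  choose W w O hW hvO hO using hloc
  have := hT
  obtain ⟨s, hs⟩ := (CompactSpace.isCompact_univ (X := T.left)).elim_finite_subcover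
    (fun v => (O v : Set T.left)) (fun v => (O v).isOpen) (fun v _ => Set.mem_iUnion.2 ⟨v, hvO v⟩)
  refine ⟨?_⟩
  rw [show (Set.univ : Set V.left) = ⋃ v ∈ s, Set.range (w v).left from
    (Set.eq_univ_iff_forall.2 fun y => by
      obtain ⟨v, hv, hy⟩ := Set.mem_iUnion₂.1 (hs (Set.mem_univ (snd.left y)))
      exact Set.mem_iUnion₂.2 ⟨v, hv, hO v hy⟩).symm]
  exact s.finite_toSet.isCompact_biUnion fun v _ => isCompact_range (w v).left.continuous

/-- A point with finite fibres on affine charts and one finite relation fibre is monomorphic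
quasi-compact. -/
theorem hasMonoQC_of_finFibres (hX : IsAlgSpace F) {x : Points F} (hfin : FinFibres x)
    {φ : (yon S).obj U ⟶ F} (hU : IsAffine U.left) (hφ : RepWith @Etale φ)
    (hx : x ∈ Set.range (Points.ofPt φ))
    (hR : ∀ (R : Over S) (s t : R ⟶ U), IsPullback ((yon S).map t) ((yon S).map s) φ φ →
      (Points.ofPt ((yon S).map t ≫ φ) ⁻¹' {x}).Finite) : HasMonoQC F x := by
  obtain ⟨p, hp, hm, -⟩ := exists_mono_of_finite_fibres hX.diag hφ hx (hfin U φ hU hφ) hR
  subst hp
  exact ⟨p, rfl, hm, repWith_quasiCompact_of_finFibres hX hfin⟩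

/-- A quasi-compact field-valued point has finite fibres in affine charts and in their relations. -/
theorem finite_fibres_of_qc_fieldPt (hd : Representable (Limits.diag F)) (q : FieldPt F)
    (hq : RepWith @QuasiCompact q.toHom) {φ : (yon S).obj U ⟶ F} [CompactSpace U.left]
    (hφ : RepWith @Etale φ) :
    (Points.ofPt φ ⁻¹' {Points.mk q}).Finite ∧
      ∀ (R : Over S) (s t : R ⟶ U), IsPullback ((yon S).map t) ((yon S).map s) φ φ →
        (Points.ofPt ((yon S).map t ≫ φ) ⁻¹' {Points.mk q}).Finite := by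
  obtain ⟨T, c, fst, sqT'⟩ := (Functor.relativelyRepresentable.of_diag hd φ) q.toHom
  obtain ⟨a, rfl⟩ := (yon S).map_surjective fst
  have sqT := sqT'.flip
  have : QuasiCompact a.left := hq.2 _ _ _ sqT
  have : CompactSpace T.left := QuasiCompact.compactSpace_of_compactSpace a.left
  have : Etale c.left := hφ.2 _ _ _ sqT'
  have hc : IsFinite c.left := isFinite_of_etale_field (K := q.K) c.left
  obtain ⟨n, hn⟩ := exists_finLE_of_isFinite (K := q.K) c.left
  have := hn.discrete.1
  refine ⟨preimage_mk_eq_range sqT ▸ Set.finite_range _, fun R s t sq => ?_⟩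
  obtain ⟨ρ, -, -, hρ⟩ := exists_pair_of_mem_fibre sqT sq
  have sc := IsPullback.of_hasPullback c c
  have : IsFinite (pullback.fst c c).left :=
    MorphismProperty.of_isPullback (P := @IsFinite) (sc.map (Over.forget S)).flip hc
  have hP : Finite (pullback c c).left := Set.finite_univ_iff.1 (by
    simpa using (pullback.fst c c).left.finite_preimage (Set.finite_univ (α := T.left)))
  refine (Set.finite_range ρ.left).subset fun r hr => ?_
  rw [Set.mem_preimage, ofPt_map_comp] at hr
  obtain ⟨w, rfl⟩ := hρ r hr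
  exact ⟨w, rfl⟩

theorem finFibres_of_qc_fieldPt (hd : Representable (Limits.diag F)) (q : FieldPt F)
    (hq : RepWith @QuasiCompact q.toHom) : FinFibres (Points.mk q) :=
  fun _ _ hB hψ =>
    have := hB
    (finite_fibres_of_qc_fieldPt hd q hq hψ).1

/-- A quasi-compact field-valued point gives a monomorphic quasi-compact one. -/
theorem hasMonoQC_of_qc_fieldPt (hX : IsAlgSpace F) (q : FieldPt F)
    (hq : RepWith @QuasiCompact q.toHom) : HasMonoQC F (Points.mk q) := by
  obtain ⟨U, φ, hU, hφ, hx⟩ := exists_affine_chart_at hX (Points.mk q)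
  exact hasMonoQC_of_finFibres hX (finFibres_of_qc_fieldPt hX.diag q hq) hU hφ hx
    (finite_fibres_of_qc_fieldPt hX.diag q hq hφ).2

theorem finFibres_of_isDecent (hd : Representable (Limits.diag F)) (h : IsDecent F) (x : Points F) :
    FinFibres x := by
  obtain ⟨p, rfl, -, hq⟩ := h x
  exact finFibres_of_qc_fieldPt hd p hq

/-- Generalisation: points with no infinite chains of generalisations inside a relation class. -/
theorem eq_of_specializes_of_chain {B R : Scheme.{u}} (s t : R ⟶ B) [Etale s] [Etale t]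
    {Sset : Set B} (hrel : ∀ b ∈ Sset, ∀ b' ∈ Sset, ∃ r, t r = b ∧ s r = b')
    (hclosed : ∀ r, t r ∈ Sset → s r ∈ Sset)
    (hno : ∀ d : ℕ → B, (∀ n, d n ∈ Sset) → ¬ ∀ n, d (n + 1) ⤳ d n ∧ d (n + 1) ≠ d n)
    {a b : B} (ha : a ∈ Sset) (hb : b ∈ Sset) (hab : a ⤳ b) : a = b := by
  by_contra hne
  have step : ∀ d ∈ Sset, ∃ d' ∈ Sset, d' ⤳ d ∧ d' ≠ d := by
    intro d hd
    obtain ⟨r, hrb, hrd⟩ := hrel b hb d hd
    obtain ⟨r', hr', hr'a⟩ := Flat.generalizingMap t (show a ⤳ t r from hrb.symm ▸ hab)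
    refine ⟨s r', hclosed r' (hr'a.symm ▸ ha), hrd ▸ hr'.map s.continuous, fun h => ?_⟩
    have : LocallyQuasiFinite s := locallyQuasiFinite_of_etale s
    have : DiscreteTopology ↥(s ⁻¹' {d}) := (s.isDiscrete_preimage_singleton d).to_subtype
    have hsp : (⟨r', h⟩ : ↥(s ⁻¹' {d})) ⤳ ⟨r, hrd⟩ := (subtype_specializes_iff _ _).2 hr'
    have : r' = r := congrArg Subtype.val (specializes_iff_eq.1 hsp)
    exact hne (by rw [← hr'a, this, hrb])
  choose g hg hgs hgne using step
  let chain : ℕ → {x // x ∈ Sset} := fun n => n.rec ⟨a, ha⟩ fun _ d => ⟨g d.1 d.2, hg d.1 d.2⟩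
  exact hno (fun n => (chain n).1) (fun n => (chain n).2) fun n => ⟨hgs _ (chain n).2, hgne _ (chain n).2⟩

theorem no_chain_of_finite {B : Type*} [TopologicalSpace B] [T0Space B] {Sset : Set B}
    (hfin : Sset.Finite) (d : ℕ → B) (hd : ∀ n, d n ∈ Sset) :
    ¬ ∀ n, d (n + 1) ⤳ d n ∧ d (n + 1) ≠ d n := by
  intro h
  have hmono : ∀ i k, d (i + k) ⤳ d i := by
    intro i k
    induction k with
    | zero => exact specializes_rfl
    | succ k ih => exact (h _).1.trans ih
  have : Finite Sset := hfin.to_subtype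
  obtain ⟨i, j, hij, heq⟩ := Finite.exists_ne_map_eq_of_infinite fun n => (⟨d n, hd n⟩ : Sset)
  wlog hlt : i < j generalizing i j
  · exact this j i hij.symm heq.symm (lt_of_le_of_ne (not_lt.1 hlt) hij.symm)
  obtain ⟨k, rfl⟩ := Nat.exists_eq_add_of_lt hlt
  have h1 : d (i + k + 1) ⤳ d (i + 1) := by
    rw [show i + k + 1 = i + 1 + k by ring]; exact hmono (i + 1) k
  have heq' : d i = d (i + k + 1) := congrArg Subtype.val heq
  rw [← heq'] at h1
  exact (h i).2 ((h i).1.antisymm h1).eq

/-- The relation of a chart between points over the same point. -/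
theorem exists_chart_relation {φ : (yon S).obj U ⟶ F} (hφ : RepWith @Etale φ) :
    ∃ (R : Over S) (s t : R ⟶ U), Etale s.left ∧ Etale t.left ∧
      (∀ b b', Points.ofPt φ b = Points.ofPt φ b' → ∃ r, t.left r = b ∧ s.left r = b') ∧
      ∀ r, Points.ofPt φ (s.left r) = Points.ofPt φ (t.left r) := by
  obtain ⟨R, s, fst, sqR⟩ := hφ.1 φ
  obtain ⟨t, rfl⟩ := (yon S).map_surjective fst
  refine ⟨R, s, t, hφ.2 φ _ _ sqR, hφ.2 φ _ _ sqR.flip, fun b b' h => ?_, fun r => ?_⟩
  · obtain ⟨r, hr, hr'⟩ := exists_pt_of_isPullback sqR (x := Points.ofScheme U b) (t := b')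
      (by rw [← Points.ofPt_eq_map_ofScheme]; exact h)
    exact ⟨r, (Points.schemeEquiv U).injective ((ofPt_map_eq t r).symm.trans hr), hr'⟩
  · rw [← ofPt_map_comp, ← ofPt_map_comp, sqR.w]

theorem eq_of_specializes_of_no_chain {φ : (yon S).obj U ⟶ F} (hφ : RepWith @Etale φ) {x : Points F}
    (hno : ∀ d : ℕ → U.left, (∀ n, Points.ofPt φ (d n) = x) →
      ¬ ∀ n, d (n + 1) ⤳ d n ∧ d (n + 1) ≠ d n)
    {u u' : U.left} (hu : Points.ofPt φ u = x) (hu' : Points.ofPt φ u' = x) (hs : u' ⤳ u) : u' = u := by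
  obtain ⟨R, s, t, hs', ht', hrel, hcl⟩ := exists_chart_relation hφ
  exact eq_of_specializes_of_chain s.left t.left (Sset := {v | Points.ofPt φ v = x})
    (fun b hb b' hb' => hrel b b' (hb.trans hb'.symm)) (fun r hr => (hcl r).trans hr) hno hu' hu hs

/-- Points with finite fibres have no specializations in any chart. -/
theorem eq_of_specializes_of_finFibres {φ : (yon S).obj U ⟶ F} (hφ : RepWith @Etale φ) {x : Points F}
    (hx : FinFibres x) {u u' : U.left} (hu : Points.ofPt φ u = x) (hu' : Points.ofPt φ u' = x)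
    (hs : u' ⤳ u) : u' = u := by
  obtain ⟨O, hO, huO, -⟩ := exists_isAffineOpen_mem_and_subset (X := U.left) (x := u) (U := ⊤) trivial
  let o : Over.mk (O.ι ≫ U.hom) ⟶ U := Over.homMk O.ι rfl
  have hfin := hx (Over.mk (O.ι ≫ U.hom)) _ hO (repWith_etale_restrict hφ O)
  have hu'O : u' ∈ O := hs.mem_open O.isOpen huO
  have := eq_of_specializes_of_no_chain (repWith_etale_restrict hφ O) (no_chain_of_finite hfin)
    (u := (⟨u, huO⟩ : O.toScheme)) (u' := ⟨u', hu'O⟩) ((ofPt_map_comp o φ _).trans hu)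
    ((ofPt_map_comp o φ _).trans hu') ((subtype_specializes_iff _ _).2 hs)
  exact congrArg Subtype.val this

/-- Specializations to the image of a chart lift when the special fibre is finite. -/
theorem exists_specializes_lift {φ : (yon S).obj U ⟶ F} (hφ : RepWith @Etale φ) {x x' : Points F}
    (h : x' ⤳ x) (hx' : FinFibres x') {u : U.left} (hu : Points.ofPt φ u = x) :
    ∃ u', u' ⤳ u ∧ Points.ofPt φ u' = x' := by
  obtain ⟨O, hO, huO, -⟩ := exists_isAffineOpen_mem_and_subset (X := U.left) (x := u) (U := ⊤) trivial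
  let o : Over.mk (O.ι ≫ U.hom) ⟶ U := Over.homMk O.ι rfl
  let ψ := (yon S).map o ≫ φ
  have hψ : RepWith @Etale ψ := repWith_etale_restrict hφ O
  have hmem : (⟨u, huO⟩ : O.toScheme) ∈ closure (Points.ofPt ψ ⁻¹' {x'}) := by
    rw [← (isOpenMap_ofPt ψ hψ).preimage_closure_eq_closure_preimage (Points.continuous_ofPt ψ)]
    have he : Points.ofPt ψ (⟨u, huO⟩ : O.toScheme) = x := (ofPt_map_comp o φ _).trans hu
    have h1 : x ∈ closure ({x'} : Set (Points F)) := specializes_iff_mem_closure.1 h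
    rw [← he] at h1
    exact h1
  have key : ∀ {P : Set O.toScheme}, P.Finite → ∀ z ∈ closure P, ∃ v ∈ P, z ∈ closure {v} := by
    intro P hP z hz
    have : closure P ⊆ ⋃ v ∈ P, closure {v} :=
      closure_minimal (fun v hv => Set.mem_biUnion hv (subset_closure rfl))
        (hP.isClosed_biUnion fun _ _ => isClosed_closure)
    simpa using this hz
  obtain ⟨v, hv, hvu⟩ := key (hx' (Over.mk (O.ι ≫ U.hom)) ψ hO hψ) _ hmem
  exact ⟨o.left v, (specializes_iff_mem_closure.2 hvu).map o.left.continuous,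
    (ofPt_map_comp o φ v).symm.trans hv⟩

/-- Points of a decent space are separated by opens. -/
theorem t0Space_of_finFibres (hX : IsAlgSpace F) (h : ∀ x : Points F, FinFibres x) :
    T0Space (Points F) := by
  refine ⟨fun x y hxy => ?_⟩
  obtain ⟨U, φ, hφ, hφs⟩ := hX.atlas
  obtain ⟨u, rfl⟩ := surjective_ofPt hφs x
  obtain ⟨v, hv, rfl⟩ := exists_specializes_lift hφ hxy.symm.specializes (h _) (u := u) rfl
  obtain ⟨w, hw, hw'⟩ := exists_specializes_lift hφ hxy.specializes (h _) (u := v) rfl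
  have hwu : w = u := eq_of_specializes_of_finFibres hφ (h _) rfl hw' (hw.trans hv)
  rw [← (hv.antisymm (hwu ▸ hw)).eq]

/-- Decency passes along etale morphisms. -/
theorem isDecent_of_isEtaleMor {G : Sp S} (hF : IsAlgSpace F) (hG : IsAlgSpace G) {f : F ⟶ G}
    (hf : IsEtaleMor f) (h : IsDecent G) : IsDecent F := by
  intro x
  obtain ⟨q, hq, -, hqq⟩ := h (Points.map f x)
  have hfin : FinFibres x := fun B ψ hB hψ => by
    refine (finFibres_of_qc_fieldPt hG.diag q hqq B (ψ ≫ f) hB (hf ψ hψ)).subset fun b hb => ?_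
    rw [Set.mem_preimage, Set.mem_singleton_iff, hq, ← Points.map_ofPt, hb]
  obtain ⟨U, φ, hU, hφ, hx⟩ := exists_affine_chart_at hF x
  refine hasMonoQC_of_finFibres hF hfin hU hφ hx fun R s t sq => ?_
  have := hU
  have hφ' := hf φ hφ
  obtain ⟨R', s', fst, sq'⟩ := hφ'.1 (φ ≫ f)
  obtain ⟨t', rfl⟩ := (yon S).map_surjective fst
  obtain ⟨ι, hι⟩ := (yon S).map_surjective (sq'.lift ((yon S).map t) ((yon S).map s)
    (by rw [← Category.assoc, sq.w, Category.assoc]))
  have ht : ι ≫ t' = t := (yon S).map_injective (by rw [Functor.map_comp, hι, IsPullback.lift_fst])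
  have hs : ι ≫ s' = s := (yon S).map_injective (by rw [Functor.map_comp, hι, IsPullback.lift_snd])
  have : Mono ι := ⟨fun a b e => (yon S).map_injective (sq.hom_ext
    (by rw [← Functor.map_comp, ← Functor.map_comp, ← ht, reassoc_of% e])
    (by rw [← Functor.map_comp, ← Functor.map_comp, ← hs, reassoc_of% e]))⟩
  have : Mono ι.left := inferInstanceAs (Mono ((Over.forget S).map ι))
  refine ((finite_fibres_of_qc_fieldPt hG.diag q hqq hφ').2 R' s' t' sq' |>.preimage
    ι.left.injective.injOn).subset fun r hr => ?_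
  rw [Set.mem_preimage, Set.mem_singleton_iff, ofPt_map_comp] at hr
  rw [Set.mem_preimage, Set.mem_preimage, Set.mem_singleton_iff, ofPt_map_comp, hq,
    ← Scheme.Hom.comp_apply, ← Over.comp_left, ht, ← Points.map_ofPt, hr]

/-- Quasi-separated spaces are decent. -/
theorem isDecent_of_isQuasiSeparatedSp (hX : IsAlgSpace F) (h : IsQuasiSeparatedSp F) :
    IsDecent F := by
  intro x
  induction x using Points.ind with
  | h q =>
  refine hasMonoQC_of_qc_fieldPt hX q
    (repWith_of_affine (Functor.relativelyRepresentable.of_diag hX.diag q.toHom) fun {T} hT g => ?_)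
  obtain ⟨V, snd, fst, sqV⟩ := (Functor.relativelyRepresentable.of_diag hX.diag q.toHom) g
  refine ⟨V, fst, snd, sqV, ?_⟩
  obtain ⟨a, rfl⟩ := (yon S).map_surjective fst
  have h1 : QuasiCompact (prod.lift a snd).left := prop_lift_of_repWith_diag h sqV
  have : QuasiCompact q.str := quasiCompact_of_subsingleton' q.str
  have h2 : QuasiCompact (Limits.prod.snd : q.pt ⨯ T ⟶ T).left :=
    MorphismProperty.of_isPullback (P := @QuasiCompact) (isPullback_fst_left q.pt T) ‹_›
  rw [← Limits.prod.lift_snd a snd, Over.comp_left]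
  infer_instance
where
  quasiCompact_of_subsingleton' {K : Type u} [Field K] {Y : Scheme.{u}}
      (f : Spec (CommRingCat.of K) ⟶ Y) : QuasiCompact f :=
    have : Subsingleton ↥(Spec (CommRingCat.of K)) := inferInstanceAs (Subsingleton (PrimeSpectrum K))
    quasiCompact_of_subsingleton f

end Groth.Agent.AlgSpDecent
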