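import Groth.Agent.Lib.AlgSpDecent.FiniteOver
import Groth.Agent.Lib.FinEtQuot.Algebra
import Groth.Agent.Lib.FinQuot.Scheme
import Groth.Agent.Lib.AlgSpace.Sub
import Groth.Agent.Lib.AlgSpace.Glue
import Groth.Agent.Lib.AlgSpDecent.Basic2
import Mathlib.AlgebraicGeometry.Sites.Fpqc
import Mathlib.CategoryTheory.Sites.RegularEpi

/-!
# A dense open subscheme of an algebraic space

An affine etale chart with finite fibres of its relation gives, inside every open meeting its
image, a nonempty open subspace which is a scheme.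
-/

universe u

set_option backward.isDefEq.respectTransparency.types false

open CategoryTheory CategoryTheory.Limits AlgebraicGeometry AlgSp Opposite Topology
open Groth.Agent.AlgSpace

namespace Groth.Agent.AlgSpDecent

variable {S : Scheme.{u}}

/-- Cancelling a monomorphism from a leg of a cartesian square. -/
theorem isPullback_of_mono_left {C : Type*} [Category C] {P X X' Y Z : C} {a : P ⟶ X'} {m : X' ⟶ X}
    [Mono m] {b : P ⟶ Y} {f : X ⟶ Z} {g : Y ⟶ Z} (h : IsPullback (a ≫ m) b f g) :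
    IsPullback a b (m ≫ f) g :=
  ⟨⟨by simpa using h.w⟩, ⟨PullbackCone.IsLimit.mk _
    (fun c => h.lift (c.fst ≫ m) c.snd (by simpa using c.condition))
    (fun c => (cancel_mono m).1 (by rw [Category.assoc]; exact h.lift_fst _ _ _))
    (fun c => h.lift_snd _ _ _)
    (fun c k h₁ h₂ => h.hom_ext (by rw [h.lift_fst, reassoc_of% h₁]) (by rw [h.lift_snd, h₂]))⟩⟩

/-- Locally surjective maps with the same kernel pair have isomorphic targets. -/
theorem exists_iso_of_kernelPair {U Z Y₁ Y₂ : Sp S} (a : U ⟶ Y₁) (b : U ⟶ Y₂)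
    [Sheaf.IsLocallySurjective a] [Sheaf.IsLocallySurjective b] {p q : Z ⟶ U}
    (h₁ : IsPullback p q a a) (h₂ : IsPullback p q b b) : ∃ e : Y₁ ≅ Y₂, a ≫ e.hom = b := by
  have : Epi a := (CategoryTheory.Sheaf.isLocallySurjective_iff_epi a).1 inferInstance
  have : Epi b := (CategoryTheory.Sheaf.isLocallySurjective_iff_epi b).1 inferInstance
  have : EffectiveEpi a := by
    rw [← isRegularEpi_iff_effectiveEpi]; exact ⟨⟨IsRegularEpiCategory.regularEpiOfEpi a |>.getStruct⟩⟩
  have : EffectiveEpi b := by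
    rw [← isRegularEpi_iff_effectiveEpi]; exact ⟨⟨IsRegularEpiCategory.regularEpiOfEpi b |>.getStruct⟩⟩
  have ha : ∀ {W : Sp S} (g₁ g₂ : W ⟶ U), g₁ ≫ a = g₂ ≫ a → g₁ ≫ b = g₂ ≫ b := fun g₁ g₂ e => by
    rw [← h₁.lift_fst g₁ g₂ e, Category.assoc, h₂.w, h₁.lift_snd_assoc]
  have hb : ∀ {W : Sp S} (g₁ g₂ : W ⟶ U), g₁ ≫ b = g₂ ≫ b → g₁ ≫ a = g₂ ≫ a := fun g₁ g₂ e => by
    rw [← h₂.lift_fst g₁ g₂ e, Category.assoc, h₁.w, h₂.lift_snd_assoc]
  refine ⟨⟨EffectiveEpi.desc a b ha, EffectiveEpi.desc b a hb, ?_, ?_⟩, EffectiveEpi.fac a b ha⟩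
  · rw [← cancel_epi a, EffectiveEpi.fac_assoc, EffectiveEpi.fac, Category.comp_id]
  · rw [← cancel_epi b, EffectiveEpi.fac_assoc, EffectiveEpi.fac, Category.comp_id]

section Chart

variable {X : Sp S} {V R : Over S} {φ : (yon S).obj V ⟶ X} {s t : R ⟶ V}

theorem exists_rel_of_ofPt_eq (sq : IsPullback ((yon S).map t) ((yon S).map s) φ φ) {v v' : ↥V.left}
    (h : Points.ofPt φ v' = Points.ofPt φ v) : ∃ r, t.left r = v' ∧ s.left r = v := by
  obtain ⟨r, hr, hr'⟩ := exists_pt_of_isPullback sq (x := Points.ofScheme V v') (t := v)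
    (by rw [← Points.ofPt_eq_map_ofScheme]; exact h)
  rw [ofPt_map_eq] at hr
  exact ⟨r, (Points.schemeEquiv V).injective hr, hr'⟩

theorem ofPt_rel (sq : IsPullback ((yon S).map t) ((yon S).map s) φ φ) (r : ↥R.left) :
    Points.ofPt φ (t.left r) = Points.ofPt φ (s.left r) := by
  rw [← ofPt_map_comp, sq.w, ofPt_map_comp]

/-- The relation of a chart on a separated scheme is separated over it. -/
theorem isSeparated_rel [V.left.IsSeparated] (sq : IsPullback ((yon S).map t) ((yon S).map s) φ φ) :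
    IsSeparated s.left := by
  have : IsSeparated (V.hom ≫ terminal.from S) := by
    rw [terminal.comp_from]; exact Scheme.IsSeparated.isSeparated_terminal_from
  have : IsSeparated V.hom := IsSeparated.of_comp V.hom (terminal.from S)
  let m : R.left ⟶ pullback V.hom V.hom := pullback.lift t.left s.left (by rw [Over.w t, Over.w s])
  have : Mono m := ⟨fun {T} a b e => by
    have hm₁ : m ≫ pullback.fst V.hom V.hom = t.left := pullback.lift_fst _ _ _
    have hm₂ : m ≫ pullback.snd V.hom V.hom = s.left := pullback.lift_snd _ _ _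
    have e₁ : a ≫ t.left = b ≫ t.left := by rw [← hm₁, reassoc_of% e]
    have e₂ : a ≫ s.left = b ≫ s.left := by rw [← hm₂, reassoc_of% e]
    have hb : b ≫ R.hom = a ≫ R.hom := by rw [← Over.w s, reassoc_of% e₂]
    let a' : Over.mk (a ≫ R.hom) ⟶ R := Over.homMk a rfl
    let b' : Over.mk (a ≫ R.hom) ⟶ R := Over.homMk b hb
    have : a' = b' := (yon S).map_injective (sq.hom_ext
      (by rw [← Functor.map_comp, ← Functor.map_comp]; exact congrArg _ (Over.OverMorphism.ext e₁))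
      (by rw [← Functor.map_comp, ← Functor.map_comp]; exact congrArg _ (Over.OverMorphism.ext e₂)))
    exact congrArg (fun k => k.left) this⟩
  have hm : m ≫ pullback.snd V.hom V.hom = s.left := pullback.lift_snd _ _ _
  rw [← hm]
  infer_instance

/-- Finiteness over an open spreads to its saturation. -/
theorem isFinite_restrict_saturation [V.left.IsSeparated] [Etale s.left] [Etale t.left]
    (sq : IsPullback ((yon S).map t) ((yon S).map s) φ φ) (Q : V.left.Opens) (hQ : IsAffineOpen Q)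
    [IsFinite (s.left ∣_ Q)] (Sat : V.left.Opens)
    (hSat : (Sat : Set V.left) = Points.ofPt φ ⁻¹' (Points.ofPt φ '' Q)) :
    IsFinite (s.left ∣_ Sat) := by
  have : IsAffine Q.toScheme := hQ
  have : IsAffine (s.left ⁻¹ᵁ Q).toScheme := isAffine_of_isAffineHom (s.left ∣_ Q)
  let g₁ : (s.left ⁻¹ᵁ Q).toScheme ⟶ V.left := (s.left ⁻¹ᵁ Q).ι ≫ s.left
  let g₂ : (s.left ⁻¹ᵁ Q).toScheme ⟶ V.left := (s.left ⁻¹ᵁ Q).ι ≫ t.left
  let T : Over S := Over.mk ((s.left ⁻¹ᵁ Q).ι ≫ R.hom)
  let G₁ : T ⟶ V := Over.homMk g₁ (by simp [g₁, T, Over.w s])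
  let G₂ : T ⟶ V := Over.homMk g₂ (by simp [g₂, T, Over.w t])
  have hG : (yon S).map G₁ ≫ φ = (yon S).map G₂ ≫ φ := by
    let ι : T ⟶ R := Over.homMk (s.left ⁻¹ᵁ Q).ι rfl
    rw [show G₁ = ι ≫ s from Over.OverMorphism.ext rfl, show G₂ = ι ≫ t from Over.OverMorphism.ext rfl,
      Functor.map_comp, Functor.map_comp, Category.assoc, Category.assoc, sq.w]
  -- the two base changes of `s` agree
  have base : ∀ G : T ⟶ V, IsPullback ((yon S).map (pullback.fst s G) ≫ (yon S).map t)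
      ((yon S).map (pullback.snd s G)) φ ((yon S).map G ≫ φ) := fun G =>
    ((IsPullback.of_hasPullback s G).map (yon S)).paste_horiz sq
  have hsd : ∀ G : T ⟶ V, IsPullback (pullback.fst s G).left (pullback.snd s G).left s.left G.left :=
    fun G => (IsPullback.of_hasPullback s G).map (Over.forget S)
  have h₁ : IsFinite (pullback.snd s G₁).left := by
    have big : IsPullback (pullback.fst (s.left ∣_ Q) (s.left ∣_ Q) ≫ (s.left ⁻¹ᵁ Q).ι)
        (pullback.snd (s.left ∣_ Q) (s.left ∣_ Q)) s.left ((s.left ∣_ Q) ≫ Q.ι) :=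
      (IsPullback.of_hasPullback (s.left ∣_ Q) (s.left ∣_ Q)).paste_horiz
        (isPullback_morphismRestrict s.left Q).flip
    have hg : G₁.left = (s.left ∣_ Q) ≫ Q.ι := (morphismRestrict_ι s.left Q).symm
    have sd := hsd G₁
    rw [hg] at sd
    rw [← sd.isoIsPullback_hom_snd _ _ big]
    infer_instance
  have b₂ := base G₂
  rw [← hG] at b₂
  let e := (base G₁).isoIsPullback _ _ b₂
  obtain ⟨ρ, hρ⟩ := (yon S).map_surjective e.inv
  have hρ' : ρ ≫ pullback.snd s G₁ = pullback.snd s G₂ :=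
    (yon S).map_injective (by rw [Functor.map_comp, hρ]; exact IsPullback.isoIsPullback_inv_snd ..)
  have : IsIso ((yon S).map ρ) := hρ ▸ inferInstance
  have : IsIso ρ := isIso_of_reflects_iso ρ (yon S)
  have : IsIso ρ.left := inferInstanceAs (IsIso ((Over.forget S).map ρ))
  have h₂ : IsFinite (pullback.snd s G₂).left := by
    rw [← hρ', Over.comp_left]; infer_instance
  -- descend along the surjection onto the saturation
  have hrange : ∀ x, g₂ x ∈ Sat := fun x => by
    have hx : s.left x.1 ∈ Q := x.2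
    change t.left x.1 ∈ (Sat : Set V.left)
    rw [hSat]
    exact ⟨_, hx, (ofPt_rel sq x.1).symm⟩
  let g' : (s.left ⁻¹ᵁ Q).toScheme ⟶ Sat.toScheme :=
    IsOpenImmersion.lift Sat.ι g₂ (by rintro _ ⟨x, rfl⟩; rw [Sat.range_ι]; exact hrange x)
  have hg' : g' ≫ Sat.ι = g₂ := IsOpenImmersion.lift_fac _ _ _
  have : Etale g₂ := inferInstanceAs (Etale ((s.left ⁻¹ᵁ Q).ι ≫ t.left))
  have : Etale (g' ≫ Sat.ι) := hg'.symm ▸ this
  have : Etale g' := Etale.of_comp g' Sat.ι
  have : Surjective g' := ⟨fun ⟨v', hv'⟩ => by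
    obtain ⟨v, hv, e⟩ : v' ∈ Points.ofPt φ ⁻¹' (Points.ofPt φ '' Q) := hSat ▸ hv'
    obtain ⟨r, hr, hr'⟩ := exists_rel_of_ofPt_eq sq e.symm
    refine ⟨⟨r, show s.left r ∈ Q from hr' ▸ hv⟩, Sat.ι.isOpenEmbedding.injective ?_⟩
    rw [← Scheme.Hom.comp_apply, hg']
    exact hr⟩
  have : IsAffineHom (g₂ ≫ terminal.from V.left) := inferInstance
  have : IsAffineHom g₂ := IsAffineHom.of_comp g₂ (terminal.from V.left)
  have : QuasiCompact (g' ≫ Sat.ι) := by rw [hg']; infer_instance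
  have : QuasiCompact g' := QuasiCompact.of_comp g' Sat.ι
  have := FpqcDesc.descendsAlong_isFinite.{u}
  have hsq := IsPullback.of_hasPullback g' (s.left ∣_ Sat)
  refine MorphismProperty.of_isPullback_of_descendsAlong
    (Q := (@Surjective ⊓ @Flat ⊓ @QuasiCompact : MorphismProperty Scheme.{u}))
    hsq ⟨⟨inferInstance, inferInstance⟩, inferInstance⟩ ?_
  have big : IsPullback (pullback.snd g' (s.left ∣_ Sat) ≫ (s.left ⁻¹ᵁ Sat).ι)
      (pullback.fst g' (s.left ∣_ Sat)) s.left G₂.left := by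
    have := hsq.flip.paste_horiz (isPullback_morphismRestrict s.left Sat).flip
    rwa [hg'] at this
  rw [← big.isoIsPullback_hom_snd _ _ (hsd G₂)]
  infer_instance

/-- Invariant affine neighbourhoods inside an invariant open over which the relation is finite. -/
theorem exists_invariant_affine [IsAffine V.left] [Etale s.left]
    (sq : IsPullback ((yon S).map t) ((yon S).map s) φ φ) (Sat : V.left.Opens)
    [IsFinite (s.left ∣_ Sat)]
    (hinv : ∀ v v', Points.ofPt φ v' = Points.ofPt φ v → v ∈ Sat → v' ∈ Sat) {u : ↥V.left} (hu : u ∈ Sat) :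
    ∃ O : V.left.Opens, IsAffineOpen O ∧ u ∈ O ∧ O ≤ Sat ∧
      ∀ v v', Points.ofPt φ v' = Points.ofPt φ v → v ∈ O → v' ∈ O := by
  -- the orbit is finite
  have horb : ({v' | Points.ofPt φ v' = Points.ofPt φ u} : Set V.left).Finite := by
    refine (((s.left ∣_ Sat).finite_preimage (Set.finite_singleton (⟨u, hu⟩ : Sat.toScheme))).image
      (fun r => t.left r.1)).subset fun v' hv' => ?_
    obtain ⟨r, hr, hr'⟩ := exists_rel_of_ofPt_eq sq (show Points.ofPt φ v' = Points.ofPt φ u from hv')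
    refine ⟨⟨r, show s.left r ∈ Sat from hr' ▸ hu⟩, Subtype.ext ?_, hr⟩
    exact (morphismRestrict_base_coe _ _ _).trans hr'
  -- prime avoidance
  let A := Γ(V.left, ⊤)
  let π : ↥V.left → PrimeSpectrum A := fun v => V.left.toSpecΓ v
  obtain ⟨J, hJ⟩ := (PrimeSpectrum.isClosed_iff_zeroLocus_ideal _).1
    ((V.left.isoSpec.hom.homeomorph).isClosedMap _ Sat.isOpen.isClosed_compl)
  have hJ' : ∀ v, π v ∈ PrimeSpectrum.zeroLocus (J : Set A) ↔ v ∉ Sat := fun v => by
    rw [← hJ]
    exact V.left.isoSpec.hom.homeomorph.injective.mem_set_image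
  obtain ⟨f, hfJ, hf⟩ : ∃ f ∈ J, ∀ v', Points.ofPt φ v' = Points.ofPt φ u → f ∉ (π v').asIdeal := by
    by_contra! hcon
    obtain ⟨v', hv', hle⟩ := (Ideal.subset_union_prime_finite horb u u
      (f := fun v' => (π v').asIdeal) fun i _ _ _ => (π i).isPrime).1 fun f hf =>
        let ⟨v', h1, h2⟩ := hcon f hf
        Set.mem_iUnion₂.2 ⟨v', h1, h2⟩
    exact (hJ' v').1 hle (hinv u v' hv' hu)
  let O₁ : V.left.Opens := V.left.basicOpen f
  have hO₁mem : ∀ v, v ∈ O₁ ↔ f ∉ (π v).asIdeal := fun v => by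
    rw [show O₁ = V.left.toSpecΓ ⁻¹ᵁ PrimeSpectrum.basicOpen f from
      (Scheme.toSpecΓ_preimage_basicOpen _ _).symm]
    rfl
  have hO₁Sat : O₁ ≤ Sat := fun v hv => by
    by_contra h
    exact (hO₁mem v).1 hv ((hJ' v).2 h hfJ)
  have hO₁ : IsAffineOpen O₁ := (isAffineOpen_top V.left).basicOpen f
  have : IsAffine O₁.toScheme := hO₁
  let s₁ := s.left ∣_ O₁
  have : IsFinite s₁ := by
    have h := IsZariskiLocalAtTarget.restrict (P := @IsFinite) ‹IsFinite (s.left ∣_ Sat)› (Sat.ι ⁻¹ᵁ O₁)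
    rw [MorphismProperty.arrow_mk_iso_iff @IsFinite (morphismRestrictRestrict s.left Sat (Sat.ι ⁻¹ᵁ O₁)),
      show Sat.ι ''ᵁ (Sat.ι ⁻¹ᵁ O₁) = O₁ by
        rw [Scheme.Hom.image_preimage_eq_opensRange_inf, Scheme.Opens.opensRange_ι,
          inf_eq_right.2 hO₁Sat]] at h
    exact h
  have : IsAffine (s.left ⁻¹ᵁ O₁).toScheme := isAffine_of_isAffineHom s₁
  let alg := s₁.appTop.hom.toAlgebra
  have hf₁ : Module.Finite Γ(O₁.toScheme, ⊤) Γ((s.left ⁻¹ᵁ O₁).toScheme, ⊤) :=
    RingHom.finite_algebraMap.1 ((HasAffineProperty.iff_of_isAffine (P := @IsFinite)).1 ‹IsFinite s₁›).2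
  have : Etale s₁ := IsZariskiLocalAtTarget.restrict (P := @Etale) ‹Etale s.left› O₁
  have hfl : Module.Flat Γ(O₁.toScheme, ⊤) Γ((s.left ⁻¹ᵁ O₁).toScheme, ⊤) :=
    RingHom.flat_algebraMap_iff.1
      ((HasRingHomProperty.iff_of_isAffine (P := @Flat)).1 (inferInstanceAs (Flat s₁)))
  have hfp : Algebra.FinitePresentation Γ(O₁.toScheme, ⊤) Γ((s.left ⁻¹ᵁ O₁).toScheme, ⊤) :=
    (HasRingHomProperty.iff_of_isAffine (P := @LocallyOfFinitePresentation)).1
      (inferInstanceAs (LocallyOfFinitePresentation s₁))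
  have : Module.FinitePresentation Γ(O₁.toScheme, ⊤) Γ((s.left ⁻¹ᵁ O₁).toScheme, ⊤) :=
    Module.FinitePresentation.of_finite_of_finitePresentation _ _
  have : Module.Projective Γ(O₁.toScheme, ⊤) Γ((s.left ⁻¹ᵁ O₁).toScheme, ⊤) :=
    Module.Flat.projective_of_finitePresentation
  let t₁ : (s.left ⁻¹ᵁ O₁).toScheme ⟶ V.left := (s.left ⁻¹ᵁ O₁).ι ≫ t.left
  obtain ⟨h, hh⟩ := FinEtQuot.exists_forall_notMem_iff (A := Γ(O₁.toScheme, ⊤))
    (B := Γ((s.left ⁻¹ᵁ O₁).toScheme, ⊤)) (t₁.appTop.hom f)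
  -- the norm locus
  have hmem : ∀ w : O₁.toScheme, w ∈ O₁.toScheme.basicOpen h ↔
      ∀ r : (s.left ⁻¹ᵁ O₁).toScheme, s₁ r = w → t₁ r ∈ O₁ := by
    intro w
    have hb : ∀ {Z : Scheme.{u}} (g : Γ(Z, ⊤)) (z : Z),
        z ∈ Z.basicOpen g ↔ g ∉ (show PrimeSpectrum Γ(Z, ⊤) from Z.toSpecΓ z).asIdeal := fun g z => by
      rw [← Scheme.toSpecΓ_preimage_basicOpen]; rfl
    have ht : ∀ r, (t₁ r ∈ O₁ ↔ t₁.appTop.hom f ∉
        (show PrimeSpectrum _ from (s.left ⁻¹ᵁ O₁).toScheme.toSpecΓ r).asIdeal) := fun r => by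
      rw [← hb]
      change r ∈ t₁ ⁻¹ᵁ V.left.basicOpen f ↔ _
      exact iff_of_eq (congrArg (fun (O : (s.left ⁻¹ᵁ O₁).toScheme.Opens) => r ∈ O)
        (Scheme.preimage_basicOpen_top t₁ f))
    have hnat : ∀ r, (show PrimeSpectrum Γ(O₁.toScheme, ⊤) from O₁.toScheme.toSpecΓ (s₁ r)) =
        PrimeSpectrum.comap (algebraMap _ _)
          (show PrimeSpectrum _ from (s.left ⁻¹ᵁ O₁).toScheme.toSpecΓ r) := fun r =>
      congrArg (fun k => k r) (Scheme.toSpecΓ_naturality s₁)
    rw [hb, hh]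
    refine ⟨fun hq r hr => (ht r).2 (hq _ (by rw [← hnat, hr])), fun hq q hq' => ?_⟩
    obtain ⟨r, rfl⟩ : ∃ r, (show PrimeSpectrum _ from (s.left ⁻¹ᵁ O₁).toScheme.toSpecΓ r) = q :=
      (s.left ⁻¹ᵁ O₁).toScheme.isoSpec.hom.homeomorph.surjective q
    refine (ht r).1 (hq r (O₁.toScheme.isoSpec.hom.homeomorph.injective ?_))
    exact (hnat r).trans hq'
  have key : ∀ v, v ∈ O₁.ι ''ᵁ O₁.toScheme.basicOpen h ↔
      ∀ v', Points.ofPt φ v' = Points.ofPt φ v → v' ∈ O₁ := fun v => by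
    constructor
    · rintro ⟨w, hw, rfl⟩ v' hv'
      obtain ⟨r, hr, hr'⟩ := exists_rel_of_ofPt_eq sq hv'
      rw [← hr]
      exact (hmem w).1 hw ⟨r, show s.left r ∈ O₁ from hr' ▸ w.2⟩
        (Subtype.ext ((morphismRestrict_base_coe _ _ _).trans hr'))
    · intro hv
      refine ⟨⟨v, hv v rfl⟩, (hmem _).2 fun r hr => hv _ ?_, rfl⟩
      have : s.left r.1 = v := (morphismRestrict_base_coe _ _ _).symm.trans (congrArg Subtype.val hr)
      rw [← this]
      exact ofPt_rel sq r.1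
  refine ⟨O₁.ι ''ᵁ O₁.toScheme.basicOpen h,
    ((isAffineOpen_top _).basicOpen h).image_of_isOpenImmersion O₁.ι, ?_, ?_, ?_⟩
  · exact (key u).2 fun v' hv' => (hO₁mem v').2 (hf v' hv')
  · rintro _ ⟨w, -, rfl⟩; exact hO₁Sat w.2
  · intro v v' e hv
    exact (key v').2 fun v'' e' => (key v).1 hv v'' (e'.trans e)

/-- An invariant affine open with finite relation gives an open subscheme. -/
theorem exists_affine_iso_openSub_of_invariant [Etale s.left] (hφ : RepWith @Etale φ)
    (sq : IsPullback ((yon S).map t) ((yon S).map s) φ φ) (O : V.left.Opens) (hO : IsAffineOpen O)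
    [IsFinite (s.left ∣_ O)] (hinv : ∀ v v', Points.ofPt φ v' = Points.ofPt φ v → v ∈ O → v' ∈ O) :
    ∃ Y : Over S, IsAffine Y.left ∧ Nonempty ((yon S).obj Y ≅ openSub (Points.ofPt φ '' O)) := by
  have : IsAffine O.toScheme := hO
  let VO : Over S := Over.mk (O.ι ≫ V.hom)
  let ι : VO ⟶ V := Over.homMk O.ι rfl
  have : IsOpenImmersion ι.left := inferInstanceAs (IsOpenImmersion O.ι)
  have : Mono ι := (Over.forget S).mono_of_mono_map (inferInstanceAs (Mono O.ι))
  let RO : Over S := Over.mk ((s.left ⁻¹ᵁ O).ι ≫ R.hom)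
  let ιR : RO ⟶ R := Over.homMk (s.left ⁻¹ᵁ O).ι rfl
  let s' : RO ⟶ VO := Over.homMk (s.left ∣_ O) (by
    change (s.left ∣_ O) ≫ O.ι ≫ V.hom = _
    rw [← Category.assoc, morphismRestrict_ι, Category.assoc, Over.w s]
    rfl)
  let tl := IsOpenImmersion.lift O.ι ((s.left ⁻¹ᵁ O).ι ≫ t.left) (by
    rintro _ ⟨r, rfl⟩
    rw [O.range_ι]
    exact hinv (s.left r.1) (t.left r.1) (ofPt_rel sq r.1) r.2)
  let t' : RO ⟶ VO := Over.homMk tl (by
    change tl ≫ O.ι ≫ V.hom = _
    rw [IsOpenImmersion.lift_fac_assoc, Category.assoc, Over.w t]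
    rfl)
  have hs' : ιR ≫ s = s' ≫ ι := Over.OverMorphism.ext (morphismRestrict_ι s.left O).symm
  have ht' : t' ≫ ι = ιR ≫ t := Over.OverMorphism.ext (IsOpenImmersion.lift_fac _ _ _)
  have sqs : IsPullback ιR s' s ι :=
    IsPullback.of_map (Over.forget S) hs' (isPullback_morphismRestrict s.left O).flip
  let φ' : (yon S).obj VO ⟶ X := (yon S).map ι ≫ φ
  have sq' : IsPullback ((yon S).map t') ((yon S).map s') φ' φ' := by
    refine isPullback_of_mono_left ?_
    rw [← Functor.map_comp, ht', Functor.map_comp]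
    exact (sqs.map (yon S)).paste_horiz sq
  have sch : FinQuot.SchEqv s'.left t'.left := by
    have lift : ∀ {T : Over S} (g₁ g₂ : T ⟶ VO), (yon S).map g₁ ≫ φ' = (yon S).map g₂ ≫ φ' →
        ∃ r : T ⟶ RO, r ≫ t' = g₁ ∧ r ≫ s' = g₂ := fun g₁ g₂ e => by
      obtain ⟨r, hr⟩ := (yon S).map_surjective (sq'.lift _ _ e)
      exact ⟨r, (yon S).map_injective (by rw [Functor.map_comp, hr]; exact sq'.lift_fst _ _ _),
        (yon S).map_injective (by rw [Functor.map_comp, hr]; exact sq'.lift_snd _ _ _)⟩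
    refine ⟨fun {T} a b e₁ e₂ => ?_, ?_, ?_, fun {T} a b e => ?_⟩
    · have hb : b ≫ RO.hom = a ≫ RO.hom := by rw [← Over.w s', reassoc_of% e₁]
      let a' : Over.mk (a ≫ RO.hom) ⟶ RO := Over.homMk a rfl
      let b' : Over.mk (a ≫ RO.hom) ⟶ RO := Over.homMk b hb
      have : a' = b' := (yon S).map_injective (sq'.hom_ext
        (by rw [← Functor.map_comp, ← Functor.map_comp]; exact congrArg _ (Over.OverMorphism.ext e₂))
        (by rw [← Functor.map_comp, ← Functor.map_comp]; exact congrArg _ (Over.OverMorphism.ext e₁)))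
      exact congrArg (fun k => k.left) this
    · obtain ⟨e, h₁, h₂⟩ := lift (𝟙 VO) (𝟙 VO) rfl
      exact ⟨e.left, congrArg (fun k => k.left) h₂, congrArg (fun k => k.left) h₁⟩
    · obtain ⟨e, h₁, h₂⟩ := lift s' t' sq'.w.symm
      exact ⟨e.left, congrArg (fun k => k.left) h₂, congrArg (fun k => k.left) h₁⟩
    · let a' : Over.mk (a ≫ RO.hom) ⟶ RO := Over.homMk a rfl
      let b' : Over.mk (a ≫ RO.hom) ⟶ RO := Over.homMk b
        (((congrArg (b ≫ ·) (Over.w s')).symm.trans (Category.assoc _ _ _).symm).trans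
          ((congrArg (· ≫ VO.hom) e.symm).trans
            ((Category.assoc _ _ _).trans (congrArg (a ≫ ·) (Over.w t')))))
      have he : a' ≫ t' = b' ≫ s' := Over.OverMorphism.ext e
      obtain ⟨c, h₁, h₂⟩ := lift (b' ≫ t') (a' ≫ s') (by
        simp only [Functor.map_comp, Category.assoc]
        rw [sq'.w, ← Functor.map_comp_assoc, ← he, Functor.map_comp_assoc, sq'.w])
      exact ⟨c.left, congrArg (fun k => k.left) h₂, congrArg (fun k => k.left) h₁⟩
  have : IsFinite s'.left := inferInstanceAs (IsFinite (s.left ∣_ O))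
  have : Etale s'.left := IsZariskiLocalAtTarget.restrict (P := @Etale) ‹Etale s.left› O
  have : IsAffine VO.left := hO
  obtain ⟨hfin, hflat, hfp, hsurj, hpb⟩ := sch.quotient
  let π := FinQuot.toInv s'.left t'.left
  have : EffectiveEpi π := inferInstance
  have hcompat : ∀ {Z : Scheme.{u}} (g₁ g₂ : Z ⟶ VO.left), g₁ ≫ π = g₂ ≫ π →
      g₁ ≫ VO.hom = g₂ ≫ VO.hom := fun g₁ g₂ e => by
    rw [← hpb.lift_fst g₁ g₂ e, Category.assoc, Over.w s', ← Over.w t', hpb.lift_snd_assoc]
  let hom := EffectiveEpi.desc π VO.hom hcompat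
  let Y : Over S := Over.mk hom
  let πY : VO ⟶ Y := Over.homMk π (EffectiveEpi.fac π VO.hom hcompat)
  have sqY : IsPullback t' s' πY πY :=
    IsPullback.of_map (Over.forget S) (Over.OverMorphism.ext hpb.flip.w) hpb.flip
  have hWo : IsOpen (Points.ofPt φ '' O) := isOpenMap_ofPt φ hφ _ O.isOpen
  have hι := repWith_openSubι hWo
  have hrange : Set.range (Points.map φ') ⊆ Points.ofPt φ '' O := by
    rintro _ ⟨y, rfl⟩
    obtain ⟨v, rfl⟩ := (Points.schemeEquiv VO).surjective y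
    change Points.map φ' (Points.ofScheme VO v) ∈ _
    rw [← Points.ofPt_eq_map_ofScheme, ofPt_map_comp]
    exact ⟨_, v.2, rfl⟩
  obtain ⟨a, ha⟩ := exists_factor_openSub φ' hrange
  have sqa : IsPullback ((yon S).map t') ((yon S).map s') a a := by
    refine ⟨⟨by rw [← cancel_mono (openSubι (Points.ofPt φ '' O)), Category.assoc, Category.assoc, ha]; exact sq'.w⟩,
      ⟨PullbackCone.IsLimit.mk _ (fun c => sq'.lift c.fst c.snd (by rw [← ha, c.condition_assoc]))
        (fun c => sq'.lift_fst _ _ _) (fun c => sq'.lift_snd _ _ _)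
        (fun c m h₁ h₂ => sq'.hom_ext (by rw [sq'.lift_fst, h₁]) (by rw [sq'.lift_snd, h₂]))⟩⟩
  have : Sheaf.IsLocallySurjective a := isLocallySurjective_of_lifts a fun T g => by
    have sqT := hφ.1.isPullback (g ≫ openSubι (Points.ofPt φ '' O))
    obtain ⟨k, hk⟩ := (yon S).map_surjective (hφ.1.fst (g ≫ openSubι (Points.ofPt φ '' O)))
    let p := hφ.1.snd (g ≫ openSubι (Points.ofPt φ '' O))
    have : Etale p.left := hφ.2 _ _ _ sqT
    let P' := hφ.1.pullback (g ≫ openSubι (Points.ofPt φ '' O))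
    let T' : Over S := Over.mk ((k.left ⁻¹ᵁ O).ι ≫ P'.hom)
    let l : T' ⟶ VO := Over.homMk (k.left ∣_ O) (by
      change (k.left ∣_ O) ≫ O.ι ≫ V.hom = _
      rw [← Category.assoc, morphismRestrict_ι, Category.assoc, Over.w k]
      rfl)
    let j : T' ⟶ P' := Over.homMk (k.left ⁻¹ᵁ O).ι rfl
    refine ⟨T', j ≫ p, (yon S).map l, ?_, ⟨fun x => ?_⟩, ?_, ?_⟩
    · rw [Over.comp_left]; exact inferInstanceAs (Flat ((k.left ⁻¹ᵁ O).ι ≫ p.left))
    · obtain ⟨v, hv, e⟩ := ofPt_openSubι_mem g x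
      rw [← hk] at sqT
      obtain ⟨z, hz, hz'⟩ := exists_pt_of_isPullback sqT (x := Points.ofScheme V v) (t := x)
        (by rw [← Points.ofPt_eq_map_ofScheme]; exact e)
      rw [ofPt_map_eq] at hz
      exact ⟨⟨z, show k.left z ∈ O from (Points.schemeEquiv V).injective hz ▸ hv⟩, hz'⟩
    · rw [Over.comp_left]; exact inferInstanceAs (LocallyOfFinitePresentation ((k.left ⁻¹ᵁ O).ι ≫ p.left))
    · have hl : l ≫ ι = j ≫ k := Over.OverMorphism.ext (morphismRestrict_ι k.left O)
      rw [← cancel_mono (openSubι (Points.ofPt φ '' O))]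
      simp only [φ', Category.assoc, ha, Functor.map_comp]
      rw [← Functor.map_comp_assoc, hl, Functor.map_comp_assoc, hk, sqT.w]
  have : Sheaf.IsLocallySurjective ((yon S).map πY) :=
    isLocallySurjective_of_repWith _ ((repWith_yon_map_iff _ _).2 hflat) ((repWith_yon_map_iff _ _).2 hfp)
      ((repWith_yon_map_iff _ _).2 hsurj)
  obtain ⟨e, -⟩ := exists_iso_of_kernelPair a ((yon S).map πY) sqa (sqY.map (yon S))
  exact ⟨Y, inferInstanceAs (IsAffine (Spec _)), ⟨e.symm⟩⟩

/-- An invariant affine open with finite relation has a scheme as image. -/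
theorem exists_iso_openSub_of_invariant [Etale s.left] (hφ : RepWith @Etale φ)
    (sq : IsPullback ((yon S).map t) ((yon S).map s) φ φ) (O : V.left.Opens) (hO : IsAffineOpen O)
    [IsFinite (s.left ∣_ O)] (hinv : ∀ v v', Points.ofPt φ v' = Points.ofPt φ v → v ∈ O → v' ∈ O) :
    ∃ Y : Over S, Nonempty ((yon S).obj Y ≅ openSub (Points.ofPt φ '' O)) :=
  have ⟨Y, _, he⟩ := exists_affine_iso_openSub_of_invariant hφ sq O hO hinv
  ⟨Y, he⟩

/-- Around a point where the relation is finite there is an open subscheme. -/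
theorem exists_open_scheme_of_finite [IsAffine V.left] (hφ : RepWith @Etale φ)
    (sq : IsPullback ((yon S).map t) ((yon S).map s) φ φ) (Q : V.left.Opens) (hQ : IsAffineOpen Q)
    [IsFinite (s.left ∣_ Q)] {u : ↥V.left} (hu : u ∈ Q) :
    ∃ W : Set (Points X), IsOpen W ∧ Points.ofPt φ u ∈ W ∧ W ⊆ Points.ofPt φ '' Q ∧
      ∃ Y : Over S, Nonempty ((yon S).obj Y ≅ openSub W) := by
  have : Etale s.left := hφ.2 φ _ _ sq
  have : Etale t.left := hφ.2 φ _ _ sq.flip
  let Sat : V.left.Opens := ⟨Points.ofPt φ ⁻¹' (Points.ofPt φ '' Q),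
    (isOpenMap_ofPt φ hφ _ Q.isOpen).preimage (Points.continuous_ofPt φ)⟩
  have := isFinite_restrict_saturation sq Q hQ Sat rfl
  obtain ⟨O, hO, huO, hOSat, hinv⟩ := exists_invariant_affine sq Sat
    (fun v v' e (hv : Points.ofPt φ v ∈ Points.ofPt φ '' Q) =>
      (e ▸ hv : Points.ofPt φ v' ∈ Points.ofPt φ '' Q)) (u := u) ⟨u, hu, rfl⟩
  have : IsFinite (s.left ∣_ O) := by
    have h := IsZariskiLocalAtTarget.restrict (P := @IsFinite) ‹IsFinite (s.left ∣_ Sat)› (Sat.ι ⁻¹ᵁ O)
    rw [MorphismProperty.arrow_mk_iso_iff @IsFinite (morphismRestrictRestrict s.left Sat (Sat.ι ⁻¹ᵁ O)),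
      show Sat.ι ''ᵁ (Sat.ι ⁻¹ᵁ O) = O by
        rw [Scheme.Hom.image_preimage_eq_opensRange_inf, Scheme.Opens.opensRange_ι,
          inf_eq_right.2 hOSat]] at h
    exact h
  refine ⟨Points.ofPt φ '' O, isOpenMap_ofPt φ hφ _ O.isOpen, ⟨u, huO, rfl⟩, ?_,
    exists_iso_openSub_of_invariant hφ sq O hO hinv⟩
  rintro _ ⟨v, hv, rfl⟩
  exact hOSat hv

/-- Every open meeting an affine chart with finite relation fibres contains an open subscheme. -/
theorem exists_open_scheme_in [IsAffine V.left] (hφ : RepWith @Etale φ)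
    (sq : IsPullback ((yon S).map t) ((yon S).map s) φ φ) (hfin : ∀ v, (s.left ⁻¹' {v}).Finite)
    {G : Set (Points X)} (hG : IsOpen G) (hne : (Points.ofPt φ ⁻¹' G).Nonempty) :
    ∃ W : Set (Points X), IsOpen W ∧ W.Nonempty ∧ W ⊆ G ∧
      ∃ Y : Over S, Nonempty ((yon S).obj Y ≅ openSub W) := by
  have : Etale s.left := hφ.2 φ _ _ sq
  have := isSeparated_rel sq
  let G' : V.left.Opens := ⟨_, hG.preimage (Points.continuous_ofPt φ)⟩
  obtain ⟨Q, hQG, ⟨u, hu⟩, hQ, hQfin⟩ := exists_isFinite_restrict s.left hfin G' hne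
  obtain ⟨W, hW, huW, hWQ, hY⟩ := exists_open_scheme_of_finite hφ sq Q hQ hu
  exact ⟨W, hW, ⟨_, huW⟩, hWQ.trans (Set.image_subset_iff.2 hQG), hY⟩

end Chart

/-- If every nonempty open contains an open subscheme there is a dense open subscheme containing
all open subschemes. -/
theorem exists_max_open_scheme (X : Space S)
    (h : ∀ G : Set (Points X.obj), IsOpen G → G.Nonempty → ∃ W : Set (Points X.obj), IsOpen W ∧
      W.Nonempty ∧ W ⊆ G ∧ ∃ Y : Over S, Nonempty ((yon S).obj Y ≅ openSub W)) :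
    ∃ W : Set (Points X.obj), IsOpen W ∧ Dense W ∧
      ∃ Y : Over S, Nonempty ((yon S).obj Y ≅ openSub W) ∧ ∀ W' : Set (Points X.obj), IsOpen W' →
        (∃ Y' : Over S, Nonempty ((yon S).obj Y' ≅ openSub W')) → W' ⊆ W := by
  let κ := {W : Set (Points X.obj) // IsOpen W ∧ ∃ Y : Over S, Nonempty ((yon S).obj Y ≅ openSub W)}
  let W : Set (Points X.obj) := ⋃ k : κ, k.1
  have hW : IsOpen W := isOpen_iUnion fun k => k.2.1
  suffices hsc : ∃ Y : Over S, Nonempty ((yon S).obj Y ≅ openSub W) from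
    ⟨W, hW, dense_iff_inter_open.2 fun G hG hne => by
      obtain ⟨V, hV, ⟨x, hx⟩, hVG, hY⟩ := h G hG hne
      exact ⟨x, hVG hx, Set.mem_iUnion.2 ⟨⟨V, hV, hY⟩, hx⟩⟩,
      hsc.choose, hsc.choose_spec, fun W' hW' hY' => Set.subset_iUnion (fun k : κ => k.1) ⟨W', hW', hY'⟩⟩
  · obtain ⟨A, p, -, hps⟩ := X.property.atlas
    let ι' : Type u := {a : ↥A.left // Points.ofPt p a ∈ W}
    have hk : ∀ a : ι', ∃ k : κ, Points.ofPt p a.1 ∈ k.1 := fun a => Set.mem_iUnion.1 a.2
    choose k hk using hk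
    have hfac : ∀ a : ι', ∃ j : openSub (k a).1 ⟶ openSub W, j ≫ openSubι W = openSubι (k a).1 :=
      fun a => exists_factor_openSub _
        (by rw [range_openSubι]; exact Set.subset_iUnion (fun k : κ => k.1) (k a))
    choose j hj using hfac
    choose Y e using fun a : ι' => (k a).2.2
    let w : ∀ a, (yon S).obj (Y a) ⟶ openSub W := fun a => (e a).some.hom ≫ j a
    have hjo : ∀ a, RepWith @IsOpenImmersion (w a) := fun a => by
      refine (repWith_respectsIso_left _).2 ?_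
      refine repWith_of_isPullback (isPullback_of_mono (j a) (openSubι W)) ?_
      rw [hj]
      exact repWith_openSubι (k a).2.1
    refine exists_iso_yon_of_openCover (U := Y) (w := w) hjo fun T g t => ?_
    obtain ⟨a, ha⟩ := surjective_ofPt hps (Points.ofPt (g ≫ openSubι W) t)
    have haW : Points.ofPt p a ∈ W := ha.symm ▸ ofPt_openSubι_mem g t
    let a' : ι' := ⟨a, haW⟩
    obtain ⟨z, hz⟩ : Points.ofPt g t ∈ Set.range (Points.map (w a')) := by
      obtain ⟨x, hx⟩ : Points.ofPt (g ≫ openSubι W) t ∈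
          Set.range (Points.map (openSubι (k a').1)) := by
        rw [range_openSubι, ← ha]; exact hk a'
      obtain ⟨z, rfl⟩ := (bijective_map_iso (e := (e a').some.hom)).2 x
      refine ⟨z, (isEmbedding_map_of_immersion X.property (repWith_mono (fun A B q
        (hq : IsOpenImmersion q) => (inferInstance : IsImmersion q))
          (repWith_openSubι hW))).1.injective ?_⟩
      rw [Points.map_ofPt, ← hx]
      change Points.map (openSubι W) (Points.map ((e a').some.hom ≫ j a') z) = _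
      rw [← Function.comp_apply (f := Points.map (openSubι W)), ← map_comp_eq, Category.assoc, hj,
        map_comp_eq, Function.comp_apply]
    obtain ⟨v, -, hv⟩ := exists_pt_of_isPullback ((hjo a').1.isPullback g) hz
    exact ⟨a', v, hv⟩

/-- An open set on which the space is a scheme gives an open subspace. -/
theorem exists_space_of_open_scheme (X : Space S) {W : Set (Points X.obj)} (hW : IsOpen W)
    (hd : Dense W) {Y : Over S} (e : (yon S).obj Y ≅ openSub W) :
    ∃ (X' : Space S) (j : X' ⟶ X), RepWith @IsOpenImmersion j.hom ∧ X'.obj.obj.IsRepresentable ∧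
      Dense (Set.range (Points.map j.hom)) :=
  ⟨⟨openSub W, (IsAlgSpace.yon_obj Y).of_iso e⟩, ObjectProperty.homMk (openSubι W),
    repWith_openSubι hW, (representableByOfIso e).isRepresentable, by
      change Dense (Set.range (Points.map (openSubι W)))
      rw [range_openSubι]; exact hd⟩

/-- A space finite etale covered by a scheme has a dense open subscheme. -/
theorem exists_dense_of_finite_etale (X : Space S) {U : Over S} (a : (yon S).obj U ⟶ X.obj)
    (hf : RepWith @IsFinite a) (he : RepWith @Etale a) (hs : RepWith @Surjective a) :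
    ∃ (X' : Space S) (j : X' ⟶ X), RepWith @IsOpenImmersion j.hom ∧ X'.obj.obj.IsRepresentable ∧
      Dense (Set.range (Points.map j.hom)) := by
  obtain ⟨W, hW, hd, Y, ⟨e⟩, -⟩ := exists_max_open_scheme X fun G hG hne => by
    obtain ⟨x, hx⟩ := hne
    obtain ⟨u, rfl⟩ := surjective_ofPt hs x
    obtain ⟨O, hO, huO, -⟩ := exists_isAffineOpen_mem_and_subset (X := U.left) (x := u) (U := ⊤) trivial
    let V : Over S := Over.mk (O.ι ≫ U.hom)
    let ι : V ⟶ U := Over.homMk O.ι rfl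
    let φ : (yon S).obj V ⟶ X.obj := (yon S).map ι ≫ a
    have : IsAffine V.left := hO
    have hφ : RepWith @Etale φ := repWith_etale_restrict he O
    obtain ⟨R, s, fst, sq⟩ := hφ.1 φ
    obtain ⟨t, rfl⟩ := (yon S).map_surjective fst
    refine exists_open_scheme_in hφ sq (fun v => ?_) hG
      ⟨⟨u, huO⟩, by rw [Set.mem_preimage, ofPt_map_comp]; exact hx⟩
    obtain ⟨P, p, fk, sqP⟩ := hf.1 φ
    obtain ⟨k, rfl⟩ := (yon S).map_surjective fk
    have : IsFinite p.left := hf.2 φ _ _ sqP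
    obtain ⟨m, hm⟩ := (yon S).map_surjective
      (sqP.lift ((yon S).map t ≫ (yon S).map ι) ((yon S).map s) (by rw [Category.assoc]; exact sq.w))
    have hmp : m ≫ p = s :=
      (yon S).map_injective (by rw [Functor.map_comp, hm]; exact sqP.lift_snd _ _ _)
    have hmk : m ≫ k = t ≫ ι := (yon S).map_injective (by
      rw [Functor.map_comp, hm, Functor.map_comp]; exact sqP.lift_fst _ _ _)
    have : Mono ι := (Over.forget S).mono_of_mono_map (inferInstanceAs (Mono O.ι))
    -- `R` is the open piece of `P` over `O`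
    have big : IsPullback t m ι k := by
      refine IsPullback.of_map (yon S) hmk.symm ?_
      refine (IsPullback.of_right (v₁₁ := (yon S).map t) (v₁₂ := (yon S).map k) (v₁₃ := φ)
        (h₂₂ := a) (h₁₂ := (yon S).map p) ?_ ?_ sqP.flip).flip
      · rw [← Functor.map_comp, hmp]; exact sq.flip
      · rw [← Functor.map_comp, ← Functor.map_comp, hmk]
    have : IsOpenImmersion m.left :=
      MorphismProperty.of_isPullback (P := @IsOpenImmersion) (big.map (Over.forget S))
        (inferInstanceAs (IsOpenImmersion O.ι))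
    refine ((p.left.finite_preimage (Set.finite_singleton v)).preimage
      m.left.isOpenEmbedding.injective.injOn).subset fun r hr => ?_
    change p.left (m.left r) = v
    rw [← hmp] at hr
    exact hr
  exact exists_space_of_open_scheme X hW hd e

/-- A decent space has a dense open subscheme. -/
theorem exists_dense_of_isDecent (X : Space S) (hX : IsDecent X.obj) :
    ∃ (X' : Space S) (j : X' ⟶ X), RepWith @IsOpenImmersion j.hom ∧ X'.obj.obj.IsRepresentable ∧
      Dense (Set.range (Points.map j.hom)) := by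
  obtain ⟨W, hW, hd, Y, ⟨e⟩, -⟩ := exists_max_open_scheme X fun G hG hne => by
    obtain ⟨x, hx⟩ := hne
    obtain ⟨V, φ, hV, hφ, v, rfl⟩ := exists_affine_chart_at X.property x
    obtain ⟨R, s, fst, sq⟩ := hφ.1 φ
    obtain ⟨t, rfl⟩ := (yon S).map_surjective fst
    refine exists_open_scheme_in hφ sq (fun w => ?_) hG ⟨v, hx⟩
    obtain ⟨q, hq, -, hqc⟩ := hX (Points.ofPt φ w)
    refine ((finite_fibres_of_qc_fieldPt X.property.diag q hqc hφ).2 R s t sq).subset fun r hr => ?_
    rw [Set.mem_preimage, Set.mem_singleton_iff] at hr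
    rw [Set.mem_preimage, Set.mem_singleton_iff, ofPt_map_comp, ofPt_rel sq r, hr, hq]
  exact exists_space_of_open_scheme X hW hd e

end Groth.Agent.AlgSpDecent
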