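import Groth.Agent.Lib.AlgSpDecent.Mor
import Groth.Agent.Lib.AlgSpDecent.Basic2
import Groth.Agent.Lib.AlgSpace.QCQS
import Groth.Agent.Lib.AlgSpace.MorDiag

/-!
# Representable and quasi-separated morphisms are decent
-/

universe u

set_option backward.isDefEq.respectTransparency.types false

open CategoryTheory CategoryTheory.Limits AlgebraicGeometry Opposite MorphismProperty

namespace Groth.Agent.AlgSpDecent

open AlgSp Groth.Agent.AlgSpace

variable {S : Scheme.{u}} {X Y : Sp S} {f : X ⟶ Y}

/-- Representable morphisms are decent. -/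
theorem isDecentMor_of_representable (hf : Representable f) : IsDecentMor f := by
  intro T F' g fst snd sq
  exact isDecent_of_iso_yon (((hf.isPullback g).isoIsPullback _ _ sq))

/-- Quasi-separated morphisms are decent. -/
theorem isDecentMor_of_isQuasiSeparatedMor (hX : IsAlgSpace X) (hY : IsAlgSpace Y)
    (hf : IsQuasiSeparatedMor f) : IsDecentMor f := by
  refine isDecentMor_of_affine fun Z g P fst snd hZ sq => ?_
  have : IsAffine Z.left := hZ
  have hsep : IsSeparated Z.hom := by
    have : IsSeparated (Z.hom ≫ terminal.from S) := by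
      rw [terminal.comp_from]; exact Scheme.IsSeparated.isSeparated_terminal_from
    exact IsSeparated.of_comp Z.hom (terminal.from S)
  have hqs : IsQuasiSeparatedSp ((yon S).obj Z) :=
    (repWith_diag_yon_iff @QuasiCompact Z).2 inferInstance
  exact isDecent_of_isQuasiSeparatedSp (isAlgSpace_pullback hY hX (IsAlgSpace.yon_obj Z) sq)
    (isQuasiSeparatedSp_of_mor (isQuasiSeparatedMor_of_isPullback sq hf) hqs)

end Groth.Agent.AlgSpDecent
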