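import Groth.Prelude.Def_AlgSpSub
import Groth.Agent.Lib.AlgSpace.Space
import Groth.Agent.Lib.AlgSpace.ImmDescent
import Groth.Agent.Lib.AlgSpDecent.DenseOpen
import Groth.Agent.Lib.RedSep.Basic
import Groth.Agent.Lib.AlgSpDescent.RedNoeth
import Mathlib.CategoryTheory.Sites.RegularEpi
import Mathlib.AlgebraicGeometry.Morphisms.Etale

/-!
# Reduced induced closed subspaces

A closed set of points of an algebraic space is the set of points of a reduced closed subspace: the
image, in sheaves, of the reduced preimage in a chart.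
-/

universe u

set_option backward.isDefEq.respectTransparency.types false

open CategoryTheory CategoryTheory.Limits AlgebraicGeometry AlgSp Opposite Topology
open Groth.Agent.AlgSpace Groth.Agent.AlgSpDecent

namespace Groth.Agent.AlgSpDecent.RedInduced

variable {S : Scheme.{u}}

/-- The pullback of the image of `Z ⟶ V ⟶ X` to `V`, for `Z` stable under the relation, is `Z`. -/
theorem isPullback_image {X : Sp S} {V R Z RZ : Over S} {φ : (yon S).obj V ⟶ X} {s t : R ⟶ V}
    (sq : IsPullback ((yon S).map t) ((yon S).map s) φ φ) (ι : Z ⟶ V) [Mono ι] {a : RZ ⟶ R}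
    {b : RZ ⟶ Z} (sqs : IsPullback a b s ι) {b' : RZ ⟶ Z} (ht : b' ≫ ι = a ≫ t) :
    IsPullback (Sheaf.toImage ((yon S).map ι ≫ φ)) ((yon S).map ι)
      (Sheaf.imageι ((yon S).map ι ≫ φ)) φ := by
  let π := Sheaf.toImage ((yon S).map ι ≫ φ)
  let m := Sheaf.imageι ((yon S).map ι ≫ φ)
  have hπm : π ≫ m = (yon S).map ι ≫ φ := Sheaf.toImage_ι _
  refine isPullback_of_mono_lifts hπm fun T y x w => ?_
  let q := pullback.snd ((yon S).map ι) y
  have : Mono q := inferInstance
  have hq : Sheaf.IsLocallySurjective q := by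
    refine ⟨fun {T'} e => ?_⟩
    obtain ⟨g, rfl⟩ := (sect (T := T') (F := (yon S).obj T)).surjective e
    refine GrothendieckTopology.superset_covering _ ?_
      (Presheaf.imageSieve_mem (AlgSp.J S) π.hom (U := op T') (sect (g ≫ x)))
    intro T'' f hf
    obtain ⟨e', he'⟩ := hf
    obtain ⟨z, rfl⟩ := (sect (T := T'') (F := (yon S).obj Z)).surjective e'
    have hz : z ≫ π = (yon S).map f ≫ g ≫ x := by
      apply (sect (T := T'')).injective
      rw [GrothendieckTopology.uliftYonedaEquiv_comp]
      rw [← GrothendieckTopology.uliftYonedaEquiv_naturality]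
      exact he'
    -- the point of the relation given by `z` and `y`
    have hr : (z ≫ (yon S).map ι) ≫ φ = ((yon S).map f ≫ g ≫ y) ≫ φ := by
      rw [Category.assoc, ← hπm, ← Category.assoc, hz]
      simp only [Category.assoc]
      rw [w]
    let r := sq.lift ((yon S).map f ≫ g ≫ y) (z ≫ (yon S).map ι) hr.symm
    have sqs' := sqs.map (yon S)
    let r' := sqs'.lift r z (sq.lift_snd _ _ _)
    have hl : (r' ≫ (yon S).map b') ≫ (yon S).map ι = ((yon S).map f ≫ g) ≫ y := by
      rw [Category.assoc, ← Functor.map_comp, ht, Functor.map_comp, ← Category.assoc,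
        sqs'.lift_fst, sq.lift_fst, Category.assoc]
    exact imageSieve_of_fac q g f (pullback.lift _ _ hl) (pullback.lift_snd _ _ _)
  have : Epi q := Sheaf.epi_of_isLocallySurjective' q
  have : IsIso q := isIso_of_mono_of_epi q
  exact ⟨inv q ≫ pullback.fst ((yon S).map ι) y,
    by rw [Category.assoc, pullback.condition, IsIso.inv_hom_id_assoc]⟩

/-- Reduced closed subspaces with prescribed points exist. -/
theorem exists_isRedInduced (X : Space S) (T : Set (Points X.obj)) (hT : IsClosed T) :
    ∃ (Z : Space S) (i : Z ⟶ X), IsRedInduced T i.hom := by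
  obtain ⟨V, φ, hφe, hφs⟩ := X.property.atlas
  obtain ⟨R, s, tf, sq⟩ := hφe.1 φ
  obtain ⟨t, rfl⟩ := (yon S).map_surjective tf
  have : Etale s.left := hφe.2 φ _ _ sq
  let C : TopologicalSpace.Closeds V.left :=
    ⟨Points.ofPt φ ⁻¹' T, hT.preimage (Points.continuous_ofPt φ)⟩
  let I := Scheme.IdealSheafData.vanishingIdeal C
  let Z : Over S := Over.mk (I.subschemeι ≫ V.hom)
  let ι : Z ⟶ V := Over.homMk I.subschemeι rfl
  have : IsClosedImmersion ι.left := inferInstanceAs (IsClosedImmersion I.subschemeι)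
  have : Mono ι := (Over.forget S).mono_of_mono_map (inferInstanceAs (Mono ι.left))
  have hZred : IsReduced Z.left := RedSepLib.isReduced_vanishingIdeal_subscheme C
  have hrange : Set.range ι.left = Points.ofPt φ ⁻¹' T := by
    change Set.range I.subschemeι = _
    rw [Scheme.IdealSheafData.range_subschemeι, Scheme.IdealSheafData.coe_support_vanishingIdeal]
    rfl
  let RZ := pullback s ι
  let a : RZ ⟶ R := pullback.fst s ι
  let b : RZ ⟶ Z := pullback.snd s ι
  have sqs : IsPullback a b s ι := IsPullback.of_hasPullback s ι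
  have : Etale b.left := MorphismProperty.of_isPullback (P := @Etale) (sqs.map (Over.forget S)) ‹_›
  have : IsReduced RZ.left := AlgSpDescent.isReduced_up b.left inferInstance hZred
  obtain ⟨g', hg'⟩ := RedSepLib.exists_lift_of_range_subset (a.left ≫ t.left) ι.left (by
    rintro _ ⟨r, rfl⟩
    rw [hrange, Set.mem_preimage, Scheme.Hom.comp_apply, ofPt_rel sq]
    have h : s.left (a.left r) = ι.left (b.left r) := by
      rw [← Scheme.Hom.comp_apply, ← Scheme.Hom.comp_apply, ← Over.comp_left, sqs.w, Over.comp_left]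
    rw [h]
    exact hrange.le ⟨_, rfl⟩)
  let b' : RZ ⟶ Z := Over.homMk g' (by
    rw [← Over.w ι, reassoc_of% hg', Over.w t, Over.w a])
  have hb' : b' ≫ ι = a ≫ t := Over.OverMorphism.ext hg'
  let m := Sheaf.imageι ((yon S).map ι ≫ φ)
  let π := Sheaf.toImage ((yon S).map ι ≫ φ)
  have sqP : IsPullback π ((yon S).map ι) m φ := isPullback_image sq ι sqs hb'
  have hm : RepWith @IsClosedImmersion m := repWith_closedImmersion_of_etale_cover m φ hφe hφs sqP
    ((repWith_yon_map_iff _ _).2 ‹_›)
  have hπe : RepWith @Etale π := repWith_of_isPullback sqP.flip hφe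
  have hπs : RepWith @Surjective π := repWith_of_isPullback sqP.flip hφs
  refine ⟨⟨Sheaf.image ((yon S).map ι ≫ φ), isAlgSpace_of_representable hm.1 X.property⟩,
    ObjectProperty.homMk m, hm, ?_, ⟨Z, π, hπe, hπs, hZred⟩⟩
  ext x
  constructor
  · rintro ⟨y, rfl⟩
    obtain ⟨z, rfl⟩ := surjective_ofPt hπs y
    show Points.map m (Points.ofPt π z) ∈ T
    rw [Points.ofPt_eq_map_ofScheme, ← Points.map_comp, sqP.w, ← Points.ofPt_eq_map_ofScheme,
      ofPt_map_comp]
    exact hrange.le ⟨z, rfl⟩
  · intro hx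
    obtain ⟨v, rfl⟩ := surjective_ofPt hφs x
    obtain ⟨z, rfl⟩ := hrange.ge hx
    refine ⟨Points.ofPt π z, ?_⟩
    show Points.map m (Points.ofPt π z) = _
    rw [Points.ofPt_eq_map_ofScheme, ← Points.map_comp, sqP.w, ← Points.ofPt_eq_map_ofScheme,
      ofPt_map_comp]

end Groth.Agent.AlgSpDecent.RedInduced
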