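import Groth.Agent.Lib.AlgSpDescent.FormallyLift
import Groth.Agent.Lib.AlgSpDecent.DimMor
import Groth.Agent.Lib.AlgSpDecent.DenseOpen
import Groth.Agent.Lib.AlgSpDecent.MorApps
import Groth.Agent.Lib.AlgSpace.QCQS
import Mathlib.AlgebraicGeometry.Artinian
import Mathlib.AlgebraicGeometry.Morphisms.FlatMono

/-!
# Zero dimensional algebraic spaces, monomorphisms to discrete schemes
-/

universe u

set_option backward.isDefEq.respectTransparency.types false

open CategoryTheory CategoryTheory.Limits AlgebraicGeometry Opposite MorphismProperty Topology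

namespace Groth.Agent.AlgSpDecent

open AlgSp Groth.Agent.AlgSpace Groth.Agent.AlgSpDescent

/-- A monomorphism into the spectrum of an Artinian local ring is a closed immersion on nonempty affines. -/
theorem surjective_of_mono_artinian {A B : CommRingCat.{u}} [IsArtinianRing A] [IsLocalRing A]
    [Nontrivial B] (φ : A ⟶ B) [Mono (Spec.map φ)] : Function.Surjective φ.hom := by
  let m := IsLocalRing.maximalIdeal A
  obtain ⟨n, hn⟩ : IsNilpotent m := by
    rw [show m = Ideal.jacobson ⊥ from
      (IsLocalRing.jacobson_eq_maximalIdeal (⊥ : Ideal A) bot_ne_top).symm]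
    exact IsArtinianRing.isNilpotent_jacobson_bot
  letI : Field (A ⧸ m) := Ideal.Quotient.field m
  have hne : m.map φ.hom ≠ ⊤ := fun h => by
    have := congrArg (· ^ n) h
    simp only [← Ideal.map_pow, hn, Ideal.top_pow] at this
    rw [Ideal.zero_eq_bot, Ideal.map_bot] at this
    exact bot_ne_top this
  have : Nontrivial (B ⧸ m.map φ.hom) := Ideal.Quotient.nontrivial_iff.2 hne
  have sq := isPullback_quotSpec m φ
  have : Mono (quotSpec m φ) := sq.mono_snd_of_mono
  have : Nonempty (Spec (CommRingCat.of (B ⧸ m.map φ.hom))) :=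
    inferInstanceAs (Nonempty (PrimeSpectrum (B ⧸ m.map φ.hom)))
  obtain ⟨_, _⟩ := flat_fieldTest (K := A ⧸ m) (quotSpec m φ)
  have : IsIso (quotSpec m φ) := Flat.isIso_of_surjective_of_mono _
  have hbij : Function.Surjective (Ideal.quotientMap (m.map φ.hom) φ.hom Ideal.le_comap_map) :=
    (isIso_SpecMap_iff.1 ‹IsIso (quotSpec m φ)›).2
  intro b
  suffices ∀ i, ∀ b : B, ∃ a, b - φ a ∈ (m ^ i).map φ.hom by
    obtain ⟨a, ha⟩ := this n b
    rw [hn, Ideal.zero_eq_bot, Ideal.map_bot, Ideal.mem_bot, sub_eq_zero] at ha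
    exact ⟨a, ha.symm⟩
  intro i
  induction i with
  | zero => exact fun b => ⟨0, by rw [pow_zero, Ideal.one_eq_top, Ideal.map_top]; trivial⟩
  | succ i ih =>
    have h1 : ∀ b : B, ∃ a, b - φ a ∈ m.map φ.hom := fun b => by
      obtain ⟨a, ha⟩ := hbij (Ideal.Quotient.mk _ b)
      obtain ⟨a, rfl⟩ := Ideal.Quotient.mk_surjective a
      rw [Ideal.quotientMap_mk, eq_comm, Ideal.Quotient.eq] at ha
      exact ⟨a, ha⟩
    suffices ∀ c ∈ (m ^ i).map φ.hom, ∃ a, c - φ a ∈ (m ^ (i + 1)).map φ.hom by
      intro b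
      obtain ⟨a, ha⟩ := ih b
      obtain ⟨a', ha'⟩ := this _ ha
      exact ⟨a + a', by rwa [map_add, ← sub_sub]⟩
    intro c hc
    refine Submodule.span_induction ?_ ⟨0, by simp⟩ ?_ ?_ hc
    · rintro _ ⟨t, ht, rfl⟩
      exact ⟨t, by simp⟩
    · rintro x y - - ⟨a, ha⟩ ⟨a', ha'⟩
      exact ⟨a + a', by
        rw [map_add, show x + y - (φ a + φ a') = (x - φ a) + (y - φ a') by ring]
        exact add_mem ha ha'⟩
    · rintro r x hx ⟨a, ha⟩
      obtain ⟨s, hs⟩ := h1 r
      refine ⟨s * a, ?_⟩
      rw [smul_eq_mul, map_mul,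
        show r * x - φ s * φ a = (r - φ s) * x + φ s * (x - φ a) by ring]
      refine add_mem ?_ (Ideal.mul_mem_left _ _ ha)
      rw [pow_succ', Ideal.map_mul]
      exact Ideal.mul_mem_mul hs hx

/-- A monomorphism into a locally Artinian scheme is locally of finite type. -/
theorem locallyOfFiniteType_of_mono_artinian {P V : Scheme.{u}} (f : P ⟶ V) [Mono f]
    [IsLocallyArtinian V] : LocallyOfFiniteType f := by
  have hd : DiscreteTopology P :=
    DiscreteTopology.of_continuous_injective f.continuous f.injective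
  let O : P → P.Opens := fun p => ⟨{p}, isOpen_discrete _⟩
  have hO : iSup O = ⊤ := eq_top_iff.2 fun p _ => TopologicalSpace.Opens.mem_iSup.2 ⟨p, rfl⟩
  rw [IsZariskiLocalAtSource.iff_of_openCover (P := @LocallyOfFiniteType) (P.openCoverOfIsOpenCover O hO)]
  intro (p : P)
  change LocallyOfFiniteType ((O p).ι ≫ f)
  let W : V.Opens := ⟨{f p}, isOpen_discrete _⟩
  have hsO : Subsingleton (O p) := ⟨fun a b => Subtype.ext (a.2.trans b.2.symm)⟩
  have hsW : Subsingleton W := ⟨fun a b => Subtype.ext (a.2.trans b.2.symm)⟩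
  have : Finite (O p).toScheme := @Finite.of_subsingleton _ hsO
  have : Finite W.toScheme := @Finite.of_subsingleton _ hsW
  have : DiscreteTopology (O p).toScheme := inferInstanceAs (DiscreteTopology (O p))
  have : DiscreteTopology W.toScheme := inferInstanceAs (DiscreteTopology W)
  have : IsAffine (O p).toScheme := inferInstance
  have : IsAffine W.toScheme := inferInstance
  let g : (O p).toScheme ⟶ W.toScheme := IsOpenImmersion.lift W.ι ((O p).ι ≫ f) (by
    rintro _ ⟨a, rfl⟩
    rw [Scheme.Opens.range_ι]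
    exact congrArg f a.2)
  have hg : g ≫ W.ι = (O p).ι ≫ f := IsOpenImmersion.lift_fac _ _ _
  have : Mono g := by
    have : Mono (g ≫ W.ι) := by rw [hg]; infer_instance
    exact mono_of_mono g W.ι
  have : IsArtinianRing Γ(W.toScheme, ⊤) := inferInstance
  have hWl : IsLocalRing Γ(W.toScheme, ⊤) := by
    have hsub : Subsingleton (Spec Γ(W.toScheme, ⊤)) := @Equiv.subsingleton _ _
      W.toScheme.isoSpec.hom.homeomorph.toEquiv.symm hsW
    have : Nonempty (Spec Γ(W.toScheme, ⊤)) :=
      ⟨W.toScheme.isoSpec.hom (⟨f p, rfl⟩ : W)⟩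
    have : Nontrivial Γ(W.toScheme, ⊤) := by
      rw [← PrimeSpectrum.nonempty_iff_nontrivial]; assumption
    refine IsLocalRing.of_unique_max_ideal ?_
    obtain ⟨m, hm⟩ := Ideal.exists_maximal Γ(W.toScheme, ⊤)
    refine ⟨m, hm, fun m' hm' => ?_⟩
    exact congrArg PrimeSpectrum.asIdeal (@Subsingleton.elim (PrimeSpectrum Γ(W.toScheme, ⊤)) hsub
      ⟨m', hm'.isPrime⟩ ⟨m, hm.isPrime⟩)
  have : Nontrivial Γ((O p).toScheme, ⊤) := by
    have : Nonempty (Spec Γ((O p).toScheme, ⊤)) :=
      ⟨(O p).toScheme.isoSpec.hom (⟨p, rfl⟩ : O p)⟩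
    rw [← PrimeSpectrum.nonempty_iff_nontrivial]; assumption
  have hsq := Scheme.isoSpec_hom_naturality g
  have : Mono (Spec.map g.appTop) := by
    rw [show Spec.map g.appTop = (O p).toScheme.isoSpec.inv ≫ g ≫ W.toScheme.isoSpec.hom by
      rw [← hsq, Iso.inv_hom_id_assoc]]
    infer_instance
  have hs := surjective_of_mono_artinian g.appTop
  have : LocallyOfFiniteType g :=
    (HasRingHomProperty.iff_of_isAffine (P := @LocallyOfFiniteType)).2 (RingHom.FiniteType.of_surjective _ hs)
  rw [← hg]
  infer_instance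

variable {S : Scheme.{u}} {F G : Sp S}

/-- A monomorphism is injective on points. -/
theorem injective_map_of_mono (f : F ⟶ G) [Mono f] : Function.Injective (Points.map f) := by
  intro x y h
  obtain ⟨w, hx, hy⟩ := exists_point_lift (IsPullback.of_hasPullback f f) x y h
  have e : pullback.fst f f = pullback.snd f f := (cancel_mono f).1 pullback.condition
  rw [← hx, ← hy, e]

/-- A space with a monomorphism into a scheme is decent. -/
theorem isDecent_of_mono_yon (hF : IsAlgSpace F) {Y : Over S} (f : F ⟶ (yon S).obj Y) [Mono f] :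
    IsDecent F := by
  refine isDecent_source (f := f)
    (isDecentMor_of_isQuasiSeparatedMor hF (IsAlgSpace.yon_obj Y) ?_) (isDecent_yon Y)
  have : IsIso (pullback.diagonal f) := inferInstance
  exact MorphismProperty.of_isIso (RepWith (S := S) @QuasiCompact) _

/-- Charts of a decent space with discrete points are discrete. -/
theorem discreteTopology_chart (hF : IsAlgSpace F) (hd : IsDecent F) [DiscreteTopology (Points F)]
    {U : Over S} {a : (yon S).obj U ⟶ F} (ha : RepWith @Etale a) : DiscreteTopology U.left := by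
  refine discreteTopology_iff_isOpen_singleton.2 fun u => ?_
  obtain ⟨O, hO, huO, -⟩ := exists_isAffineOpen_mem_and_subset (X := U.left) (x := u) (U := ⊤) trivial
  let o : Over.mk (O.ι ≫ U.hom) ⟶ U := Over.homMk O.ι rfl
  have hψ : RepWith @Etale ((yon S).map o ≫ a) := repWith_etale_restrict ha O
  have hfin := finFibres_of_isDecent hF.diag hd (Points.ofPt a u)
  let P : Set (Over.mk (O.ι ≫ U.hom)).left := Points.ofPt ((yon S).map o ≫ a) ⁻¹' {Points.ofPt a u}
  have hP : P.Finite := hfin _ _ hO hψ
  have hPo : IsOpen P := (isOpen_discrete _).preimage (Points.continuous_ofPt _)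
  have hPc : IsClosed P := (isClosed_discrete _).preimage (Points.continuous_ofPt _)
  have hcl : ∀ z ∈ P, IsClosed ({z} : Set (Over.mk (O.ι ≫ U.hom)).left) := fun z hz =>
    closure_subset_iff_isClosed.1 fun w hw => by
      have hwP : w ∈ P := hPc.closure_subset (closure_mono (Set.singleton_subset_iff.2 hz) hw)
      exact (eq_of_specializes_of_finFibres hψ hfin hwP hz (specializes_iff_mem_closure.2 hw)).symm
  let u' : O.toScheme := ⟨u, huO⟩
  have hu' : IsOpen ({u'} : Set O.toScheme) := by
    rw [show ({u'} : Set O.toScheme) = P \ ⋃ z ∈ P \ {u'}, {z} by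
      ext z
      constructor
      · rintro rfl
        exact ⟨ofPt_map_comp o a _, fun h => by
          obtain ⟨w, hw, hzw⟩ := Set.mem_iUnion₂.1 h
          exact hw.2 hzw.symm⟩
      · rintro ⟨hz, h⟩
        by_contra hne
        exact h (Set.mem_iUnion₂.2 ⟨z, ⟨hz, hne⟩, rfl⟩)]
    exact hPo.sdiff ((hP.diff).isClosed_biUnion fun z hz => hcl z hz.1)
  have := O.ι.isOpenEmbedding.isOpenMap _ hu'
  rwa [Set.image_singleton] at this

/-- A decent space with discrete points is a scheme. -/
theorem isRepresentable_of_discrete_points (X : Space S) (hd : IsDecent X.obj)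
    [DiscreteTopology (Points X.obj)] : X.obj.obj.IsRepresentable := by
  obtain ⟨X', j, hj, hrep, hden⟩ := exists_dense_of_isDecent X hd
  have hs : Function.Surjective (Points.map j.hom) :=
    Set.range_eq_univ.1 ((isClosed_discrete _).closure_eq.symm.trans hden.closure_eq)
  have := isIso_of_isOpenImmersion_of_surjective hj hs
  have : IsIso j.hom.hom := inferInstance
  obtain ⟨Z, ⟨e⟩⟩ := hrep
  exact (e.ofIso (asIso j.hom.hom)).isRepresentable

/-- A space with a monomorphism into a discrete scheme is a scheme. -/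
theorem isRepresentable_of_mono_discrete (X : Space S) {Y : Over S} [DiscreteTopology Y.left]
    (f : X.obj ⟶ (yon S).obj Y) [Mono f] : X.obj.obj.IsRepresentable := by
  have : DiscreteTopology (Points ((yon S).obj Y)) := (Points.schemeHomeo Y).discreteTopology
  have : DiscreteTopology (Points X.obj) :=
    DiscreteTopology.of_continuous_injective (Points.continuous_map f) (injective_map_of_mono f)
  exact isRepresentable_of_discrete_points X (isDecent_of_mono_yon X.property f)

/-- A representable sheaf is a Yoneda sheaf. -/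
theorem exists_yon_iso_of_isRepresentable {F : Sp S} (h : F.obj.IsRepresentable) :
    ∃ Y : Over S, Nonempty ((yon S).obj Y ≅ F) := by
  obtain ⟨Y, ⟨r⟩⟩ := h.has_representation
  exact ⟨Y, ⟨(fullyFaithfulSheafToPresheaf _ _).preimageIso
    (NatIso.ofComponents (fun T => (Equiv.ulift.trans r.homEquiv).toIso) fun {T T'} f => by
      ext ⟨g⟩; exact r.homEquiv_comp f.unop g)⟩⟩

end Groth.Agent.AlgSpDecent
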