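import Groth.Agent.Lib.AlgSpDecent.FinDeg
import Groth.Agent.Lib.AlgSpDecent.Basic
import Groth.Agent.Lib.AlgSpace.UI
import Groth.Prelude.Def_W4decUnivBdd

/-!
# Universally bounded fibres
-/

universe u

set_option backward.isDefEq.respectTransparency.types false

open CategoryTheory CategoryTheory.Limits AlgebraicGeometry AlgSp Opposite
open Groth.Agent.AlgSpace

namespace Groth.Agent.AlgSpDecent

variable {S : Scheme.{u}} {F G : Sp S} {U V : Over S}

theorem finLE_of_isEmpty {K : Type u} [Field K] {n : ℕ} {T : Scheme.{u}} [IsEmpty T]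
    (c : T ⟶ Spec (CommRingCat.of K)) : FinLE n c := by
  have : IsAffine T := inferInstance
  obtain ⟨B, _, _, e, rfl⟩ := exists_spec_form c
  have : IsEmpty (PrimeSpectrum B) := e.hom.homeomorph.toEquiv.symm.isEmpty
  have : Subsingleton B := PrimeSpectrum.isEmpty_iff_subsingleton.1 this
  rw [finLE_iso_comp_iff, finLE_spec_iff]
  exact ⟨inferInstance, by simp [Module.finrank_zero_of_subsingleton]⟩

theorem fieldPt_surj {K : Type u} [Field K] (str : Spec (CommRingCat.of K) ⟶ S)
    (A : (yon S).obj (Over.mk str) ⟶ F) : ∃ q : FieldPt F, ∃ e : q.pt = Over.mk str,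
      q.toHom = (yon S).map (eqToHom e) ≫ A :=
  ⟨⟨K, str, sect A⟩, rfl, by rw [exists_fieldPt_toHom]; exact ((congrArg (· ≫ A) ((yon S).map_id _)).trans (Category.id_comp A)).symm⟩

/-- Degree bounds for the fibres, read on arbitrary field-valued test morphisms. -/
theorem finLE_of_degFibresLE {n : ℕ} {a : (yon S).obj U ⟶ F} (h : W4dec.DegFibresLE n a)
    {K : Type u} [Field K] {str : Spec (CommRingCat.of K) ⟶ S}
    {A : (yon S).obj (Over.mk str) ⟶ F} {T : Over S} {c : T ⟶ Over.mk str}
    {s : T ⟶ U} (sq : IsPullback ((yon S).map c) ((yon S).map s) A a) :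
    FinLE (K := K) n c.left :=
  h ⟨K, str, sect A⟩ T c _ (by rw [exists_fieldPt_toHom]; exact sq)

/-- Fibres of a morphism of schemes with bounded fibres. -/
theorem finLE_snd_of_degFibresLE {n : ℕ} {f : V ⟶ U} (h : W4dec.DegFibresLE n ((yon S).map f))
    {L : Type u} [Field L] (y : Spec (CommRingCat.of L) ⟶ U.left) :
    FinLE n (pullback.snd f.left y) := by
  let y' : Over.mk (y ≫ U.hom) ⟶ U := Over.homMk y rfl
  have sq := (IsPullback.of_hasPullback f y').flip
  have h1 : FinLE (K := L) n (pullback.snd f y').left := finLE_of_degFibresLE h (sq.map (yon S))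
  have e := (sq.flip.map (Over.forget S)).isoPullback
  have he : ((sq.flip.map (Over.forget S)).isoPullback).hom ≫ pullback.snd f.left y =
      (pullback.snd f y').left := (sq.flip.map (Over.forget S)).isoPullback_hom_snd
  exact (finLE_iso_comp_iff ((sq.flip.map (Over.forget S)).isoPullback) (pullback.snd f.left y)).1 (he.symm ▸ h1)

/-- Composition of morphisms with universally bounded fibres. -/
theorem degFibresLE_comp {n m : ℕ} {f : V ⟶ U} {g : (yon S).obj U ⟶ F}
    (hrep : (yon S).relativelyRepresentable g) (hf : W4dec.DegFibresLE n ((yon S).map f))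
    (hg : W4dec.DegFibresLE m g) : W4dec.DegFibresLE (n * m) ((yon S).map f ≫ g) := by
  intro q T c snd sq
  obtain ⟨s, rfl⟩ := (yon S).map_surjective snd
  obtain ⟨T', c', fst', sq'⟩ := hrep q.toHom
  obtain ⟨s', rfl⟩ := (yon S).map_surjective fst'
  have sqU : IsPullback ((yon S).map c') ((yon S).map s') q.toHom g := sq'.flip
  let φ' := sqU.lift ((yon S).map c) ((yon S).map s ≫ (yon S).map f) (by rw [Category.assoc]; exact sq.w)
  obtain ⟨φ, hφ⟩ := (yon S).map_surjective φ'
  have hc : c = φ ≫ c' := (yon S).map_injective (by rw [Functor.map_comp, hφ, IsPullback.lift_fst])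
  have hs : φ ≫ s' = s ≫ f := (yon S).map_injective
    (by rw [Functor.map_comp, hφ, IsPullback.lift_snd, Functor.map_comp])
  have sqT : IsPullback φ s s' f := by
    refine IsPullback.of_map (yon S) hs ?_
    refine IsPullback.of_right ?_ (by rw [← Functor.map_comp, hs, Functor.map_comp]) sqU
    rw [← Functor.map_comp, ← hc]
    exact sq
  subst hc
  rw [Over.comp_left]
  refine finLE_comp (hg q T' c' _ sqU) φ.left fun L _ x => ?_
  have h1 := finLE_snd_of_degFibresLE hf (x ≫ s'.left)
  have s1 : IsPullback (pullback.fst φ.left x ≫ s.left) (pullback.snd φ.left x) f.left (x ≫ s'.left) :=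
    (IsPullback.of_hasPullback φ.left x).paste_horiz (sqT.map (Over.forget S)).flip
  rw [← s1.isoPullback_hom_snd, finLE_iso_comp_iff]
  exact h1

/-- Base change of a morphism with universally bounded fibres. -/
theorem degFibresLE_of_isPullback {n : ℕ} {p : G ⟶ F} {g : (yon S).obj U ⟶ F}
    (hg : W4dec.DegFibresLE n g) {fst : (yon S).obj V ⟶ (yon S).obj U} {snd : (yon S).obj V ⟶ G}
    (h : IsPullback fst snd g p) : W4dec.DegFibresLE n snd := by
  intro q T c b sq
  refine hg (q.map p) T c (b ≫ fst) ?_
  rw [FieldPt.toHom_map]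
  exact (sq.flip.paste_horiz h).flip

/-- The fibres of the map on points are bounded by the degree bound. -/
theorem encard_fibre_le {n : ℕ} {a : (yon S).obj U ⟶ F}
    (hrep : (yon S).relativelyRepresentable a) (h : W4dec.DegFibresLE n a) (x : Points F) :
    (Points.ofPt a ⁻¹' {x}).encard ≤ n := by
  induction x using Points.ind with
  | h q =>
  obtain ⟨T, c, fst, sq⟩ := hrep q.toHom
  obtain ⟨s, rfl⟩ := (yon S).map_surjective fst
  have h1 : FinLE (K := q.K) n c.left := h q T c _ sq.flip
  obtain ⟨_, -⟩ := h1.discrete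
  have hsub : Points.ofPt a ⁻¹' {Points.mk q} ⊆ Set.range (s.left : T.left → U.left) := by
    intro v hv
    obtain ⟨w, hw, -⟩ := exists_point_lift sq (Points.ofScheme U v)
      (Points.ofScheme q.pt (IsLocalRing.closedPoint q.K))
      (by rw [map_toHom_eq, ← Points.ofPt_eq_map_ofScheme]; exact hv)
    obtain ⟨t, rfl⟩ := (Points.schemeEquiv T).surjective w
    refine ⟨t, (Points.schemeEquiv U).injective ?_⟩
    change Points.ofScheme U _ = Points.ofScheme U v
    rw [← hw]
    change Points.ofScheme U _ = Points.map _ (Points.ofScheme T t)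
    rw [← Points.ofPt_eq_map_ofScheme, ofPt_map_eq]
  calc (Points.ofPt a ⁻¹' {Points.mk q}).encard
      ≤ (Set.range (s.left : T.left → U.left)).encard := Set.encard_le_encard hsub
    _ ≤ ENat.card T.left := by
      rw [← Set.image_univ, ← Set.encard_univ]
      exact Set.encard_image_le _ _
    _ ≤ n := by rw [ENat.card_eq_coe_natCard]; exact_mod_cast h1.card_le

/-- Bounded fibres descend along flat surjective morphisms of the source. -/
theorem degFibresLE_of_flat_surjective {n : ℕ} {f : U ⟶ V} [Flat f.left] [Surjective f.left]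
    {h : (yon S).obj V ⟶ F} (hn : W4dec.DegFibresLE n ((yon S).map f ≫ h)) :
    W4dec.DegFibresLE n h := by
  intro q T c snd sq
  obtain ⟨s, rfl⟩ := (yon S).map_surjective snd
  have s1 := IsPullback.of_hasPullback f s
  have h1 : FinLE (K := q.K) n (pullback.snd f s ≫ c).left :=
    hn q (pullback f s) _ ((yon S).map (pullback.fst f s))
      (by rw [Functor.map_comp]; exact (s1.map (yon S)).flip.paste_horiz sq)
  have s2 := (s1.map (Over.forget S))
  have : Flat (pullback.snd f s).left := MorphismProperty.of_isPullback (P := @Flat) s2 ‹_›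
  have : Surjective (pullback.snd f s).left := MorphismProperty.of_isPullback (P := @Surjective) s2 ‹_›
  exact finLE_of_surjective_flat (pullback.snd f s).left (by rw [← Over.comp_left]; exact h1)

/-- Bounded fibres descend along a base change hitting the image. -/
theorem degFibresLE_of_baseChange {n : ℕ} {g : G ⟶ F} {f : (yon S).obj U ⟶ F}
    {fst : (yon S).obj V ⟶ (yon S).obj U} {f' : (yon S).obj V ⟶ G}
    (h : IsPullback fst f' f g) (him : Set.range (Points.ofPt f) ⊆ Set.range (Points.map g))
    (hf' : W4dec.DegFibresLE n f') : W4dec.DegFibresLE n f := by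
  intro q T c snd sq
  by_cases hT : IsEmpty T.left
  · exact finLE_of_isEmpty (K := q.K) c.left
  obtain ⟨t⟩ := not_isEmpty_iff.1 hT
  obtain ⟨s, rfl⟩ := (yon S).map_surjective snd
  have hq : Points.ofPt f (s.left t) = Points.mk q := by
    rw [← ofPt_map_comp, ← sq.w, ofPt_map_comp, Points.ofPt_toHom]
  obtain ⟨y, hy⟩ := him ⟨_, hq⟩
  induction y using Points.ind with
  | h q' =>
  rw [Points.map_mk] at hy
  obtain ⟨Ω, _, w, a, b, hab⟩ := exists_common_of_mk_eq hy.symm
  rw [FieldPt.toHom_map] at hab
  change Over.mk w ⟶ q'.pt at b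
  have s1 := IsPullback.of_hasPullback c a
  have s2 : IsPullback ((yon S).map (pullback.snd c a)) ((yon S).map (pullback.fst c a) ≫ (yon S).map s)
      ((yon S).map a ≫ q.toHom) f := ((s1.map (yon S)).paste_horiz sq.flip).flip
  let k := h.lift ((yon S).map (pullback.fst c a) ≫ (yon S).map s)
    ((yon S).map (pullback.snd c a) ≫ (yon S).map b ≫ q'.toHom)
    (by simp only [Category.assoc]; exact (Category.assoc _ _ _).symm.trans (s2.w.symm.trans (congrArg ((yon S).map (pullback.snd c a) ≫ ·) hab)))
  obtain ⟨k', hk'⟩ := (yon S).map_surjective k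
  have s3 : IsPullback ((yon S).map (pullback.snd c a)) ((yon S).map k')
      ((yon S).map b ≫ q'.toHom) f' := by
    have h2 : (yon S).map k' ≫ fst = (yon S).map (pullback.fst c a) ≫ (yon S).map s := by
      rw [hk', IsPullback.lift_fst]
    refine (IsPullback.of_right (h₁₁ := (yon S).map k') ?_ (by rw [hk', IsPullback.lift_snd]) h).flip
    rw [h2, Category.assoc]
    exact hab ▸ s2.flip
  have h1 : FinLE (K := Ω) n (pullback.snd c a).left := finLE_of_degFibresLE hf' s3
  exact finLE_of_fieldExt (K := q.K) (s1.map (Over.forget S)) h1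

end Groth.Agent.AlgSpDecent
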