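import Groth.Agent.Lib.AlgSpDecent.FieldEqvRel
import Groth.Agent.Lib.AlgSpDecent.UnivBdd
import Groth.Agent.Lib.AlgSpace.Atlas
import Groth.Agent.Lib.AlgSpace.AffineDescent
import Groth.Agent.Lib.AlgSpace.UI
import Groth.Agent.Lib.AlgSpace.OpenFlat
import Mathlib.AlgebraicGeometry.Morphisms.QuasiFinite

/-!
# Monomorphic points from finite self products
-/

universe u

set_option backward.isDefEq.respectTransparency.types false

open CategoryTheory CategoryTheory.Limits AlgebraicGeometry AlgSp Opposite TensorProduct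
open Groth.Agent.AlgSpace Groth.Agent.AlgSpace.AffineDescent

namespace Groth.Agent.AlgSpDecent

variable {S : Scheme.{u}} {F : Sp S}

theorem exists_finLE_of_isFinite {K : Type u} [Field K] {T : Scheme.{u}}
    (c : T ⟶ Spec (CommRingCat.of K)) [IsFinite c] : ∃ n, FinLE n c := by
  have : IsAffine T := isAffine_of_isAffineHom c
  obtain ⟨B, _, _, e, rfl⟩ := exists_spec_form c
  have h : IsFinite (Spec.map (CommRingCat.ofHom (algebraMap K B))) :=
    (MorphismProperty.cancel_left_of_respectsIso @IsFinite e.hom _).1 ‹_›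
  rw [IsFinite.SpecMap_iff, CommRingCat.hom_ofHom, RingHom.finite_algebraMap] at h
  exact ⟨Module.finrank K B, (finLE_iso_comp_iff e _).2 (finLE_spec_iff.2 ⟨h, le_rfl⟩)⟩

theorem surjective_of_isClosedImmersion {R T : CommRingCat.{u}} (ψ : R ⟶ T)
    [IsClosedImmersion (Spec.map ψ)] : Function.Surjective ψ.hom := by
  have h := (IsClosedImmersion.isAffine_surjective_of_isAffine (Spec.map ψ)).2
  intro y
  obtain ⟨x, hx⟩ := h ((Scheme.ΓSpecIso _).inv y)
  refine ⟨(Scheme.ΓSpecIso _).hom x, ?_⟩
  have := congr($(Scheme.ΓSpecIso_naturality ψ) x)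
  change (Scheme.ΓSpecIso _).hom ((Spec.map ψ).appTop x) = ψ ((Scheme.ΓSpecIso _).hom x) at this
  rw [hx] at this
  exact this.symm.trans ((Scheme.ΓSpecIso _).inv_hom_id_apply y)

theorem locallyQuasiFinite_of_etale {X Y : Scheme.{u}} (f : X ⟶ Y) [Etale f] : LocallyQuasiFinite f :=
  locallyQuasiFinite_of_unramified f

theorem flat_fieldTest {K : Type u} [Field K] {W : Scheme.{u}} (f : W ⟶ Spec (CommRingCat.of K))
    [Nonempty W] : Flat f ∧ Surjective f :=
  ⟨flat_of_field f, ⟨fun x => ⟨Classical.arbitrary W,
    @Subsingleton.elim _ (inferInstanceAs (Subsingleton (PrimeSpectrum K))) _ _⟩⟩⟩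

/-- If two field-valued points have a nonempty fibre product finite over both fields, the self
product of the first is finite over the field. -/
theorem isFinite_self_product {K L : Type u} [Field K] [Field L]
    {strK : Spec (CommRingCat.of K) ⟶ S} {strL : Spec (CommRingCat.of L) ⟶ S}
    {g : (yon S).obj (Over.mk strK) ⟶ F} {g' : (yon S).obj (Over.mk strL) ⟶ F}
    {G : Over S} {s t : G ⟶ Over.mk strK} (sqG : IsPullback ((yon S).map t) ((yon S).map s) g g)
    {M : Over S} {m : M ⟶ Over.mk strK} {m' : M ⟶ Over.mk strL}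
    (sqM : IsPullback ((yon S).map m) ((yon S).map m') g g') (hne : Nonempty M.left)
    (hm : IsFinite m.left) (hm' : IsFinite m'.left) : IsFinite s.left := by
  have sN := IsPullback.of_hasPullback m' m'
  let a := pullback.fst m' m'
  let b := pullback.snd m' m'
  let θ' := sqG.lift ((yon S).map (b ≫ m)) ((yon S).map (a ≫ m)) (by
    simp only [Functor.map_comp, Category.assoc, sqM.w]
    rw [← Functor.map_comp_assoc, ← Functor.map_comp_assoc]
    rw [show b ≫ m' = a ≫ m' from pullback.condition.symm])
  obtain ⟨θ, hθ⟩ := (yon S).map_surjective θ'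
  have ht : θ ≫ t = b ≫ m := (yon S).map_injective (by rw [Functor.map_comp, hθ, IsPullback.lift_fst])
  have hs : θ ≫ s = a ≫ m := (yon S).map_injective (by rw [Functor.map_comp, hθ, IsPullback.lift_snd])
  have outer : IsPullback ((yon S).map θ ≫ (yon S).map s) ((yon S).map b) g ((yon S).map m ≫ g) := by
    rw [← Functor.map_comp, hs, Functor.map_comp]
    rw [sqM.w]
    exact (sN.map (yon S)).paste_horiz sqM
  have sq : IsPullback ((yon S).map θ) ((yon S).map b) ((yon S).map t) ((yon S).map m) :=
    IsPullback.of_right outer (by rw [← Functor.map_comp, ← Functor.map_comp, ht]) sqG.flip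
  have sq' : IsPullback θ b t m := IsPullback.of_map (yon S) ht sq
  obtain ⟨hf, hsur⟩ := flat_fieldTest (K := K) m.left
  have : Flat θ.left := MorphismProperty.of_isPullback (P := @Flat) (sq'.map (Over.forget S)).flip hf
  have : Surjective θ.left :=
    MorphismProperty.of_isPullback (P := @Surjective) (sq'.map (Over.forget S)).flip hsur
  have : IsFinite a.left := MorphismProperty.of_isPullback (P := @IsFinite) (sN.map (Over.forget S)).flip hm'
  have : IsFinite (θ ≫ s).left := by rw [hs, Over.comp_left]; infer_instance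
  obtain ⟨n, hn⟩ := exists_finLE_of_isFinite (K := K) (θ ≫ s).left
  exact (finLE_of_surjective_flat (K := K) θ.left (c := s.left) (by rw [← Over.comp_left]; exact hn)).1

/-- The fibre product of two residue fields in a relation is finite when the relation has only
finitely many points over them. -/
theorem exists_finite_fibre_product {U R : Over S} (φ : (yon S).obj U ⟶ F) {s t : R ⟶ U}
    (sq : IsPullback ((yon S).map t) ((yon S).map s) φ φ) [Etale s.left] [Etale t.left]
    (u u' : ↥U.left) (hne : ∃ r : ↥R.left, t.left r = u ∧ s.left r = u')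
    (hfin : {r : ↥R.left | t.left r = u ∧ s.left r = u'}.Finite) :
    ∃ (M : Over S) (m : M ⟶ Over.mk (U.left.fromSpecResidueField u ≫ U.hom))
      (m' : M ⟶ Over.mk (U.left.fromSpecResidueField u' ≫ U.hom)),
      IsPullback ((yon S).map m) ((yon S).map m')
        ((yon S).map (Over.homMk (U.left.fromSpecResidueField u) rfl : _ ⟶ U) ≫ φ)
        ((yon S).map (Over.homMk (U.left.fromSpecResidueField u') rfl : _ ⟶ U) ≫ φ) ∧
      Nonempty M.left ∧ IsFinite m.left ∧ IsFinite m'.left := by
  let i : Over.mk (U.left.fromSpecResidueField u ≫ U.hom) ⟶ U := Over.homMk (U.left.fromSpecResidueField u) rfl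
  let i' : Over.mk (U.left.fromSpecResidueField u' ≫ U.hom) ⟶ U := Over.homMk (U.left.fromSpecResidueField u') rfl
  let F₁ := pullback t i
  let a := pullback.fst t i
  have sF := IsPullback.of_hasPullback t i
  have sM := IsPullback.of_hasPullback (a ≫ s) i'
  let m := pullback.fst (a ≫ s) i' ≫ pullback.snd t i
  let m' := pullback.snd (a ≫ s) i'
  have h1 : IsPullback ((yon S).map a) ((yon S).map (pullback.snd t i)) ((yon S).map t) ((yon S).map i) :=
    sF.map (yon S)
  have h2 : IsPullback ((yon S).map a ≫ (yon S).map s) ((yon S).map (pullback.snd t i)) φ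
      ((yon S).map i ≫ φ) := h1.paste_horiz sq.flip
  have h3 : IsPullback ((yon S).map (pullback.fst (a ≫ s) i')) ((yon S).map m')
      ((yon S).map a ≫ (yon S).map s) ((yon S).map i') := by
    rw [← Functor.map_comp]; exact sM.map (yon S)
  have hM : IsPullback ((yon S).map m) ((yon S).map m') ((yon S).map i ≫ φ) ((yon S).map i' ≫ φ) := by
    rw [Functor.map_comp]
    exact h3.paste_horiz h2.flip
  have : Etale (pullback.snd t i).left :=
    MorphismProperty.of_isPullback (P := @Etale) (sF.map (Over.forget S)) ‹_›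
  have : IsPreimmersion i'.left := inferInstanceAs (IsPreimmersion (U.left.fromSpecResidueField u'))
  have : IsPreimmersion i.left := inferInstanceAs (IsPreimmersion (U.left.fromSpecResidueField u))
  have hp1 : IsPreimmersion (pullback.fst (a ≫ s) i').left :=
    MorphismProperty.of_isPullback (P := @IsPreimmersion) (sM.map (Over.forget S)).flip ‹_›
  have hpa : IsPreimmersion a.left :=
    MorphismProperty.of_isPullback (P := @IsPreimmersion) (sF.map (Over.forget S)).flip ‹_›
  let ρ := pullback.fst (a ≫ s) i' ≫ a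
  have hρ : IsPreimmersion ρ.left := by rw [Over.comp_left]; infer_instance
  have hmem : ∀ z, ρ.left z ∈ {r : ↥R.left | t.left r = u ∧ s.left r = u'} := fun z => by
    constructor
    · have : (ρ ≫ t).left = (m ≫ i).left := by
        simp only [ρ, m, a, Category.assoc, pullback.condition]
      rw [← Scheme.Hom.comp_apply, ← Over.comp_left, this, Over.comp_left, Scheme.Hom.comp_apply]
      exact U.left.fromSpecResidueField_apply u _
    · have : (ρ ≫ s).left = (m' ≫ i').left := by
        simp only [ρ, m', Category.assoc, pullback.condition]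
      rw [← Scheme.Hom.comp_apply, ← Over.comp_left, this, Over.comp_left, Scheme.Hom.comp_apply]
      exact U.left.fromSpecResidueField_apply u' _
  let P := pullback (a ≫ s) i'
  have hfinite : Finite P.left :=
    have := hfin.to_subtype
    Finite.of_injective (fun z => (⟨ρ.left z, hmem z⟩ : {r : ↥R.left | t.left r = u ∧ s.left r = u'}))
      fun z z' h => ρ.left.isEmbedding.injective (congrArg Subtype.val h)
  have : CompactSpace P.left := Finite.compactSpace
  have hm : IsFinite m.left := by
    have : IsLocallyArtinian (Over.mk (U.left.fromSpecResidueField u ≫ U.hom)).left :=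
      inferInstanceAs (IsLocallyArtinian (Spec (U.left.residueField u)))
    have : LocallyQuasiFinite (pullback.snd t i).left := locallyQuasiFinite_of_etale _
    have : LocallyQuasiFinite m.left := by rw [Over.comp_left]; infer_instance
    have : IsAffine (Over.mk (U.left.fromSpecResidueField u ≫ U.hom)).left :=
      inferInstanceAs (IsAffine (Spec (U.left.residueField u)))
    have : QuasiCompact m.left := (quasiCompact_iff_compactSpace _).2 ‹_›
    exact IsFinite.of_locallyQuasiFinite _
  -- the same argument from the other side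
  let F₂ := pullback s i'
  have sF' := IsPullback.of_hasPullback s i'
  let n := sF'.lift ρ m' (by simp only [ρ, m', Category.assoc, pullback.condition])
  have : Etale (pullback.snd s i').left :=
    MorphismProperty.of_isPullback (P := @Etale) (sF'.map (Over.forget S)) ‹_›
  have hpn : IsPreimmersion (n.left) := by
    have : IsPreimmersion (pullback.fst s i').left :=
      MorphismProperty.of_isPullback (P := @IsPreimmersion) (sF'.map (Over.forget S)).flip ‹_›
    have : IsPreimmersion (n.left ≫ (pullback.fst s i').left) := by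
      rw [← Over.comp_left, sF'.lift_fst]; exact hρ
    exact IsPreimmersion.of_comp n.left (pullback.fst s i').left
  have hm' : IsFinite m'.left := by
    have : IsLocallyArtinian (Over.mk (U.left.fromSpecResidueField u' ≫ U.hom)).left :=
      inferInstanceAs (IsLocallyArtinian (Spec (U.left.residueField u')))
    have : LocallyQuasiFinite (pullback.snd s i').left := locallyQuasiFinite_of_etale _
    have : LocallyQuasiFinite n.left := inferInstance
    have : LocallyQuasiFinite m'.left := by
      rw [← sF'.lift_snd ρ m' (by simp only [ρ, m', Category.assoc, pullback.condition]),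
        Over.comp_left]
      infer_instance
    have : IsAffine (Over.mk (U.left.fromSpecResidueField u' ≫ U.hom)).left :=
      inferInstanceAs (IsAffine (Spec (U.left.residueField u')))
    have : QuasiCompact m'.left := (quasiCompact_iff_compactSpace _).2 ‹_›
    exact IsFinite.of_locallyQuasiFinite _
  refine ⟨_, m, m', hM, ?_, hm, hm'⟩
  obtain ⟨r, hr, hr'⟩ := hne
  obtain ⟨f, hf⟩ := Scheme.Pullback.exists_preimage_pullback (f := t.left) (g := i.left) r
    (IsLocalRing.closedPoint (U.left.residueField u))
    (by rw [hr]; exact (U.left.fromSpecResidueField_apply u _).symm)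
  have e1 := (sF.map (Over.forget S))
  let f' : ↥F₁.left := e1.isoPullback.inv f
  have hf' : a.left f' = r := by
    rw [← hf.1]; exact congr($(e1.isoPullback_inv_fst) f)
  obtain ⟨z, -⟩ := Scheme.Pullback.exists_preimage_pullback (f := (a ≫ s).left) (g := i'.left) f'
    (IsLocalRing.closedPoint (U.left.residueField u'))
    (by rw [Over.comp_left, Scheme.Hom.comp_apply, hf', hr']
        exact (U.left.fromSpecResidueField_apply u' _).symm)
  exact ⟨(sM.map (Over.forget S)).isoPullback.inv z⟩

/-- A field-valued point with finite self product factors through a monomorphic one. -/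
theorem exists_mono_point_of_isFinite_self_product {K : Type u} [Field K]
    {strK : Spec (CommRingCat.of K) ⟶ S} {g : (yon S).obj (Over.mk strK) ⟶ F}
    {R : Over S} {s t : R ⟶ Over.mk strK} (sq : IsPullback ((yon S).map t) ((yon S).map s) g g)
    (hs : IsFinite s.left) (ht : IsFinite t.left) :
    ∃ (p : FieldPt F) (π : Over.mk strK ⟶ p.pt),
      (yon S).map π ≫ p.toHom = g ∧ Mono p.toHom ∧ IsFinite π.left := by
  have : IsAffine (Over.mk strK).left := inferInstanceAs (IsAffine (Spec (CommRingCat.of K)))
  have : IsAffine R.left := isAffine_of_isAffineHom s.left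
  obtain ⟨A, _, _, e, he⟩ := exists_spec_form (R := K) s.left
  let sR : K →+* A := algebraMap K A
  let tR : K →+* A := (Spec.preimage (e.inv ≫ t.left)).hom
  have het : e.hom ≫ Spec.map (CommRingCat.ofHom tR) = t.left := by
    simp [tR, Spec.map_preimage]
  have hsfin : sR.Finite := by
    have : IsFinite (Spec.map (CommRingCat.ofHom sR)) :=
      (MorphismProperty.cancel_left_of_respectsIso @IsFinite e.hom _).1 (he ▸ hs)
    rwa [IsFinite.SpecMap_iff] at this
  -- nonempty through the diagonal
  obtain ⟨δ, hδ⟩ := (yon S).map_surjective (sq.lift (𝟙 _) (𝟙 _) rfl)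
  have : Nonempty R.left := ⟨δ.left (IsLocalRing.closedPoint K)⟩
  have : Nonempty (PrimeSpectrum A) := ⟨e.hom (Classical.arbitrary R.left)⟩
  have : Nontrivial A := (Classical.arbitrary (PrimeSpectrum A)).nontrivial
  -- composable pairs
  obtain ⟨B, _, _, e', he'⟩ := exists_spec_form (R := K) t.left
  let φ : A →+* B := (Spec.preimage (e'.inv ≫ e.hom)).hom
  have hφ : e'.hom ≫ Spec.map (CommRingCat.ofHom φ) = e.hom := by simp [φ, Spec.map_preimage]
  have hφt : φ.comp tR = algebraMap K B := by
    refine congrArg CommRingCat.Hom.hom (Spec.map_injective (a₁ := CommRingCat.ofHom (φ.comp tR))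
      (a₂ := CommRingCat.ofHom (algebraMap K B)) ?_)
    rw [← cancel_epi e'.hom, he', CommRingCat.ofHom_comp, Spec.map_comp, reassoc_of% hφ, het]
  have sR₂ := IsPullback.of_hasPullback t s
  let π₁ := pullback.fst t s
  let π₂ := pullback.snd t s
  obtain ⟨c', hc'⟩ := (yon S).map_surjective (sq.lift ((yon S).map (π₂ ≫ t)) ((yon S).map (π₁ ≫ s)) (by
    have hw : π₂ ≫ s = π₁ ≫ t := pullback.condition.symm
    simp only [Functor.map_comp, Category.assoc, sq.w]
    rw [← Functor.map_comp_assoc, hw, Functor.map_comp_assoc, sq.w]))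
  have hct : c' ≫ t = π₂ ≫ t := (yon S).map_injective (by rw [Functor.map_comp, hc', IsPullback.lift_fst])
  have hcs : c' ≫ s = π₁ ≫ s := (yon S).map_injective (by rw [Functor.map_comp, hc', IsPullback.lift_snd])
  have ψ := (sR₂.map (Over.forget S)).of_iso (Iso.refl _) e' e (Iso.refl _) (fst' := π₁.left ≫ e'.hom)
    (snd' := π₂.left ≫ e.hom) (f' := Spec.map (CommRingCat.ofHom (algebraMap K B)))
    (g' := Spec.map (CommRingCat.ofHom (algebraMap K A))) (by simp [π₁]) (by simp [π₂]) (by simp [he']) (by simp [he])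
  let ε : (pullback t s).left ≅ Spec (CommRingCat.of (B ⊗[K] A)) := ψ.isoPullback ≪≫ pullbackSpecIso K B A
  let p₁ : A →+* B ⊗[K] A := (Algebra.TensorProduct.includeLeftRingHom).comp φ
  let p₂ : A →+* B ⊗[K] A := ((Algebra.TensorProduct.includeRight : A →ₐ[K] B ⊗[K] A) : A →+* B ⊗[K] A)
  let cR : A →+* B ⊗[K] A := (Spec.preimage (ε.inv ≫ c'.left ≫ e.hom)).hom
  have hp₁ : ε.hom ≫ Spec.map (CommRingCat.ofHom p₁) = π₁.left ≫ e.hom := by
    rw [CommRingCat.ofHom_comp, Spec.map_comp, ← pullbackSpecIso_inv_fst]
    simp [ε, π₁, hφ]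
  have hp₂ : ε.hom ≫ Spec.map (CommRingCat.ofHom p₂) = π₂.left ≫ e.hom := by
    rw [← pullbackSpecIso_inv_snd]
    simp [ε, π₂]
  have hc : ε.hom ≫ Spec.map (CommRingCat.ofHom cR) = c'.left ≫ e.hom := by simp [cR, Spec.map_preimage]
  have ringEq : ∀ (f g : K →+* B ⊗[K] A), ε.hom ≫ Spec.map (CommRingCat.ofHom f) =
      ε.hom ≫ Spec.map (CommRingCat.ofHom g) → ∀ x, f x = g x := fun f g h x =>
    congr($(congrArg CommRingCat.Hom.hom (Spec.map_injective ((cancel_epi ε.hom).1 h))) x)
  have hG : IsFieldGroupoid sR tR cR p₁ p₂ := by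
    refine ⟨fun x => ringEq (cR.comp sR) (p₁.comp sR) ?_ x, fun x => ringEq (cR.comp tR) (p₂.comp tR) ?_ x,
      fun x => ringEq (p₁.comp tR) (p₂.comp sR) ?_ x, fun n a v hv h => ?_⟩
    · simp only [CommRingCat.ofHom_comp, Spec.map_comp, reassoc_of% hc, reassoc_of% hp₁]
      rw [he, ← Over.comp_left, hcs, Over.comp_left]
    · simp only [CommRingCat.ofHom_comp, Spec.map_comp, reassoc_of% hc, reassoc_of% hp₂]
      rw [het, ← Over.comp_left, hct, Over.comp_left]
    · simp only [CommRingCat.ofHom_comp, Spec.map_comp, reassoc_of% hp₁, reassoc_of% hp₂]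
      rw [het, he, ← Over.comp_left, pullback.condition, Over.comp_left]
    · let l : (Fin n → K) →ₗ[K] A := Fintype.linearCombination K v
      have hl : Function.Injective l := by
        rw [injective_iff_map_eq_zero]
        intro x hx
        exact hv x (by simpa [l, Fintype.linearCombination_apply, Algebra.smul_def, sR] using hx)
      have hl' := Module.Flat.lTensor_preserves_injective_linearMap (M := B) l hl
      let w : B ⊗[K] (Fin n → K) := ∑ i, φ (a i) ⊗ₜ[K] Pi.single i (1 : K)
      have hw : LinearMap.lTensor B l w = 0 := by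
        simpa [w, l, p₁, p₂, Fintype.linearCombination_apply_single] using h
      have hw0 : w = 0 := hl' (by rw [hw, map_zero])
      funext i
      have := congrArg (fun z => TensorProduct.rid K B (LinearMap.lTensor B (LinearMap.proj i) z)) hw0
      simp [w, Pi.single_apply, Finset.sum_ite_eq, apply_ite] at this
      have hφinj : Function.Injective φ := by
        let φ' : B →+* A := (Spec.preimage (e.inv ≫ e'.hom)).hom
        refine Function.LeftInverse.injective (g := φ') fun z => ?_
        have : Spec.preimage (e'.inv ≫ e.hom) ≫ Spec.preimage (e.inv ≫ e'.hom) = 𝟙 _ :=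
          Spec.map_injective (by simp [Spec.map_preimage, Spec.map_id])
        exact congr($this z)
      exact hφinj (by rw [this, Pi.zero_apply, map_zero])
  -- generation by the two copies of the field
  have hgen : ∀ T : Subring A, (∀ x, sR x ∈ T) → (∀ x, tR x ∈ T) → T = ⊤ := by
    intro T hsT htT
    let μ : K ⊗[ℤ] K →+* A :=
      (Algebra.TensorProduct.lift (tR.toIntAlgHom) (sR.toIntAlgHom) fun _ _ => Commute.all _ _).toRingHom
    have hμl : ∀ x, μ (x ⊗ₜ 1) = tR x := fun x => by simp [μ]
    have hμr : ∀ x, μ (1 ⊗ₜ x) = sR x := fun x => by simp [μ]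
    have hfin : μ.Finite := by
      refine RingHom.Finite.of_comp_finite (f := (Algebra.TensorProduct.includeRight : K →ₐ[ℤ] K ⊗[ℤ] K).toRingHom) ?_
      convert hsfin
      exact RingHom.ext hμr
    have hcl : IsClosedImmersion (Spec.map (CommRingCat.ofHom μ)) := by
      rw [IsClosedImmersion.iff_isFinite_and_mono]
      refine ⟨(IsFinite.SpecMap_iff _).2 hfin, ⟨fun {Z} α β h => ?_⟩⟩
      have hr : α ≫ Spec.map (CommRingCat.ofHom sR) = β ≫ Spec.map (CommRingCat.ofHom sR) := by
        rw [show CommRingCat.ofHom sR = CommRingCat.ofHom (Algebra.TensorProduct.includeRight : K →ₐ[ℤ] K ⊗[ℤ] K).toRingHom ≫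
          CommRingCat.ofHom μ from by ext x; exact (hμr x).symm, Spec.map_comp, reassoc_of% h]
      have hl : α ≫ Spec.map (CommRingCat.ofHom tR) = β ≫ Spec.map (CommRingCat.ofHom tR) := by
        rw [show CommRingCat.ofHom tR = CommRingCat.ofHom (Algebra.TensorProduct.includeLeftRingHom : K →+* K ⊗[ℤ] K) ≫
          CommRingCat.ofHom μ from by ext x; exact (hμl x).symm, Spec.map_comp, reassoc_of% h]
      let Z' : Over S := Over.mk (α ≫ e.inv ≫ R.hom)
      let α' : Z' ⟶ R := Over.homMk (α ≫ e.inv) (by simp [Z'])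
      let β' : Z' ⟶ R := Over.homMk (β ≫ e.inv) (by
        simp only [Z', Over.mk_hom]
        rw [← Over.w s, ← he]
        simp only [Category.assoc, Iso.inv_hom_id_assoc]
        rw [reassoc_of% hr])
      have : α' = β' := (yon S).map_injective (sq.hom_ext
        (by rw [← Functor.map_comp, ← Functor.map_comp]; congr 1; ext1; simp [α', β', ← het, hl])
        (by rw [← Functor.map_comp, ← Functor.map_comp]; congr 1; ext1; simp [α', β', ← he]; exact hr))
      simpa [α', β'] using congr(($this).left)
    have hsurj : Function.Surjective μ := surjective_of_isClosedImmersion (CommRingCat.ofHom μ)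
    refine eq_top_iff.2 fun a _ => ?_
    obtain ⟨z, rfl⟩ := hsurj a
    induction z using TensorProduct.induction_on with
    | zero => simp
    | tmul x y =>
      have : x ⊗ₜ[ℤ] y = x ⊗ₜ 1 * (1 : K) ⊗ₜ y := by simp
      rw [this, map_mul, hμl, hμr]
      exact T.mul_mem (htT x) (hsT y)
    | add x y hx hy => rw [map_add]; exact T.add_mem (hx trivial) (hy trivial)
  -- the equaliser field and the descent
  let k₀ : Subfield K := RingHom.eqLocusField sR tR
  let μ : K ⊗[↥k₀] K →+* A :=
    (Algebra.TensorProduct.lift (R := ↥k₀) (S := ↥k₀) (AlgHom.mk sR fun _ => rfl) (AlgHom.mk tR fun x => (x.2).symm)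
      fun _ _ => Commute.all _ _).toRingHom
  have hμs : ∀ x, μ (x ⊗ₜ 1) = sR x := fun x => by simp [μ]
  have hμt : ∀ x, μ (1 ⊗ₜ x) = tR x := fun x => by simp [μ]
  obtain ⟨hfink, hμ⟩ := hG.finite_and_bijective hsfin hgen (k₀ := ↥k₀) (fun x =>
    ⟨fun h => ⟨⟨x, h⟩, rfl⟩, fun ⟨y, hy⟩ => hy ▸ y.2⟩) μ hμs hμt
  let πZ : Spec (CommRingCat.of K) ⟶ Spec (CommRingCat.of ↥k₀) :=
    Spec.map (CommRingCat.ofHom (algebraMap ↥k₀ K))
  -- the structure map descends
  obtain ⟨str₀, hstr₀⟩ : ∃ str₀ : Spec (CommRingCat.of ↥k₀) ⟶ S, πZ ≫ str₀ = strK := by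
    obtain ⟨V, hV, hxV, -⟩ := exists_isAffineOpen_mem_and_subset (X := S)
      (x := strK (IsLocalRing.closedPoint K)) (U := ⊤) trivial
    have hr : Set.range strK ⊆ Set.range hV.fromSpec := by
      rintro _ ⟨z, rfl⟩
      rw [@Subsingleton.elim _ (inferInstanceAs (Subsingleton (PrimeSpectrum K))) z (IsLocalRing.closedPoint K),
        hV.range_fromSpec]
      exact hxV
    obtain ⟨f, hf⟩ := Spec.map_surjective (IsOpenImmersion.lift hV.fromSpec strK hr)
    have hfs : Spec.map f ≫ hV.fromSpec = strK := by rw [hf, IsOpenImmersion.lift_fac]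
    have : ∀ z, f.hom z ∈ k₀ := by
      have h1 : f ≫ CommRingCat.ofHom sR = f ≫ CommRingCat.ofHom tR := by
        refine Spec.map_injective ((cancel_epi e.hom).1 ((cancel_mono hV.fromSpec).1 ?_))
        simp only [Spec.map_comp, Category.assoc, hfs, reassoc_of% he, reassoc_of% het]
        exact (Over.w s).trans (Over.w t).symm
      exact fun z => congr($h1 z)
    refine ⟨Spec.map (CommRingCat.ofHom (f.hom.codRestrict k₀ this)) ≫ hV.fromSpec, ?_⟩
    rw [← hfs, ← Spec.map_comp_assoc]
    congr 2
  let P₀ : Over S := Over.mk str₀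
  let π : Over.mk strK ⟶ P₀ := Over.homMk πZ hstr₀
  have : Nontrivial K := inferInstance
  have : IsFinite π.left := by
    change IsFinite πZ
    rw [IsFinite.SpecMap_iff, CommRingCat.hom_ofHom, RingHom.finite_algebraMap]
    exact hfink
  have : Nonempty ↥(Over.mk strK).left := ⟨IsLocalRing.closedPoint K⟩
  obtain ⟨hfl, hsu⟩ := flat_fieldTest (K := ↥k₀) π.left
  have : LocallyOfFinitePresentation π.left := by
    change LocallyOfFinitePresentation πZ
    rw [HasRingHomProperty.Spec_iff (P := @LocallyOfFinitePresentation), CommRingCat.hom_ofHom,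
      RingHom.finitePresentation_algebraMap]
    exact Algebra.FinitePresentation.of_finiteType.1 inferInstance
  -- the relation is the self product over the equaliser
  let εμ : CommRingCat.of (K ⊗[↥k₀] K) ≅ CommRingCat.of A := (RingEquiv.ofBijective μ hμ).toCommRingCatIso
  have sqπ' : IsPullback s.left t.left πZ πZ := by
    refine (IsPullback.of_hasPullback (Spec.map (CommRingCat.ofHom (algebraMap ↥k₀ K)))
      (Spec.map (CommRingCat.ofHom (algebraMap ↥k₀ K)))).of_iso
      (pullbackSpecIso ↥k₀ K K ≪≫ (Scheme.Spec.mapIso εμ.op).symm ≪≫ e.symm) (Iso.refl _) (Iso.refl _) (Iso.refl _)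
      ?_ ?_ (by simp [πZ]) (by simp [πZ])
    · rw [← cancel_epi (pullbackSpecIso ↥k₀ K K).inv]
      simp only [Iso.trans_hom, Category.assoc, Iso.inv_hom_id_assoc, Iso.refl_hom, Category.comp_id,
        pullbackSpecIso_inv_fst]
      rw [← he, Iso.symm_hom, Iso.symm_hom, Iso.inv_hom_id_assoc]
      simp only [Functor.mapIso_inv, Iso.op_inv, Scheme.Spec_map, ← Spec.map_comp]
      congr 1
      ext x
      exact ((RingEquiv.ofBijective μ hμ).eq_symm_apply).2 (hμs x)
    · rw [← cancel_epi (pullbackSpecIso ↥k₀ K K).inv]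
      simp only [Iso.trans_hom, Category.assoc, Iso.inv_hom_id_assoc, Iso.refl_hom, Category.comp_id,
        pullbackSpecIso_inv_snd]
      rw [← het, Iso.symm_hom, Iso.symm_hom, Iso.inv_hom_id_assoc]
      simp only [Functor.mapIso_inv, Iso.op_inv, Scheme.Spec_map, ← Spec.map_comp]
      congr 1
      ext x
      exact ((RingEquiv.ofBijective μ hμ).eq_symm_apply).2 (hμt x)
  have sqπ : IsPullback t s π π :=
    IsPullback.of_map (Over.forget S) (by ext1; exact sqπ'.flip.w) sqπ'.flip
  have hepi : Epi ((yon S).map π) :=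
    epi_of_isPullback π (IsPullback.of_horiz_isIso ⟨(Category.id_comp _).trans (Category.comp_id _).symm⟩ :
      IsPullback (𝟙 _) ((yon S).map π) ((yon S).map π) (𝟙 _))
  obtain ⟨hc⟩ := nonempty_isColimit_cofork ((yon S).map π) (sqπ.map (yon S))
  let p' := Cofork.IsColimit.desc hc g sq.w
  have hp' : (yon S).map π ≫ p' = g := Cofork.IsColimit.π_desc hc
  refine ⟨⟨↥k₀, str₀, sect p'⟩, π, ?_, ?_, ‹_›⟩
  · rw [exists_fieldPt_toHom]; exact hp'
  · rw [exists_fieldPt_toHom]
    refine mono_of_yon _ fun T α β h => ?_
    obtain ⟨α', rfl⟩ := (yon S).map_surjective α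
    obtain ⟨β', rfl⟩ := (yon S).map_surjective β
    have s1 := IsPullback.of_hasPullback α' π
    let q₁ := pullback.fst α' π
    have s2 := IsPullback.of_hasPullback (q₁ ≫ β') π
    let q₂ := pullback.fst (q₁ ≫ β') π
    have epi_fst : ∀ {W : Over S} (δ : W ⟶ P₀), Epi ((yon S).map (pullback.fst δ π)) := fun δ =>
      epi_of_isPullback π ((IsPullback.of_hasPullback δ π).map (yon S)).flip
    have h₁ := epi_fst α'
    have h₂ := epi_fst (q₁ ≫ β')
    obtain ⟨r, hr⟩ := (yon S).map_surjective
      (sq.lift ((yon S).map (q₂ ≫ pullback.snd α' π)) ((yon S).map (pullback.snd (q₁ ≫ β') π)) (by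
        rw [← hp', ← Functor.map_comp_assoc, ← Functor.map_comp_assoc]
        have e1 : (q₂ ≫ pullback.snd α' π) ≫ π = q₂ ≫ q₁ ≫ α' := by
          rw [Category.assoc, ← pullback.condition]
        have e2 : pullback.snd (q₁ ≫ β') π ≫ π = q₂ ≫ q₁ ≫ β' := pullback.condition.symm
        rw [e1, e2]
        simp only [Functor.map_comp, Category.assoc, h]))
    have h3 : (q₂ ≫ pullback.snd α' π) ≫ π = pullback.snd (q₁ ≫ β') π ≫ π := by
      have ht' : r ≫ t = q₂ ≫ pullback.snd α' π :=
        (yon S).map_injective (by rw [Functor.map_comp, hr, IsPullback.lift_fst])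
      have hs' : r ≫ s = pullback.snd (q₁ ≫ β') π :=
        (yon S).map_injective (by rw [Functor.map_comp, hr, IsPullback.lift_snd])
      rw [← ht', ← hs', Category.assoc, Category.assoc, sqπ.w]
    rw [Category.assoc, ← pullback.condition, ← pullback.condition] at h3
    rw [← cancel_epi ((yon S).map q₁), ← cancel_epi ((yon S).map q₂)]
    simp only [← Functor.map_comp]
    exact congrArg (yon S).map h3

end Groth.Agent.AlgSpDecent
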