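import Groth.Agent.Lib.AlgSpDecent.EtaleCount
import Groth.Agent.Lib.AlgSpDecent.Basic2
import Groth.Agent.Lib.PtSet.Spectral
import Mathlib.AlgebraicGeometry.Morphisms.QuasiSeparated
import Mathlib.AlgebraicGeometry.Properties

/-!
# Decent spaces are sober
-/

universe u

set_option backward.isDefEq.respectTransparency.types false

open CategoryTheory CategoryTheory.Limits AlgebraicGeometry AlgSp Opposite Topology
open Groth.Agent.AlgSpace

namespace Groth.Agent.AlgSpDecent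

/-- A decreasing sequence of opens without common point of a closed subset stops being dense. -/
theorem exists_open_meeting_in_stratum {X : Type*} [TopologicalSpace X] [SpectralSpace X]
    {P : Set X} (hP : IsClosed P) (hne : P.Nonempty) (G : ℕ → Set X) (hG : ∀ n, IsOpen (G n))
    (hG0 : G 0 = Set.univ) (hbdd : ∀ x ∈ P, ∃ n, x ∉ G (n + 1)) :
    ∃ (n : ℕ) (D : Set X), IsOpen D ∧ IsCompact D ∧ (D ∩ P).Nonempty ∧
      D ∩ P ⊆ G n ∧ Disjoint (D ∩ P) (G (n + 1)) := by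
  classical
  have hex : ∃ n, ∃ D : Set X, IsOpen D ∧ (D ∩ P).Nonempty ∧ Disjoint (D ∩ P) (G (n + 1)) := by
    by_contra! H
    have step : ∀ (n : ℕ) (D : {D : Set X // IsOpen D ∧ IsCompact D ∧ (D ∩ P).Nonempty}),
        ∃ D' : {D : Set X // IsOpen D ∧ IsCompact D ∧ (D ∩ P).Nonempty}, D'.1 ⊆ D.1 ∩ G (n + 1) := by
      rintro n ⟨D, hD, hDc, hDP⟩
      obtain ⟨x, hx, hxG⟩ := Set.not_disjoint_iff.1 (H n D hD hDP)
      obtain ⟨D', ⟨hD', hD'c⟩, hxD', hsub⟩ :=
        PrespectralSpace.isTopologicalBasis.exists_subset_of_mem_open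
          (show x ∈ D ∩ G (n + 1) from ⟨hx.1, hxG⟩) (hD.inter (hG (n + 1)))
      exact ⟨⟨D', hD', hD'c, ⟨x, hxD', hx.2⟩⟩, hsub⟩
    choose nx hnx using step
    let D : ℕ → {D : Set X // IsOpen D ∧ IsCompact D ∧ (D ∩ P).Nonempty} := fun n =>
      n.rec ⟨Set.univ, isOpen_univ, isCompact_univ, by simpa using hne⟩ fun n d => nx n d
    have hcl : ∀ n, IsClosed (PtSet.toPatch ((D n).1 ∩ P)) := fun n =>
      (PtSet.isClopen_toPatch (D n).2.1 (D n).2.2.1).1.inter (hP.preimage PtSet.continuous_fromPatch)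
    obtain ⟨e, he⟩ := IsCompact.nonempty_iInter_of_sequence_nonempty_isCompact_isClosed
      (fun n => PtSet.toPatch ((D n).1 ∩ P))
      (fun n => Set.preimage_mono (Set.inter_subset_inter_left _
        ((hnx n (D n)).trans Set.inter_subset_left)))
      (fun n => by
        obtain ⟨x, hx⟩ := (D n).2.2.2
        exact ⟨WithTopology.toTopology _ x, hx⟩)
      (hcl 0).isCompact hcl
    simp only [Set.mem_iInter] at he
    obtain ⟨n, hn⟩ := hbdd _ (he 0).2
    exact hn (hnx n (D n) (he (n + 1)).1).2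
  obtain ⟨D, hD, hDP, hdis⟩ := Nat.find_spec hex
  have hne' : (D ∩ P ∩ G (Nat.find hex)).Nonempty := by
    rcases hk : Nat.find hex with _ | k
    · simpa [hG0] using hDP
    · by_contra h
      exact Nat.find_min hex (show k < Nat.find hex by omega) ⟨D, hD, hDP,
        Set.disjoint_iff_inter_eq_empty.2 (Set.not_nonempty_iff_eq_empty.1 h)⟩
  obtain ⟨x, ⟨hxD, hxP⟩, hxG⟩ := hne'
  obtain ⟨D', ⟨hD', hD'c⟩, hxD', hsub⟩ :=
    PrespectralSpace.isTopologicalBasis.exists_subset_of_mem_open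
      (show x ∈ D ∩ G (Nat.find hex) from ⟨hxD, hxG⟩) (hD.inter (hG (Nat.find hex)))
  exact ⟨_, D', hD', hD'c, ⟨x, hxD', hxP⟩, fun y hy => (hsub hy.1).2,
    hdis.mono_left (Set.inter_subset_inter_left _ (hsub.trans Set.inter_subset_left))⟩

instance spectralSpace_of_isAffine (U : Scheme.{u}) [IsAffine U] : SpectralSpace U where

/-- A separated étale morphism with finite fibres is quasi-compact over some nonempty open piece
of any closed subset of an affine base. -/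
theorem exists_qc_fibres_nhd {R U : Scheme.{u}} [IsAffine U] (s : R ⟶ U) [Etale s] [IsSeparated s]
    {P : Set U} (hP : IsClosed P) (hne : P.Nonempty) (hfin : ∀ u ∈ P, (s ⁻¹' {u}).Finite) :
    ∃ (D : Set U) (R' : R.Opens), IsOpen D ∧ IsCompact D ∧ (D ∩ P).Nonempty ∧
      IsCompact (R' : Set R) ∧ s ⁻¹' (D ∩ P) ⊆ R' := by
  obtain ⟨n, D, hD, hDc, hDP, hge, hlt⟩ := exists_open_meeting_in_stratum hP hne (geLocus s)
    (isOpen_geLocus s) (geLocus_zero s) (fun u hu => exists_notMem_geLocus s u (hfin u hu))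
  have hloc : ∀ u : ↥(D ∩ P), ∃ (N : Set U) (R' : R.Opens), IsOpen N ∧ u.1 ∈ N ∧
      IsCompact (R' : Set R) ∧ s ⁻¹' (N ∩ (D ∩ P)) ⊆ R' := by
    rintro ⟨u, hu⟩
    obtain ⟨T, w, hw⟩ := hge hu
    obtain ⟨W, hW, hwW, -⟩ := exists_isAffineOpen_mem_and_subset (X := T.V) (x := w) (U := ⊤) trivial
    have := T.etale
    have hy : ∀ i, Etale (T.y i) := fun i =>
      have : Etale (T.y i ≫ s) := by rw [T.hy]; infer_instance
      Etale.of_comp (T.y i) s
    refine ⟨T.v '' W, ⟨⋃ i, T.y i '' W, isOpen_iUnion fun i => (have := hy i; (T.y i).isOpenMap _ W.isOpen)⟩,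
      T.v.isOpenMap _ W.isOpen, ⟨w, hwW, hw⟩,
      isCompact_iUnion fun i => hW.isCompact.image (T.y i).continuous, ?_⟩
    rintro r ⟨⟨w', hw', hwr⟩, hrP⟩
    by_contra hr
    refine Set.disjoint_left.1 hlt hrP (mem_geLocus_succ T hwr fun i h => hr ?_)
    exact Set.mem_iUnion.2 ⟨i, w', hw', h⟩
  choose N R' hN huN hR' hsub using hloc
  obtain ⟨t, ht⟩ := (hDc.inter_right hP).elim_finite_subcover N hN
    (fun u hu => Set.mem_iUnion.2 ⟨⟨u, hu⟩, huN _⟩)
  refine ⟨D, ⨆ u ∈ t, R' u, hD, hDc, hDP, ?_, fun r hr => ?_⟩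
  · simp only [TopologicalSpace.Opens.coe_iSup]
    exact t.finite_toSet.isCompact_biUnion fun u _ => hR' u
  · obtain ⟨u, hu, hru⟩ := Set.mem_iUnion₂.1 (ht hr)
    simp only [TopologicalSpace.Opens.coe_iSup]
    exact Set.mem_iUnion₂.2 ⟨u, hu, hsub u ⟨hru, hr⟩⟩

/-- A compact open meets the preimage of a compact open of a separated scheme in a compact set. -/
theorem isCompact_inter_preimage {R U : Scheme.{u}} [U.IsSeparated] (f : R ⟶ U) {O : Set R}
    (hO : IsOpen O) (hOc : IsCompact O) {E : Set U} (hE : IsOpen E) (hEc : IsCompact E) :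
    IsCompact (O ∩ f ⁻¹' E) := by
  let O' : R.Opens := ⟨O, hO⟩
  have : CompactSpace O'.toScheme := isCompact_iff_compactSpace.1 hOc
  have := (QuasiCompact.isCompact_preimage (f := O'.ι ≫ f) _ hE hEc).image O'.ι.continuous
  rwa [Scheme.Hom.comp_base, TopCat.coe_comp, Set.preimage_comp, Set.image_preimage_eq_range_inter,
    Scheme.Opens.range_ι] at this

variable {S : Scheme.{u}} {F : Sp S}

/-- The points of a space with representable diagonal whose points have finite fibres in charts form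
a quasi-sober space. -/
theorem quasiSober_of_isDecent (hX : IsAlgSpace F) (h : IsDecent F) : QuasiSober (Points F) := by
  refine ⟨fun {Z} hZ hZc => ?_⟩
  obtain ⟨x, hx⟩ := hZ.nonempty
  obtain ⟨U, φ, hU, hφ, ⟨u₀, hu₀⟩⟩ := exists_affine_chart_at hX x
  have := hU
  obtain ⟨R, s, fst, sqR⟩ := hφ.1 φ
  obtain ⟨t, rfl⟩ := (yon S).map_surjective fst
  have : Etale s.left := hφ.2 φ _ _ sqR
  have : Etale t.left := hφ.2 φ _ _ sqR.flip
  have : U.left.IsSeparated := inferInstance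
  have : (U ⨯ U).left.IsSeparated := isSeparated_prod_left U U
  have hm : Mono (prod.lift t s).left :=
    prop_lift_of_repWith_diag (P := MorphismProperty.monomorphisms Scheme.{u}) (repWith_diag_mono hX.diag) sqR
  have : R.left.IsSeparated := Scheme.isSeparated_iff _ |>.2 <| by
    rw [show terminal.from R.left = (prod.lift t s).left ≫ terminal.from _ from terminal.hom_ext _ _]
    infer_instance
  have : IsSeparated s.left :=
    have : IsSeparated (s.left ≫ terminal.from U.left) := by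
      rw [show s.left ≫ terminal.from U.left = terminal.from R.left from terminal.hom_ext _ _]
      infer_instance
    IsSeparated.of_comp s.left (terminal.from U.left)
  let P := Points.ofPt φ ⁻¹' Z
  have hP : IsClosed P := hZc.preimage (Points.continuous_ofPt φ)
  have hrel : ∀ a b, Points.ofPt φ a = Points.ofPt φ b → ∃ r, t.left r = a ∧ s.left r = b := fun a b e => by
    obtain ⟨r, hr, hr'⟩ := exists_pt_of_isPullback sqR (x := Points.ofScheme U a) (t := b)
      (by rw [← Points.ofPt_eq_map_ofScheme]; exact e)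
    exact ⟨r, (Points.schemeEquiv U).injective ((ofPt_map_eq t r).symm.trans hr), hr'⟩
  have hcl : ∀ r, Points.ofPt φ (s.left r) = Points.ofPt φ (t.left r) := fun r => by
    rw [← ofPt_map_comp, ← ofPt_map_comp, sqR.w]
  obtain ⟨D, R', hD, hDc, hDP, hR'c, hR'⟩ := exists_qc_fibres_nhd s.left hP ⟨u₀, show Points.ofPt φ u₀ ∈ Z by rw [hu₀]; exact hx⟩
    (fun u _ => by
      obtain ⟨q, hq, -, hqc⟩ := h (Points.ofPt φ u)
      refine ((finite_fibres_of_qc_fieldPt hX.diag q hqc hφ).2 R s t sqR).subset fun r hr => ?_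
      rw [Set.mem_preimage, Set.mem_singleton_iff] at hr
      rw [Set.mem_preimage, Set.mem_singleton_iff, ofPt_map_comp, ← hcl, hr, hq])
  -- the saturations of compact opens meeting `Z`, traced on `D ∩ P`
  let T := fun E : {E : Set U.left // IsOpen E ∧ IsCompact E ∧ (E ∩ P).Nonempty} =>
    {d | d ∈ D ∩ P ∧ Points.ofPt φ d ∈ Points.ofPt φ '' E.1}
  have hT : ∀ E, IsClosed (PtSet.toPatch (T E)) := by
    intro E
    have hc : IsCompact (T E) := by
      have h1 : IsCompact ((R' : Set R.left) ∩ t.left ⁻¹' E.1 ∩ s.left ⁻¹' D) :=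
        isCompact_inter_preimage s.left (R'.isOpen.inter (t.left.continuous.isOpen_preimage _ E.2.1))
          (isCompact_inter_preimage t.left R'.isOpen hR'c E.2.1 E.2.2.1) hD hDc
      convert (h1.inter_right (hP.preimage s.left.continuous)).image s.left.continuous using 1
      ext d
      constructor
      · rintro ⟨hd, e, he, hde⟩
        obtain ⟨r, hr, hr'⟩ := hrel e d hde
        exact ⟨r, ⟨⟨⟨hR' (show s.left r ∈ D ∩ P from hr'.symm ▸ hd), show t.left r ∈ E.1 from hr.symm ▸ he⟩,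
          show s.left r ∈ D from hr'.symm ▸ hd.1⟩, show s.left r ∈ P from hr'.symm ▸ hd.2⟩, hr'⟩
      · rintro ⟨r, ⟨⟨⟨-, he⟩, hd⟩, hp⟩, rfl⟩
        exact ⟨⟨hd, hp⟩, t.left r, he, (hcl r).symm⟩
    have ho : IsOpen (Points.ofPt φ ⁻¹' (Points.ofPt φ '' E.1) ∩ D) :=
      ((isOpenMap_ofPt φ hφ _ E.2.1).preimage (Points.continuous_ofPt φ)).inter hD
    obtain ⟨W, hWs, hW⟩ : ∃ W : Set U.left, (IsOpen W ∧ IsCompact W) ∧ T E = W ∩ P := by
      choose! W hW hdW hWsub using fun d (hd : d ∈ T E) =>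
        PrespectralSpace.isTopologicalBasis.exists_subset_of_mem_open
          (show d ∈ Points.ofPt φ ⁻¹' (Points.ofPt φ '' E.1) ∩ D from ⟨hd.2, hd.1.1⟩) ho
      obtain ⟨f, hf⟩ := hc.elim_finite_subcover (fun d : T E => W d.1) (fun d => (hW _ d.2).1)
        (fun d hd => Set.mem_iUnion.2 ⟨⟨d, hd⟩, hdW d hd⟩)
      refine ⟨⋃ d ∈ f, W d.1, ⟨isOpen_biUnion fun d _ => (hW _ d.2).1,
        f.finite_toSet.isCompact_biUnion fun d _ => (hW _ d.2).2⟩, Set.ext fun d => ⟨fun hd => ⟨hf hd, hd.1.2⟩, ?_⟩⟩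
      rintro ⟨hd, hdP⟩
      obtain ⟨d', -, hd'⟩ := Set.mem_iUnion₂.1 hd
      have := hWsub d'.1 d'.2 hd'
      exact ⟨⟨this.2, hdP⟩, this.1⟩
    rw [hW]
    exact (PtSet.isClopen_toPatch hWs.1 hWs.2).1.inter (hP.preimage PtSet.continuous_fromPatch)
  have key : ∀ V : Set (Points F), IsOpen V → (V ∩ Z).Nonempty →
      (Points.ofPt φ ⁻¹' V ∩ D ∩ P).Nonempty := by
    intro V hV hVZ
    have hDo : IsOpen (Points.ofPt φ '' D) := isOpenMap_ofPt φ hφ _ hD
    obtain ⟨-, hy, hyV, d, hd, rfl⟩ := hZ.isPreirreducible V _ hV hDo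
      (Set.inter_comm _ _ ▸ hVZ)
      (by obtain ⟨d, hd, hdP⟩ := hDP; exact ⟨_, hdP, d, hd, rfl⟩)
    exact ⟨d, ⟨hyV, hd⟩, hy⟩
  have fip : ∀ f : Finset {E : Set U.left // IsOpen E ∧ IsCompact E ∧ (E ∩ P).Nonempty},
      ((D ∩ P) ∩ ⋂ E ∈ f, T E).Nonempty ∧
        ∃ V : Set (Points F), IsOpen V ∧ (V ∩ Z).Nonempty ∧
          ∀ d ∈ D ∩ P, Points.ofPt φ d ∈ V → ∀ E ∈ f, d ∈ T E := by
    classical
    intro f
    suffices h : ∃ V : Set (Points F), IsOpen V ∧ (V ∩ Z).Nonempty ∧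
          ∀ d ∈ D ∩ P, Points.ofPt φ d ∈ V → ∀ E ∈ f, d ∈ T E by
      refine ⟨?_, h⟩
      obtain ⟨V, hV, hVZ, hVT⟩ := h
      obtain ⟨d, ⟨hdV, hdD⟩, hdP⟩ := key V hV hVZ
      exact ⟨d, ⟨hdD, hdP⟩, Set.mem_iInter₂.2 (hVT d ⟨hdD, hdP⟩ hdV)⟩
    induction f using Finset.induction_on with
    | empty => exact ⟨Set.univ, isOpen_univ, ⟨x, trivial, hx⟩, by simp⟩
    | @insert E f _ ih =>
      obtain ⟨V, hV, hVZ, hVT⟩ := ih
      have hEo : IsOpen (Points.ofPt φ '' E.1) := isOpenMap_ofPt φ hφ _ E.2.1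
      refine ⟨V ∩ Points.ofPt φ '' E.1, hV.inter hEo, ?_, fun d hd hdV E' hE' => ?_⟩
      · obtain ⟨e, he, heP⟩ := E.2.2.2
        obtain ⟨y, hy, hy'⟩ := hZ.isPreirreducible V _ hV hEo (Set.inter_comm _ _ ▸ hVZ)
          ⟨_, heP, e, he, rfl⟩
        exact ⟨y, hy', hy⟩
      · rcases Finset.mem_insert.1 hE' with rfl | hE'
        · exact ⟨hd, hdV.2⟩
        · exact hVT d hd hdV.1 E' hE'
  have hclDP : IsClosed (PtSet.toPatch (D ∩ P)) :=
    (PtSet.isClopen_toPatch hD hDc).1.inter (hP.preimage PtSet.continuous_fromPatch)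
  obtain ⟨g, ⟨hgD, hgP⟩, hg⟩ := hclDP.isCompact.inter_iInter_nonempty (fun E => PtSet.toPatch (T E)) hT
    (fun f => by
      obtain ⟨⟨d, hd, hd'⟩, -⟩ := fip f
      exact ⟨WithTopology.toTopology _ d, hd, Set.mem_iInter₂.2 fun E hE => Set.mem_iInter₂.1 hd' E hE⟩)
  refine ⟨Points.ofPt φ (WithTopology.ofTopology g), ?_⟩
  refine Set.Subset.antisymm (closure_minimal (Set.singleton_subset_iff.2 hgP) hZc) fun z hz => ?_
  refine mem_closure_iff.2 fun V hV hzV => ?_
  obtain ⟨d, ⟨hdV, -⟩, hdP⟩ := key V hV ⟨z, hzV, hz⟩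
  obtain ⟨E, ⟨hE, hEc⟩, hdE, hEsub⟩ := PrespectralSpace.isTopologicalBasis.exists_subset_of_mem_open
    (show d ∈ Points.ofPt φ ⁻¹' V from hdV) (hV.preimage (Points.continuous_ofPt φ))
  obtain ⟨e, he, hge⟩ := (Set.mem_iInter.1 hg ⟨E, hE, hEc, ⟨d, hdE, hdP⟩⟩).2
  exact ⟨_, hge ▸ hEsub he, rfl⟩

end Groth.Agent.AlgSpDecent
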