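import Groth.Agent.Lib.AlgSpDecent.MonoPointApps
import Mathlib.AlgebraicGeometry.Fiber
import Mathlib.LinearAlgebra.FreeModule.Finite.Matrix
import Mathlib.AlgebraicGeometry.Morphisms.FormallyUnramified

/-!
# Étale locally constant bound on the points of an étale separated morphism with finite fibres
-/

universe u

set_option backward.isDefEq.respectTransparency.types false

open CategoryTheory CategoryTheory.Limits AlgebraicGeometry Topology

namespace Groth.Agent.AlgSpDecent

variable {R U : Scheme.{u}}

/-- An étale neighbourhood with `m` sections which are distinct at every field-valued point. -/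
structure Tuple (s : R ⟶ U) (m : ℕ) where
  V : Scheme.{u}
  v : V ⟶ U
  etale : Etale v
  y : Fin m → (V ⟶ R)
  hy : ∀ i, y i ≫ s = v
  distinct : ∀ i j, i ≠ j → ∀ (Ω : Type u) [Field Ω] (z : Spec (CommRingCat.of Ω) ⟶ V),
    z ≫ y i ≠ z ≫ y j

/-- The points over which there are at least `m` geometric points. -/
def geLocus (s : R ⟶ U) (m : ℕ) : Set U := {u | ∃ T : Tuple s m, u ∈ Set.range T.v}

theorem isOpen_geLocus (s : R ⟶ U) (m : ℕ) : IsOpen (geLocus s m) := by
  rw [show geLocus s m = ⋃ T : Tuple s m, Set.range T.v by ext; simp [geLocus]]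
  exact isOpen_iUnion fun T => have := T.etale; T.v.isOpenMap.isOpen_range

theorem geLocus_zero (s : R ⟶ U) : geLocus s 0 = Set.univ :=
  Set.eq_univ_iff_forall.2 fun u =>
    ⟨⟨U, 𝟙 U, inferInstance, Fin.elim0, fun i => i.elim0, fun i => i.elim0⟩, u, rfl⟩

theorem geLocus_succ_subset (s : R ⟶ U) (m : ℕ) : geLocus s (m + 1) ⊆ geLocus s m :=
  fun _ ⟨T, hT⟩ => ⟨⟨T.V, T.v, T.etale, fun i => T.y i.castSucc, fun i => T.hy _,
    fun i j h => T.distinct _ _ fun e => h (Fin.castSucc_injective _ e)⟩, hT⟩

/-- Points avoiding all sections give a longer tuple. -/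
theorem mem_geLocus_succ {s : R ⟶ U} [Etale s] [IsSeparated s] {m : ℕ} (T : Tuple s m) {w : T.V}
    {r : R} (h : T.v w = s r) (hr : ∀ i, T.y i w ≠ r) : s r ∈ geLocus s (m + 1) := by
  let p₁ : pullback T.v s ⟶ T.V := pullback.fst _ _
  let p₂ : pullback T.v s ⟶ R := pullback.snd _ _
  have hp : ∀ i, (p₁ ≫ T.y i) ≫ s = p₂ ≫ s := fun i => by
    rw [Category.assoc, T.hy, pullback.condition]
  let l := fun i => pullback.lift (p₁ ≫ T.y i) p₂ (hp i)
  let e := fun i => pullback.fst (l i) (pullback.diagonal s)
  have he : ∀ i, IsClosedImmersion (e i) := fun i => inferInstanceAs (IsClosedImmersion (pullback.fst _ _))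
  have hec : IsClosed (⋃ i, Set.range (e i)) :=
    isClosed_iUnion_of_finite fun i => (he i).base_closed.isClosed_range
  let O : (pullback T.v s).Opens := ⟨_, hec.isOpen_compl⟩
  obtain ⟨q, hq₁, hq₂⟩ := Scheme.Pullback.exists_preimage_pullback (f := T.v) (g := s) w r h
  have hqO : q ∈ O := by
    change q ∈ (⋃ i, Set.range (e i))ᶜ
    simp only [Set.mem_compl_iff, Set.mem_iUnion, not_exists]
    rintro i ⟨x, hx⟩
    refine hr i ?_
    have h1 : e i ≫ p₁ ≫ T.y i = e i ≫ p₂ := by
      have := congrArg (fun a => a ≫ pullback.fst s s) (pullback.condition (f := l i) (g := pullback.diagonal s))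
      have h' := congrArg (fun a => a ≫ pullback.snd s s) (pullback.condition (f := l i) (g := pullback.diagonal s))
      simp only [l, Category.assoc, pullback.lift_fst, pullback.lift_snd, pullback.diagonal_fst,
        pullback.diagonal_snd, Category.comp_id] at this h'
      exact this.trans h'.symm
    have h2 := congr($h1 x)
    rw [Scheme.Hom.comp_apply, Scheme.Hom.comp_apply, Scheme.Hom.comp_apply, hx] at h2
    rw [← hq₁, ← hq₂]
    exact h2
  have := T.etale
  let y : Fin (m + 1) → (O.toScheme ⟶ R) :=
    Fin.snoc (α := fun _ => O.toScheme ⟶ R) (fun i => O.ι ≫ p₁ ≫ T.y i) (O.ι ≫ p₂)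
  have hy : ∀ i, y i ≫ s = O.ι ≫ p₁ ≫ T.v :=
    Fin.lastCases (by simp [y, p₁, p₂, pullback.condition]) (fun i => by simp [y, T.hy])
  refine ⟨⟨O.toScheme, O.ι ≫ p₁ ≫ T.v, inferInstance, y, hy, ?_⟩, ⟨q, hqO⟩, ?_⟩
  · intro i j hij Ω _ z hz
    have key : ∀ i, z ≫ O.ι ≫ p₁ ≫ T.y i ≠ z ≫ O.ι ≫ p₂ := by
      intro i hz
      let x : Spec (CommRingCat.of Ω) ⟶ pullback (l i) (pullback.diagonal s) :=
        pullback.lift (z ≫ O.ι) (z ≫ O.ι ≫ p₂) (by
          refine pullback.hom_ext ?_ ?_ <;>
            simp only [l, Category.assoc, pullback.lift_fst, pullback.lift_snd, pullback.diagonal_fst,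
              pullback.diagonal_snd, Category.comp_id, hz])
      have h' : x ≫ e i = z ≫ O.ι := pullback.lift_fst _ _ _
      have hmem := (z (IsLocalRing.closedPoint Ω)).2
      refine (hmem : _ ∈ (⋃ i, Set.range (e i))ᶜ) (Set.mem_iUnion.2 ⟨i, x (IsLocalRing.closedPoint Ω), ?_⟩)
      rw [← Scheme.Hom.comp_apply, h']
      rfl
    induction i using Fin.lastCases with
    | last =>
      induction j using Fin.lastCases with
      | last => exact hij rfl
      | cast j => exact key j (by simpa [y] using hz.symm)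
    | cast i =>
      induction j using Fin.lastCases with
      | last => exact key i (by simpa [y] using hz)
      | cast j =>
        refine T.distinct i j (fun e => hij (congrArg _ e)) Ω (z ≫ O.ι ≫ p₁) ?_
        simpa [y] using hz
  · change T.v (p₁ q) = _
    rw [hq₁, h]

/-- Finite fibres bound the number of geometric points. -/
theorem exists_notMem_geLocus (s : R ⟶ U) [Etale s] (u : U) (hu : (s ⁻¹' {u}).Finite) :
    ∃ n, u ∉ geLocus s (n + 1) := by
  let K := U.residueField u
  let c : s.fiber u ⟶ Spec (CommRingCat.of K) := s.fiberToSpecResidueField u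
  have : Etale c := inferInstanceAs (Etale (pullback.snd _ _))
  have : Finite (s.fiber u) := @Finite.of_equiv _ _ hu.to_subtype (s.fiberHomeo u).toEquiv.symm
  have : CompactSpace (s.fiber u) := Finite.compactSpace
  obtain ⟨n, hn⟩ := (have := isFinite_of_etale_field c; exists_finLE_of_isFinite c)
  refine ⟨n, ?_⟩
  rintro ⟨T, w, rfl⟩
  have := hn.isAffine
  obtain ⟨B, _, _, e, hec, hB, hle⟩ := exists_spec_form' hn
  let k := (T.v.residueFieldMap w)
  let : Algebra K (T.V.residueField w) := k.hom.toAlgebra
  have hk : Spec.map k ≫ U.fromSpecResidueField (T.v w) = T.V.fromSpecResidueField w ≫ T.v :=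
    Scheme.Hom.SpecMap_residueFieldMap_fromSpecResidueField _ _
  let l : Fin (n + 1) → (Spec (T.V.residueField w) ⟶ s.fiber (T.v w)) := fun i =>
    pullback.lift (T.V.fromSpecResidueField w ≫ T.y i) (Spec.map k)
      (by rw [Category.assoc, T.hy, hk])
  have hl : ∀ i, (l i ≫ e.hom) ≫ Spec.map (CommRingCat.ofHom (algebraMap K B)) = Spec.map k := fun i => by
    rw [Category.assoc, hec]
    exact pullback.lift_snd _ _ _
  let φ : Fin (n + 1) → (B →ₐ[K] T.V.residueField w) := fun i =>
    { (Spec.preimage (l i ≫ e.hom)).hom with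
      commutes' := fun a => by
        have := hl i
        rw [← Spec.map_preimage (l i ≫ e.hom), ← Spec.map_comp] at this
        exact congr($(Spec.map_injective this).hom a) }
  have hinj : Function.Injective φ := by
    intro i j h
    by_contra hne
    refine T.distinct i j hne (T.V.residueField w) (T.V.fromSpecResidueField w) ?_
    have h1 : Spec.preimage (l i ≫ e.hom) = Spec.preimage (l j ≫ e.hom) :=
      CommRingCat.hom_ext (RingHom.ext fun a => DFunLike.congr_fun h a)
    have h2 : l i = l j := (cancel_mono e.hom).1 (by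
      rw [← Spec.map_preimage (l i ≫ e.hom), h1, Spec.map_preimage])
    have := congrArg (fun a => a ≫ pullback.fst _ _) h2
    exact (pullback.lift_fst _ _ _).symm.trans (this.trans (pullback.lift_fst _ _ _))
  have := (Nat.card_le_card_of_injective φ hinj).trans ((card_algHom_le_finrank K B _).trans hle)
  simp at this

end Groth.Agent.AlgSpDecent
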