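import Groth.Agent.Lib.AlgSpDecent.ClosedPoints
import Groth.Agent.Lib.AlgSpDecent.DenseOpen
import Groth.Agent.Lib.AlgSpDecent.EtaleCount
import Groth.Agent.Lib.AlgSpace.Chart

/-!
# Decent spaces with finitely many irreducible components
-/

universe u

set_option backward.isDefEq.respectTransparency.types false

open CategoryTheory CategoryTheory.Limits AlgebraicGeometry AlgSp Topology Opposite
open Groth.Agent.AlgSpace

namespace Groth.Agent.AlgSpDecent

/-- A space with a dense image of a space with finitely many components has finitely many components. -/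
theorem finite_components_of_denseRange {X Y : Type*} [TopologicalSpace X] [TopologicalSpace Y]
    {f : Y → X} (hf : Continuous f) (hd : DenseRange f) (hY : (irreducibleComponents Y).Finite) :
    (irreducibleComponents X).Finite := by
  classical
  refine (hY.image fun C => closure (f '' C)).subset fun Z hZ => ?_
  have hcov : Z ⊆ ⋃₀ ↑(hY.toFinset.image fun C => closure (f '' C)) := by
    refine (Set.subset_univ Z).trans (hd.closure_eq.ge.trans (closure_minimal ?_ ?_))
    · rintro _ ⟨y, rfl⟩
      obtain ⟨C, hC, hyC⟩ := exists_mem_irreducibleComponents_subset_of_isIrreducible {y} isIrreducible_singleton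
      exact ⟨closure (f '' C), Finset.mem_coe.2 (Finset.mem_image.2 ⟨C, hY.mem_toFinset.2 hC, rfl⟩),
        subset_closure ⟨y, hyC rfl, rfl⟩⟩
    · rw [Set.sUnion_eq_biUnion]
      refine (Finset.finite_toSet _).isClosed_biUnion fun D hD => ?_
      obtain ⟨C, -, rfl⟩ := by simpa using hD
      exact isClosed_closure
  obtain ⟨D, hD, hZD⟩ := isIrreducible_iff_sUnion_isClosed.1 hZ.1 _ (fun D hD => by
    obtain ⟨C, -, rfl⟩ := by simpa using hD
    exact isClosed_closure) hcov
  obtain ⟨C, hC, rfl⟩ := by simpa using hD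
  exact ⟨C, hC, subset_antisymm (hZ.2 (hC.1.image f hf.continuousOn).closure hZD) hZD⟩

/-- An open subspace has no more components than the space. -/
theorem finite_components_of_isOpenEmbedding {X Y : Type*} [TopologicalSpace X] [TopologicalSpace Y]
    {f : Y → X} (hf : IsOpenEmbedding f) (hX : (irreducibleComponents X).Finite) :
    (irreducibleComponents Y).Finite := by
  refine (hX.image fun Z => f ⁻¹' Z).subset fun C hC => ?_
  obtain ⟨Z, hZ, hsub⟩ := exists_mem_irreducibleComponents_subset_of_isIrreducible _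
    (hC.1.image f hf.continuous.continuousOn)
  obtain ⟨c, hc⟩ := hC.1.1
  have h2 := preimage_mem_irreducibleComponents hZ hf ⟨f c, hsub ⟨c, hc, rfl⟩, c, rfl⟩
  exact ⟨Z, hZ, subset_antisymm (hC.2 h2.1 (Set.image_subset_iff.1 hsub)) (Set.image_subset_iff.1 hsub)⟩

section Scheme

variable {X : Scheme.{u}}

/-- Every point has a generalisation which is minimal. -/
theorem exists_isMin_specializes (x : X) : ∃ x₀ : X, x₀ ⤳ x ∧ ∀ y : X, y ⤳ x₀ → y = x₀ := by
  obtain ⟨C, hC, hxC⟩ := exists_mem_irreducibleComponents_subset_of_isIrreducible {x} isIrreducible_singleton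
  obtain ⟨x₀, hx₀⟩ := QuasiSober.sober hC.1 (isClosed_of_mem_irreducibleComponents C hC)
  refine ⟨x₀, hx₀.specializes (hxC rfl), fun y hy => ?_⟩
  have h1 : closure ({y} : Set X) ≤ C := hC.2 isIrreducible_singleton.closure (hx₀.def.ge.trans
    (closure_minimal (Set.singleton_subset_iff.2 (specializes_iff_mem_closure.1 hy)) isClosed_closure))
  exact ((hx₀.specializes (h1 (subset_closure rfl))).antisymm hy).symm.eq

/-- A minimal point is the generic point of a component. -/
theorem exists_component_of_isMin {x : X} (hx : ∀ y : X, y ⤳ x → y = x) :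
    ∃ T ∈ irreducibleComponents X, IsGenericPoint x T := by
  obtain ⟨C, hC, hxC⟩ := exists_mem_irreducibleComponents_subset_of_isIrreducible {x} isIrreducible_singleton
  obtain ⟨x₀, hx₀⟩ := QuasiSober.sober hC.1 (isClosed_of_mem_irreducibleComponents C hC)
  exact ⟨C, hC, hx _ (hx₀.specializes (hxC rfl)) ▸ hx₀⟩

/-- Finitely many components give finitely many minimal points. -/
theorem finite_setOf_isMin (h : (irreducibleComponents X).Finite) :
    {x : X | ∀ y : X, y ⤳ x → y = x}.Finite := by
  refine Set.Finite.of_finite_image (f := fun x => closure ({x} : Set X)) (h.subset ?_) ?_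
  · rintro _ ⟨x, hx, rfl⟩
    obtain ⟨T, hT, hxT⟩ := exists_component_of_isMin hx
    change closure ({x} : Set X) ∈ irreducibleComponents X
    rw [hxT.def]
    exact hT
  · intro x _ y _ e
    exact ((specializes_iff_closure_subset.2 e.ge).antisymm (specializes_iff_closure_subset.2 e.le)).eq

end Scheme

/-- A bound on geometric points at generalisations bounds the points of a fibre. -/
theorem finite_fibre_of_generization {R U : Scheme.{u}} (s : R ⟶ U) [Etale s] [IsSeparated s]
    {u u₀ : U} (hu : u₀ ⤳ u) (h₀ : (s ⁻¹' {u₀}).Finite) : (s ⁻¹' {u}).Finite := by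
  classical
  obtain ⟨n, hn⟩ := exists_notMem_geLocus s u₀ h₀
  by_contra hinf
  have key : ∀ m, u ∈ geLocus s m := by
    intro m
    induction m with
    | zero => rw [geLocus_zero]; trivial
    | succ m ih =>
      obtain ⟨T, w, hw⟩ := ih
      obtain ⟨r, hr, hrn⟩ := (Set.not_finite.1 hinf).exists_notMem_finset
        (Finset.univ.image fun i => T.y i w)
      have : s r = u := hr
      rw [← this]
      exact mem_geLocus_succ T (hw.trans this.symm) fun i h =>
        hrn (Finset.mem_image.2 ⟨i, Finset.mem_univ i, h⟩)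
  exact hn (hu.mem_open (isOpen_geLocus s (n + 1)) (key (n + 1)))

variable {S : Scheme.{u}} {F : Sp S}

/-- Minimal points of charts with quasi-compact field valued points make a space decent. -/
theorem isDecent_of_min_qc (hX : IsAlgSpace F)
    (h : ∀ (U : Over S) (φ : (yon S).obj U ⟶ F), IsAffine U.left → RepWith @Etale φ →
      ∀ u : ↥U.left, (∀ v : ↥U.left, v ⤳ u → v = u) →
        ∃ q : FieldPt F, Points.mk q = Points.ofPt φ u ∧ RepWith @QuasiCompact q.toHom) :
    IsDecent F := by
  have hR : ∀ {U R : Over S} (φ : (yon S).obj U ⟶ F), IsAffine U.left → RepWith @Etale φ →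
      ∀ {s t : R ⟶ U}, IsPullback ((yon S).map t) ((yon S).map s) φ φ →
        ∀ v, (s.left ⁻¹' {v}).Finite := by
    intro U R φ hU hφ s t sq v
    have := hU
    have : Etale s.left := hφ.2 φ _ _ sq
    have := isSeparated_rel sq
    obtain ⟨v₀, hv₀, hmin⟩ := exists_isMin_specializes v
    obtain ⟨q, hq, hqc⟩ := h U φ hU hφ v₀ hmin
    refine finite_fibre_of_generization s.left hv₀
      (((finite_fibres_of_qc_fieldPt hX.diag q hqc hφ).2 R s t sq).subset fun r hr => ?_)
    rw [Set.mem_preimage, Set.mem_singleton_iff] at hr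
    rw [Set.mem_preimage, Set.mem_singleton_iff, ofPt_map_comp, ofPt_rel sq r, hr, hq]
  have hfin : ∀ x : Points F, FinFibres x := by
    intro x B ψ hB hψ
    rcases (Points.ofPt ψ ⁻¹' {x}).eq_empty_or_nonempty with he | ⟨b, hb⟩
    · rw [he]; exact Set.finite_empty
    obtain ⟨R, s, fst, sq⟩ := hψ.1 ψ
    obtain ⟨t, rfl⟩ := (yon S).map_surjective fst
    refine ((hR ψ hB hψ sq b).image t.left).subset fun b' hb' => ?_
    obtain ⟨r, hr, hr'⟩ := exists_rel_of_ofPt_eq sq
      ((Set.mem_singleton_iff.1 hb').trans (Set.mem_singleton_iff.1 hb).symm)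
    exact ⟨r, hr', hr⟩
  intro x
  obtain ⟨U, φ, hU, hφ, hx⟩ := exists_affine_chart_at hX x
  refine hasMonoQC_of_finFibres hX (hfin x) hU hφ hx fun R s t sq => ?_
  refine ((hfin x U φ hU hφ).biUnion fun v _ => hR φ hU hφ sq v).subset fun r hr => ?_
  rw [Set.mem_preimage, ofPt_map_comp, ofPt_rel sq r] at hr
  exact Set.mem_iUnion₂.2 ⟨s.left r, hr, rfl⟩

/-- The field valued point of a scheme mapped to a sheaf. -/
theorem toHom_ofPt {T : Over S} (g : (yon S).obj T ⟶ F) (t : ↥T.left) :
    (FieldPt.ofPt g t).toHom =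
      (yon S).map (Over.homMk (T.left.fromSpecResidueField t) rfl :
        Over.mk (T.left.fromSpecResidueField t ≫ T.hom) ⟶ T) ≫ g := by
  apply (sect (T := (FieldPt.ofPt g t).pt) (F := F)).injective
  erw [GrothendieckTopology.uliftYonedaEquiv_comp]
  exact Equiv.apply_symm_apply _ _

/-- In an open subscheme of a decent space all points give quasi-compact field valued points. -/
theorem quasiCompact_toHom_ofPt (hX : IsAlgSpace F) (h : IsDecent F) {X' : Over S}
    {j : (yon S).obj X' ⟶ F} (hj : RepWith @IsOpenImmersion j) (x' : ↥X'.left) :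
    RepWith @QuasiCompact (FieldPt.ofPt j x').toHom := by
  obtain ⟨q, hq, hm, hqc⟩ := h (Points.ofPt j x')
  let Pt : Over S := Over.mk (X'.left.fromSpecResidueField x' ≫ X'.hom)
  let ι : Pt ⟶ X' := Over.homMk (X'.left.fromSpecResidueField x') rfl
  have : Mono j := mono_of_repWith _ (repWith_mono (fun _ _ g (_ : IsOpenImmersion g) =>
    (inferInstance : Mono g)) hj)
  have : Mono ι := (Over.forget S).mono_of_mono_map (inferInstanceAs (Mono (X'.left.fromSpecResidueField x')))
  have hpt : Points.ofPt ((yon S).map ι ≫ j) (IsLocalRing.closedPoint (X'.left.residueField x')) =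
      Points.ofPt j x' := by
    rw [ofPt_map_comp]
    exact congrArg _ (Scheme.fromSpecResidueField_apply x' _)
  obtain ⟨m, hmq⟩ := exists_factor_mono_point ((yon S).map ι ≫ j) q hqc (hq.trans hpt.symm)
  obtain ⟨q', hq'⟩ := exists_factor_of_range hj q.toHom (by
    rintro _ ⟨z, rfl⟩
    refine ⟨Points.ofScheme X' x', ?_⟩
    rw [← Points.ofPt_eq_map_ofScheme, ← hq, map_toHom_eq q z])
  obtain ⟨q', rfl⟩ := (yon S).map_surjective q'
  have hz : q'.left (IsLocalRing.closedPoint q.K) = x' := by
    have hinj := (isEmbedding_map_of_immersion hX (repWith_mono (fun A B g (hg : IsOpenImmersion g) =>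
      (inferInstance : IsImmersion g)) hj)).1.injective
    refine (Points.schemeEquiv X').injective (hinj ?_)
    change Points.map j (Points.ofScheme X' _) = Points.map j (Points.ofScheme X' x')
    rw [← Points.ofPt_eq_map_ofScheme, ← Points.ofPt_eq_map_ofScheme, ← ofPt_map_comp, hq',
      Points.ofPt_toHom, hq]
  obtain ⟨⟨y, ψ⟩, hψ⟩ := (Scheme.SpecToEquivOfField q.K X'.left).symm.surjective q'.left
  have hψ' : Spec.map ψ ≫ X'.left.fromSpecResidueField y = q'.left := hψ
  have hy : y = x' := by
    rw [← hz, ← hψ', Scheme.Hom.comp_apply, Scheme.fromSpecResidueField_apply]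
  subst hy
  let n : q.pt ⟶ Pt := Over.homMk (Spec.map ψ) (by
    change Spec.map ψ ≫ X'.left.fromSpecResidueField y ≫ X'.hom = _
    rw [← Category.assoc, hψ', Over.w q'])
  have hn : (yon S).map n ≫ (yon S).map ι ≫ j = q.toHom := by
    rw [← Functor.map_comp_assoc, show n ≫ ι = q' from Over.OverMorphism.ext hψ', hq']
  have h₁ : (yon S).map m ≫ (yon S).map n = 𝟙 _ := by
    rw [← cancel_mono ((yon S).map ι ≫ j), Category.assoc, hn, hmq]
    exact (Category.id_comp _).symm
  have h₂ : (yon S).map n ≫ (yon S).map m = 𝟙 _ := by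
    rw [← cancel_mono q.toHom]; erw [Category.assoc, hmq, hn]
    exact (Category.id_comp _).symm
  let e : (yon S).obj Pt ≅ (yon S).obj q.pt := ⟨(yon S).map m, (yon S).map n, h₁, h₂⟩
  have h₃ : RepWith @QuasiCompact ((yon S).map ι ≫ j) := by
    have : IsIso ((yon S).map m) := ⟨(yon S).map n, h₁, h₂⟩
    refine Eq.mp (congrArg (fun w => RepWith @QuasiCompact w) hmq) ?_
    exact (repWith_respectsIso_left ((yon S).map m)).2 hqc
  rw [toHom_ofPt]
  exact h₃

/-- A decent space with finitely many components has a dense open subscheme with the same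
property. -/
theorem exists_dense_finite_components (X : Space S) (h : IsDecent X.obj)
    (hfin : (irreducibleComponents (Points X.obj)).Finite) :
    ∃ (X' : Over S) (j : (yon S).obj X' ⟶ X.obj), RepWith @IsOpenImmersion j ∧
      Dense (Set.range (Points.ofPt j)) ∧ (irreducibleComponents ↥X'.left).Finite ∧
      ∀ x' : ↥X'.left, RepWith @QuasiCompact (FieldPt.ofPt j x').toHom := by
  obtain ⟨X'', i, hi, hrep, hd⟩ := exists_dense_of_isDecent X h
  obtain ⟨T, ⟨e⟩⟩ := hrep.has_representation
  let e' := isoOfRepresentableBy e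
  let j : (yon S).obj T ⟶ X.obj := e'.hom ≫ i.hom
  have hj : RepWith @IsOpenImmersion j := (repWith_respectsIso_left e'.hom).2 hi
  have hrange : Set.range (Points.ofPt j) = Set.range (Points.map i.hom) := by
    rw [show Points.ofPt j = (Points.map i.hom ∘ Points.map e'.hom) ∘ Points.schemeEquiv T from
      funext fun t => by
        rw [← map_comp_eq]
        exact Points.ofPt_eq_map_ofScheme j t,
      (Points.schemeEquiv T).surjective.range_comp, (bijective_map_iso (e := e'.hom)).2.range_comp]
  refine ⟨T, j, hj, hrange ▸ hd, ?_, quasiCompact_toHom_ofPt X.property h hj⟩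
  have hemb : IsOpenEmbedding (Points.ofPt j) := by
    refine ⟨⟨⟨?_⟩, ?_⟩, by rw [hrange]; exact isOpen_range_map_of_openImmersion hi⟩
    · refine le_antisymm (continuous_iff_le_induced.1 (Points.continuous_ofPt j)) fun O hO => ?_
      rw [isOpen_induced_iff]
      refine ⟨Points.ofPt j '' O, isOpenMap_ofPt j
        (repWith_mono (fun A B g (hg : IsOpenImmersion g) => (inferInstance : Etale g)) hj) O hO,
        Set.preimage_image_eq O ?_⟩
      exact injective_ofPt X.property hj
    · exact injective_ofPt X.property hj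
  exact finite_components_of_isOpenEmbedding hemb hfin
where
  injective_ofPt {F : Sp S} (hX : IsAlgSpace F) {T : Over S} {j : (yon S).obj T ⟶ F}
      (hj : RepWith @IsOpenImmersion j) : Function.Injective (Points.ofPt j) := fun a b e => by
    refine (Points.schemeEquiv T).injective ((isEmbedding_map_of_immersion hX
      (repWith_mono (fun A B g (hg : IsOpenImmersion g) => (inferInstance : IsImmersion g)) hj)).1.injective ?_)
    change Points.map j (Points.ofScheme T a) = Points.map j (Points.ofScheme T b)
    rw [← Points.ofPt_eq_map_ofScheme, ← Points.ofPt_eq_map_ofScheme, e]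

/-- A dense open subscheme with finitely many components, quasi-compact at their generic points,
makes a space decent with finitely many components. -/
theorem isDecent_of_dense_finite_components (hX : IsAlgSpace F) {X' : Over S}
    {j : (yon S).obj X' ⟶ F} (hj : RepWith @IsOpenImmersion j)
    (hd : Dense (Set.range (Points.ofPt j))) (hfin : (irreducibleComponents ↥X'.left).Finite)
    (hgen : ∀ x' : ↥X'.left, (∃ T ∈ irreducibleComponents ↥X'.left, IsGenericPoint x' T) →
      RepWith @QuasiCompact (FieldPt.ofPt j x').toHom) :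
    IsDecent F ∧ (irreducibleComponents (Points F)).Finite := by
  refine ⟨isDecent_of_min_qc hX fun U φ hU hφ u hu => ?_,
    finite_components_of_denseRange (Points.continuous_ofPt j) hd hfin⟩
  have := hU
  obtain ⟨k, hk⟩ := (yon S).map_surjective (hφ.1.fst j)
  let V := hφ.1.pullback j
  let v := hφ.1.snd j
  have sq : IsPullback ((yon S).map k) ((yon S).map v) φ j := by rw [hk]; exact hφ.1.isPullback j
  have : Etale v.left := hφ.2 _ _ _ sq
  have : IsOpenImmersion k.left := hj.2 _ _ _ sq.flip
  have hrange : Points.ofPt φ ⁻¹' Set.range (Points.ofPt j) = Set.range k.left := by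
    ext a
    constructor
    · rintro ⟨b, hb⟩
      obtain ⟨w, hw, -⟩ := exists_pt_of_isPullback sq (x := Points.ofScheme U a) (t := b)
        (by rw [← Points.ofPt_eq_map_ofScheme]; exact hb.symm)
      rw [ofPt_map_eq] at hw
      exact ⟨w, (Points.schemeEquiv U).injective hw⟩
    · rintro ⟨w, rfl⟩
      exact ⟨v.left w, by rw [← ofPt_map_comp, ← ofPt_map_comp, sq.w]⟩
  -- minimal points of the open piece
  let M : Set U.left := {a | a ∈ Set.range k.left ∧ ∀ b : ↥U.left, b ⤳ a → b = a}
  have hmin' : ∀ w : ↥V.left, (∀ b : ↥U.left, b ⤳ k.left w → b = k.left w) →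
      ∀ y : ↥X'.left, y ⤳ v.left w → y = v.left w := fun w hw y hy => by
    obtain ⟨w', hw', rfl⟩ := Flat.generalizingMap v.left hy
    exact congrArg v.left (k.left.isOpenEmbedding.injective (hw _ (hw'.map k.left.continuous)))
  have hMfin : M.Finite := by
    refine ((finite_setOf_isMin hfin).biUnion fun y hy => ?_ :
      (⋃ y ∈ {y : ↥X'.left | ∀ z : ↥X'.left, z ⤳ y → z = y},
        Points.ofPt φ ⁻¹' {Points.ofPt j y}).Finite).subset ?_
    · obtain ⟨T, hT, hyT⟩ := exists_component_of_isMin hy
      exact (finite_fibres_of_qc_fieldPt hX.diag _ (hgen y ⟨T, hT, hyT⟩) hφ).1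
    · rintro a ⟨⟨w, rfl⟩, ha⟩
      refine Set.mem_iUnion₂.2 ⟨v.left w, hmin' w ha, ?_⟩
      rw [Set.mem_preimage, Set.mem_singleton_iff, ← ofPt_map_comp, ← ofPt_map_comp, sq.w]
  have hcl : IsClosed (⋃ a ∈ M, closure ({a} : Set U.left)) :=
    hMfin.isClosed_biUnion fun _ _ => isClosed_closure
  have hsub : Set.range k.left ⊆ ⋃ a ∈ M, closure ({a} : Set U.left) := by
    intro a ha
    obtain ⟨a₀, h₀, hmin⟩ := exists_isMin_specializes a
    exact Set.mem_iUnion₂.2 ⟨a₀, ⟨h₀.mem_open k.left.isOpenEmbedding.isOpen_range ha, hmin⟩,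
      specializes_iff_mem_closure.1 h₀⟩
  have huV : u ∈ Set.range k.left := by
    have hdense : Dense (Set.range k.left) := by
      rw [← hrange]; exact hd.preimage (isOpenMap_ofPt φ hφ)
    obtain ⟨a, ⟨hak, -⟩, hua⟩ := Set.mem_iUnion₂.1 (closure_minimal hsub hcl (hdense u))
    rw [← hu a (specializes_iff_mem_closure.2 hua)]
    exact hak
  obtain ⟨w, rfl⟩ := huV
  obtain ⟨T, hT, hwT⟩ := exists_component_of_isMin (hmin' w hu)
  refine ⟨_, ?_, hgen _ ⟨T, hT, hwT⟩⟩
  change Points.ofPt j (v.left w) = _
  rw [← ofPt_map_comp, ← ofPt_map_comp, sq.w]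

end Groth.Agent.AlgSpDecent
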