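import Groth.Agent.Lib.AlgSpDecent.FiniteNhd
import Groth.Agent.Lib.AlgSpDecent.Components
import Groth.Agent.Lib.AlgSpDecent.Dim
import Groth.Agent.Lib.AlgSpDecent.DimMor
import Groth.Agent.Lib.AlgSpace.LqfScheme
import Groth.Agent.Lib.AlgSpace.LocP
import Groth.Agent.Lib.AlgSpace.MorDiag

/-!
# Finiteness over a dense open for morphisms respecting codimension zero points
-/

universe u

set_option backward.isDefEq.respectTransparency.types false

open CategoryTheory CategoryTheory.Limits AlgebraicGeometry AlgSp Opposite Topology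
open Groth.Agent.AlgSpace

namespace Groth.Agent.AlgSpDecent

section Scheme

attribute [local instance] specializationPreorder in
/-- Codimension zero means no other generalisation. -/
theorem dim_zero_iff_isMin {U : Scheme.{u}} (u : U) :
    ringKrullDim ↥(U.presheaf.stalk u) = 0 ↔ ∀ u', u' ⤳ u → u' = u := by
  refine ⟨fun h u' hu' => eq_of_specializes_of_dim_zero h hu', fun h => ?_⟩
  rw [ringKrullDim_stalk_eq_coheight]
  have : Order.coheight u = 0 := Order.coheight_eq_zero.2 fun b hb => by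
    rw [h b hb]
  rw [this]; rfl

/-- If all points of a fibre are minimal it is finite and discrete. -/
theorem fibre_of_isMin {X Y : Scheme.{u}} (f : X ⟶ Y) [LocallyOfFiniteType f] [QuasiCompact f]
    (y : Y) (hmin : ∀ x, f x = y → ∀ x', x' ⤳ x → x' = x) :
    (f ⁻¹' {y}).Finite ∧ ∀ x, f x = y → IsoIn f x := by
  let F := f.fiber y
  have : LocallyOfFiniteType (f.fiberToSpecResidueField y) :=
    MorphismProperty.pullback_snd (P := @LocallyOfFiniteType) f (Y.fromSpecResidueField y) inferInstance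
  have : IsLocallyNoetherian F := LocallyOfFiniteType.isLocallyNoetherian (f.fiberToSpecResidueField y)
  have : QuasiCompact (f.fiberToSpecResidueField y) :=
    MorphismProperty.pullback_snd (P := @QuasiCompact) f (Y.fromSpecResidueField y) inferInstance
  have : CompactSpace F := QuasiCompact.compactSpace_of_compactSpace (f.fiberToSpecResidueField y)
  have : IsNoetherian F := {}
  have hι : IsEmbedding (f.fiberι y) := (f.fiberι y).isEmbedding
  have hmem : ∀ z : F, f (f.fiberι y z) = y := fun z =>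
    (f.range_fiberι y).le ⟨z, rfl⟩
  have hminF : ∀ z z' : F, z' ⤳ z → z' = z := fun z z' h =>
    hι.injective (hmin _ (hmem z) _ (h.map hι.continuous))
  have : Finite F := Set.finite_univ_iff.1 ((finite_setOf_isMin
    (TopologicalSpace.NoetherianSpace.finite_irreducibleComponents (α := F))).subset
      fun z _ => hminF z)
  have : T1Space F := t1Space_iff_specializes_imp_eq.2 fun z z' h => hminF z' z h
  refine ⟨(f.range_fiberι y) ▸ Set.finite_range _, fun x hx => ?_⟩
  obtain ⟨z, hz⟩ : x ∈ Set.range (f.fiberι y) := (f.range_fiberι y).ge hx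
  obtain ⟨O, hO, hOz⟩ := hι.isOpen_iff.1 (isOpen_discrete ({z} : Set F))
  refine ⟨O, hO, hz ▸ (hOz.ge rfl : z ∈ f.fiberι y ⁻¹' O), fun x' hx' e => ?_⟩
  obtain ⟨z', hz'⟩ : x' ∈ Set.range (f.fiberι y) := (f.range_fiberι y).ge (e.trans hx)
  have : z' ∈ f.fiberι y ⁻¹' O := show f.fiberι y z' ∈ O from hz'.symm ▸ hx'
  rw [hOz, Set.mem_singleton_iff] at this
  rw [← hz', this, hz]

/-- A point without generalisations has a neighbourhood avoiding finitely many others. -/
theorem exists_nhd_avoid {X : Type*} [TopologicalSpace X] {x : X} (hx : ∀ x', x' ⤳ x → x' = x)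
    {F : Set X} (hF : F.Finite) :
    ∃ O : Set X, IsOpen O ∧ x ∈ O ∧ ∀ z ∈ O, ∀ y ∈ F, y ⤳ z → y = x := by
  refine ⟨(⋃ y ∈ F \ {x}, closure {y})ᶜ,
    ((hF.subset Set.sdiff_subset).isClosed_biUnion fun _ _ => isClosed_closure).isOpen_compl, ?_,
    fun z hz y hy hyz => by_contra fun hne =>
      hz (Set.mem_biUnion ⟨hy, hne⟩ (specializes_iff_mem_closure.1 hyz))⟩
  intro h
  obtain ⟨y, ⟨-, hne⟩, hy⟩ := Set.mem_iUnion₂.1 h
  exact hne (hx y (specializes_iff_mem_closure.2 hy))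

/-- Finiteness over opens gives finiteness over their union. -/
theorem isFinite_restrict_iSup {X Y : Scheme.{u}} (f : X ⟶ Y) {ι : Type*} (N : ι → Y.Opens)
    (h : ∀ i, IsFinite (f ∣_ N i)) : IsFinite (f ∣_ (⨆ i, N i)) := by
  refine IsZariskiLocalAtTarget.of_iSup_eq_top (P := @IsFinite)
    (fun i => (⨆ i, N i).ι ⁻¹ᵁ N i) ?_ fun i => ?_
  · refine top_le_iff.1 fun x _ => ?_
    obtain ⟨i, hi⟩ := TopologicalSpace.Opens.mem_iSup.1 x.2
    exact TopologicalSpace.Opens.mem_iSup.2 ⟨i, hi⟩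
  · rw [MorphismProperty.arrow_mk_iso_iff @IsFinite (morphismRestrictRestrict f _ _),
      show (⨆ i, N i).ι ''ᵁ ((⨆ i, N i).ι ⁻¹ᵁ N i) = N i by
        rw [Scheme.Hom.image_preimage_eq_opensRange_inf, Scheme.Opens.opensRange_ι,
          inf_eq_right.2 (le_iSup N i)]]
    exact h i

end Scheme

variable {S : Scheme.{u}}

attribute [local instance] specializationPreorder in
/-- Codimension zero can be read on any chart. -/
theorem hasAt_dim_zero_iff {F : Sp S} {U : Over S} {a : (yon S).obj U ⟶ F}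
    (ha : RepWith @Etale a) (u : ↥U.left) :
    HasAt (fun U u => ringKrullDim ↥(U.presheaf.stalk u) = 0) F (Points.ofPt a u) ↔
      ∀ u', u' ⤳ u → u' = u := by
  refine ⟨fun ⟨U', a', u', ha', he, hu'⟩ => ?_, fun h => ⟨U, a, u, ha, rfl, (dim_zero_iff_isMin u).2 h⟩⟩
  have sq := ha.1.isPullback' a'
  have : Etale (ha.1.snd a').left := ha.2 a' _ _ (ha.1.isPullback a')
  have : Etale (ha.1.fst' a').left := ha'.2 a _ _ sq.flip
  obtain ⟨z, hz₁, hz₂⟩ := exists_pt_of_isPullback sq (x := Points.ofScheme U u) (t := u')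
    (by rw [← Points.ofPt_eq_map_ofScheme]; exact he.symm)
  rw [ofPt_map_eq] at hz₁
  replace hz₁ : (ha.1.fst' a').left z = u := (Points.schemeEquiv U).injective hz₁
  rw [← dim_zero_iff_isMin, ringKrullDim_stalk_eq_coheight, ← hz₁,
    ← coheight_eq_of_etale (ha.1.fst' a').left z, coheight_eq_of_etale (ha.1.snd a').left z, hz₂,
    ← ringKrullDim_stalk_eq_coheight, hu']

/-- An etale map preserves codimension zero. -/
theorem hasAt_dim_zero_map {F G : Sp S} (hF : IsAlgSpace F) {g : F ⟶ G} (hg : RepWith @Etale g)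
    (x : Points F) :
    HasAt (fun U u => ringKrullDim ↥(U.presheaf.stalk u) = 0) G (Points.map g x) ↔
      HasAt (fun U u => ringKrullDim ↥(U.presheaf.stalk u) = 0) F x := by
  obtain ⟨U, a, hae, has⟩ := hF.atlas
  obtain ⟨u, rfl⟩ := surjective_ofPt has x
  rw [map_ofPt, hasAt_dim_zero_iff (repWith_comp hae hg), hasAt_dim_zero_iff hae]

/-- Nonempty opens contain points of codimension zero. -/
theorem exists_dim_zero_mem {F : Sp S} (hF : IsAlgSpace F) {G : Set (Points F)} (hG : IsOpen G)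
    (hne : G.Nonempty) :
    ∃ x ∈ G, HasAt (fun U u => ringKrullDim ↥(U.presheaf.stalk u) = 0) F x := by
  obtain ⟨U, a, hae, has⟩ := hF.atlas
  obtain ⟨x, hx⟩ := hne
  obtain ⟨u, rfl⟩ := surjective_ofPt has x
  obtain ⟨u₀, hu₀, hmin⟩ := exists_isMin_specializes u
  exact ⟨_, hu₀.mem_open (hG.preimage (Points.continuous_ofPt a)) hx,
    (hasAt_dim_zero_iff hae u₀).2 hmin⟩

/-- Universally closed maps have closed range on points. -/
theorem isClosed_range_map_of_universallyClosed {Z X : Sp S} {i : Z ⟶ X}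
    (hi : RepWith @UniversallyClosed i) : IsClosed (Set.range (Points.map i)) := by
  rw [← isOpen_compl_iff]
  refine Points.isOpen_iff.2 fun T g => ?_
  have sq := hi.1.isPullback g
  have : UniversallyClosed (hi.1.snd g).left := hi.2 g _ _ sq
  have e : Points.ofPt g ⁻¹' Set.range (Points.map i) = Set.range (hi.1.snd g).left := by
    ext u
    constructor
    · rintro ⟨z, hz⟩
      obtain ⟨v, -, hv⟩ := exists_pt_of_isPullback sq hz
      exact ⟨v, hv⟩
    · rintro ⟨v, rfl⟩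
      exact ⟨_, ofPt_sq sq.w v⟩
  rw [Set.preimage_compl, e]
  exact (hi.1.snd g).left.isClosedMap.isClosed_range.isOpen_compl

/-- A quasi-compact space over an irreducible affine scheme whose codimension zero points are those
over the generic point is finite over a nonempty open. -/
theorem exists_finite_over_generic {P : Sp S} {V : Over S} (hP : IsAlgSpace P) [IsAffine V.left]
    (q : P ⟶ (yon S).obj V) (hft : LocP @LocallyOfFiniteType q) (hc : IsQuasiCompactSp P)
    {v : ↥V.left} (hgen : ∀ v', v ⤳ v')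
    (hmin : ∀ (W : Over S) (φ : (yon S).obj W ⟶ P) (k : W ⟶ V) (w : ↥W.left), RepWith @Etale φ →
      φ ≫ q = (yon S).map k → (k.left w = v ↔ ∀ w', w' ⤳ w → w' = w)) :
    ∃ (Q : V.left.Opens) (Pf : Sp S) (fst : Pf ⟶ P)
      (snd : Pf ⟶ (yon S).obj (Over.mk (Q.ι ≫ V.hom))), v ∈ Q ∧
      IsPullback fst snd q ((yon S).map (Over.homMk Q.ι rfl : Over.mk (Q.ι ≫ V.hom) ⟶ V)) ∧
      IsFiniteMor snd := by
  classical
  obtain ⟨W, φ, hW, hφe, hφs⟩ := exists_affine_chart hc
  obtain ⟨k, hk⟩ := (yon S).map_surjective (φ ≫ q)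
  have hkl : LocallyOfFiniteType k.left := hft φ (𝟙 _) k hφe (repWith_id _ V) (by
    rw [hk, Category.comp_id])
  have hkmin := fun w => hmin W φ k w hφe hk.symm
  have hv : ∀ v', v' ⤳ v → v' = v := fun v' h => (h.antisymm (hgen v')).eq
  obtain ⟨hfin₀, hiso⟩ := fibre_of_isMin k.left v fun w hw => (hkmin w).1 hw
  obtain ⟨Q₁, hQ₁, hvQ₁, -, hkfin⟩ := exists_affine_isFinite_restrict k.left hv ⊤ trivial hiso
  let W₁ : W.left.Opens := k.left ⁻¹ᵁ Q₁
  have hW₁ : IsAffineOpen W₁ := by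
    have : IsAffine Q₁.toScheme := hQ₁
    exact isAffine_of_isAffineHom (k.left ∣_ Q₁)
  have : IsAffine W₁.toScheme := hW₁
  obtain ⟨R, s, tf, sq⟩ := hφe.1 φ
  obtain ⟨t, rfl⟩ := (yon S).map_surjective tf
  have : Etale s.left := hφe.2 φ _ _ sq
  have := isSeparated_rel sq
  have hts : t ≫ k = s ≫ k := (yon S).map_injective (by
    rw [Functor.map_comp, Functor.map_comp, hk, ← Category.assoc, sq.w, Category.assoc])
  let s₁ := s.left ∣_ W₁
  let R₁ := s.left ⁻¹ᵁ W₁
  have : Etale s₁ := IsZariskiLocalAtTarget.restrict (P := @Etale) ‹Etale s.left› W₁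
  have : IsSeparated s₁ := IsZariskiLocalAtTarget.restrict (P := @IsSeparated) ‹IsSeparated s.left› W₁
  -- the relation injects in a finite scheme over the chart
  have hfibs : ∀ u, (s₁ ⁻¹' {u}).Finite := by
    let k₁ := k.left ∣_ Q₁
    let t₁ : R₁.toScheme ⟶ W₁.toScheme := IsOpenImmersion.lift W₁.ι (R₁.ι ≫ t.left) (by
      rintro _ ⟨r, rfl⟩
      rw [W₁.range_ι]
      show k.left (t.left r.1) ∈ Q₁
      rw [← Scheme.Hom.comp_apply, ← Over.comp_left, hts]
      exact r.2)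
    have ht₁ : t₁ ≫ W₁.ι = R₁.ι ≫ t.left := IsOpenImmersion.lift_fac _ _ _
    have hs₁ : s₁ ≫ W₁.ι = R₁.ι ≫ s.left := morphismRestrict_ι s.left W₁
    let ψ : R₁.toScheme ⟶ pullback k₁ k₁ := pullback.lift t₁ s₁ (by
      rw [← cancel_mono Q₁.ι]
      simp only [k₁, Category.assoc, morphismRestrict_ι]
      rw [reassoc_of% ht₁, reassoc_of% hs₁, ← Over.comp_left, hts, Over.comp_left])
    have : Mono ψ := ⟨fun {T} g₁ g₂ e => by
      have e₁ : g₁ ≫ R₁.ι ≫ t.left = g₂ ≫ R₁.ι ≫ t.left := by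
        rw [← ht₁]
        simpa [ψ, pullback.lift_fst_assoc] using congrArg (· ≫ pullback.fst k₁ k₁ ≫ W₁.ι) e
      have e₂ : g₁ ≫ R₁.ι ≫ s.left = g₂ ≫ R₁.ι ≫ s.left := by
        rw [← hs₁]
        simpa [ψ, pullback.lift_snd_assoc] using congrArg (· ≫ pullback.snd k₁ k₁ ≫ W₁.ι) e
      have hh : g₂ ≫ R₁.ι ≫ R.hom = g₁ ≫ R₁.ι ≫ R.hom := by
        rw [← Over.w s, reassoc_of% e₂]
      let a : Over.mk (g₁ ≫ R₁.ι ≫ R.hom) ⟶ R :=
        Over.homMk (g₁ ≫ R₁.ι) (Category.assoc _ _ _)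
      let b : Over.mk (g₁ ≫ R₁.ι ≫ R.hom) ⟶ R :=
        Over.homMk (g₂ ≫ R₁.ι) ((Category.assoc _ _ _).trans hh)
      have hab : a = b := (yon S).map_injective (sq.hom_ext
        (by rw [← Functor.map_comp, ← Functor.map_comp]
            exact congrArg _ (Over.OverMorphism.ext (by simpa [a, b] using e₁)))
        (by rw [← Functor.map_comp, ← Functor.map_comp]
            exact congrArg _ (Over.OverMorphism.ext (by simpa [a, b] using e₂))))
      rw [← cancel_mono R₁.ι]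
      exact congrArg (fun m => m.left) hab⟩
    have : IsFinite k₁ := hkfin
    intro u
    refine (((pullback.snd k₁ k₁).finite_preimage (Set.finite_singleton u)).preimage
      ψ.injective.injOn).subset fun r hr => ?_
    show pullback.snd k₁ k₁ (ψ r) = u
    rw [← Scheme.Hom.comp_apply, pullback.lift_snd]
    exact hr
  -- the relation is finite near every point over `v`
  have hnear : ∀ w : ↥(k.left ⁻¹' {v}), ∃ N : W.left.Opens, w.1 ∈ N ∧ IsFinite (s.left ∣_ N) := by
    rintro ⟨w, hw⟩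
    have hwmin := (hkmin w).1 hw
    have hwW₁ : w ∈ W₁ := show k.left w ∈ Q₁ from (show k.left w = v from hw) ▸ hvQ₁
    obtain ⟨O, hO, hwO, hOF⟩ := exists_nhd_avoid hwmin hfin₀
    obtain ⟨Qw, hQw, ⟨z, hz⟩, -, hfin⟩ := exists_isFinite_restrict s₁ hfibs
      (W₁.ι ⁻¹ᵁ ⟨O, hO⟩) ⟨⟨w, hwW₁⟩, hwO⟩
    obtain ⟨z₀, hz₀, hz₀min⟩ := exists_isMin_specializes (X := W.left) z.1
    have hz₀w : z₀ = w := hOF z.1 (hQw hz) z₀ ((hkmin z₀).2 hz₀min) hz₀
    refine ⟨W₁.ι ''ᵁ Qw, hz₀w ▸ hz₀.mem_open (W₁.ι ''ᵁ Qw).isOpen ⟨z, hz, rfl⟩, ?_⟩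
    exact (MorphismProperty.arrow_mk_iso_iff @IsFinite (morphismRestrictRestrict s.left W₁ Qw)).1 hfin
  choose N hwN hNfin using hnear
  have hNfin' := isFinite_restrict_iSup s.left N hNfin
  let C : Set W₁.toScheme := W₁.ι ⁻¹' ((⨆ w, N w : W.left.Opens) : Set W.left)ᶜ
  have hC : IsClosed C := ((⨆ w, N w : W.left.Opens).isOpen.isClosed_compl).preimage W₁.ι.continuous
  have : IsFinite (k.left ∣_ Q₁) := hkfin
  let K : Set Q₁.toScheme := (k.left ∣_ Q₁) '' C
  have hK : IsClosed K := (k.left ∣_ Q₁).isClosedMap _ hC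
  have hvK : (⟨v, hvQ₁⟩ : Q₁.toScheme) ∉ K := by
    rintro ⟨x, hx, hxv⟩
    have hxv' : k.left x.1 = v :=
      (morphismRestrict_base_coe k.left Q₁ x).symm.trans (congrArg Subtype.val hxv)
    exact hx (TopologicalSpace.Opens.mem_iSup.2 ⟨⟨x.1, hxv'⟩, hwN ⟨x.1, hxv'⟩⟩)
  obtain ⟨Q, hQ, hvQ, hQK⟩ := exists_isAffineOpen_mem_and_subset (X := V.left) (x := v)
    (U := Q₁.ι ''ᵁ ⟨Kᶜ, hK.isOpen_compl⟩) ⟨⟨v, hvQ₁⟩, hvK, rfl⟩
  have hQQ₁ : Q ≤ Q₁ := fun x hx => by
    obtain ⟨⟨y, hy⟩, -, rfl⟩ := hQK hx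
    exact hy
  have hsub : k.left ⁻¹ᵁ Q ≤ ⨆ w, N w := fun x hx => by
    by_contra h
    obtain ⟨y, hy, hyx⟩ := hQK hx
    refine hy ⟨⟨x, hQQ₁ hx⟩, h, Subtype.ext ?_⟩
    exact (morphismRestrict_base_coe k.left Q₁ _).trans hyx.symm
  obtain ⟨Pf, fst, snd, hsq, hf⟩ := exists_finite_square q hft hφe hφs hk sq Q hQ
    (isFinite_restrict_mono _ hkfin hQQ₁) (isFinite_restrict_mono _ hNfin' hsub)
  exact ⟨Q, Pf, fst, snd, hvQ, hsq, hf⟩

/-- Being finite is Zariski local on a scheme target. -/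
theorem isFiniteMor_of_openCover {P : Sp S} {U : Over S} (q : P ⟶ (yon S).obj U)
    (h : ∀ u : ↥U.left, ∃ (Q : U.left.Opens) (Pf : Sp S) (fst : Pf ⟶ P)
      (snd : Pf ⟶ (yon S).obj (Over.mk (Q.ι ≫ U.hom))), u ∈ Q ∧
      IsPullback fst snd q ((yon S).map (Over.homMk Q.ι rfl : Over.mk (Q.ι ≫ U.hom) ⟶ U)) ∧
      IsFiniteMor snd) : IsFiniteMor q := by
  choose Q Pf fst snd hu hsq hfin using h
  have loc : ∀ {T : Over S} (m : T ⟶ U) (u : ↥U.left), ∃ (W : Over S)
      (i : W ⟶ Over.mk ((m.left ⁻¹ᵁ Q u).ι ≫ T.hom)) (a : (yon S).obj W ⟶ P),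
      IsPullback a ((yon S).map i) q
        ((yon S).map (overArrow (m.left ⁻¹ᵁ Q u).ι) ≫ (yon S).map m) ∧ IsFinite i.left := by
    intro T m u
    let m' : Over.mk ((m.left ⁻¹ᵁ Q u).ι ≫ T.hom) ⟶ Over.mk ((Q u).ι ≫ U.hom) :=
      Over.homMk (m.left ∣_ Q u) (by
        change (m.left ∣_ Q u) ≫ (Q u).ι ≫ U.hom = (m.left ⁻¹ᵁ Q u).ι ≫ T.hom
        rw [morphismRestrict_ι_assoc, Over.w m])
    have hm' : m' ≫ (Over.homMk (Q u).ι rfl : Over.mk ((Q u).ι ≫ U.hom) ⟶ U) =
        overArrow (m.left ⁻¹ᵁ Q u).ι ≫ m := Over.OverMorphism.ext (morphismRestrict_ι m.left (Q u))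
    have hr := isFiniteMor_iff_repWith.1 (hfin u)
    have sq := hr.1.isPullback ((yon S).map m')
    refine ⟨_, hr.1.snd ((yon S).map m'), hr.1.fst ((yon S).map m') ≫ fst u, ?_,
      hr.2 _ _ _ sq⟩
    have := sq.paste_horiz (hsq u)
    rwa [← Functor.map_comp, hm', Functor.map_comp] at this
  have hrep : Representable q := representable_of_zariski q fun T g x => by
    obtain ⟨m, rfl⟩ := (yon S).map_surjective g
    obtain ⟨W, i, a, sq, -⟩ := loc m (m.left x)
    exact ⟨_, hu (m.left x), W, i, a, sq⟩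
  rw [isFiniteMor_iff_repWith]
  refine ⟨hrep, fun T W g a i sq => ?_⟩
  obtain ⟨m, rfl⟩ := (yon S).map_surjective g
  refine IsZariskiLocalAtTarget.of_iSup_eq_top (P := @IsFinite) (fun u => m.left ⁻¹ᵁ Q u) ?_
    fun u => ?_
  · exact top_le_iff.1 fun x _ => TopologicalSpace.Opens.mem_iSup.2 ⟨m.left x, hu (m.left x)⟩
  obtain ⟨W', i', a', sq', hi'⟩ := loc m u
  obtain ⟨l, hl⟩ := (yon S).map_surjective (sq.lift a'
    ((yon S).map (i' ≫ overArrow (m.left ⁻¹ᵁ Q u).ι))
    (by rw [Functor.map_comp, Category.assoc]; exact sq'.w))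
  have hlw : l ≫ i = i' ≫ overArrow (m.left ⁻¹ᵁ Q u).ι :=
    (yon S).map_injective (by rw [Functor.map_comp, hl, sq.lift_snd])
  have sql : IsPullback l i' i (overArrow (m.left ⁻¹ᵁ Q u).ι) := by
    refine IsPullback.of_map (yon S) hlw (IsPullback.of_right ?_ ?_ sq)
    · rw [hl, sq.lift_fst]; exact sq'
    · rw [← Functor.map_comp, ← Functor.map_comp, hlw]
  have h1 : IsPullback l.left i'.left i.left (m.left ⁻¹ᵁ Q u).ι := sql.map (Over.forget S)
  have h2 := (isPullback_morphismRestrict i.left (m.left ⁻¹ᵁ Q u)).flip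
  have h3 := h2.isoIsPullback_hom_snd _ _ h1
  show IsFinite (i.left ∣_ (m.left ⁻¹ᵁ Q u))
  exact h3 ▸ MorphismProperty.comp_mem @IsFinite _ _ (inferInstance) hi'

/-- Finiteness over a neighbourhood of the generic point of an irreducible affine scheme, for a
morphism which is quasi-compact or separated and respects codimension zero points. -/
theorem exists_finite_over_generic' {P : Sp S} {V : Over S} (hP : IsAlgSpace P) [IsAffine V.left]
    (q : P ⟶ (yon S).obj V) (hft : LocP @LocallyOfFiniteType q)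
    {v : ↥V.left} (hgen : ∀ v', v ⤳ v')
    (hpre : ∀ p : Points P, HasAt (fun U u => ringKrullDim ↥(U.presheaf.stalk u) = 0) P p ↔
      Points.map q p = Points.ofScheme V v)
    (hfin : {p : Points P | Points.map q p = Points.ofScheme V v}.Finite)
    (hqs : IsQuasiCompactSp P ∨ IsSeparatedMor q) :
    ∃ (Q : V.left.Opens) (Pf : Sp S) (fst : Pf ⟶ P)
      (snd : Pf ⟶ (yon S).obj (Over.mk (Q.ι ≫ V.hom))), v ∈ Q ∧
      IsPullback fst snd q ((yon S).map (Over.homMk Q.ι rfl : Over.mk (Q.ι ≫ V.hom) ⟶ V)) ∧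
      IsFiniteMor snd := by
  classical
  have hmin : ∀ (W : Over S) (φ : (yon S).obj W ⟶ P) (k : W ⟶ V) (w : ↥W.left), RepWith @Etale φ →
      φ ≫ q = (yon S).map k → (k.left w = v ↔ ∀ w', w' ⤳ w → w' = w) := fun W φ k w hφ hk => by
    rw [← hasAt_dim_zero_iff hφ, hpre, map_ofPt, hk, ofPt_map_eq]
    exact ⟨fun h => h ▸ rfl, fun h => (Points.schemeEquiv V).injective h⟩
  rcases hqs with hc | hsep
  · exact exists_finite_over_generic hP q hft hc hgen hmin
  let F₀ := {p : Points P | Points.map q p = Points.ofScheme V v}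
  choose O hOo hOc hpO _ using fun p : F₀ => exists_compact_nhd hP p.1 isOpen_univ (Set.mem_univ _)
  let G : Set (Points P) := ⋃ p, O p
  have hG : IsOpen G := isOpen_iUnion hOo
  have : Finite F₀ := hfin.to_subtype
  have hGc : IsCompact G := isCompact_iUnion hOc
  have hι := repWith_openSubι hG
  have hPG : IsAlgSpace (openSub G) := isAlgSpace_of_representable hι.1 hP
  have hιe : RepWith @Etale (openSubι G) :=
    repWith_mono (fun _ _ i (_ : IsOpenImmersion i) => inferInstanceAs (Etale i)) hι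
  have hemb := isEmbedding_map_of_immersion hP
    (repWith_mono (fun _ _ i (_ : IsOpenImmersion i) => inferInstanceAs (IsImmersion i)) hι)
  have hGq : IsQuasiCompactSp (openSub G) := (isQuasiCompactSp_iff hPG).2 <| by
    rw [← isCompact_univ_iff, hemb.1.isCompact_iff, Set.image_univ, range_openSubι]
    exact hGc
  obtain ⟨Q, Pf, fst, snd, hvQ, sqf, hfinite⟩ := exists_finite_over_generic hPG (openSubι G ≫ q)
    (locP_comp hPG hP (IsAlgSpace.yon_obj V)
      (locP_of_repWith hP (repWith_mono AlgSpDescent.etale_le_lft hιe)) hft) hGq hgen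
    fun W φ k w hφ hk => hmin W (φ ≫ openSubι G) k w (repWith_comp hφ hιe)
      (by rw [Category.assoc]; exact hk)
  refine ⟨Q, Pf, fst ≫ openSubι G, snd, hvQ, ?_, hfinite⟩
  let ιQ : Over.mk (Q.ι ≫ V.hom) ⟶ V := Over.homMk Q.ι rfl
  have sqQ := IsPullback.of_hasPullback q ((yon S).map ιQ)
  have hQo : RepWith @IsOpenImmersion ((yon S).map ιQ) :=
    (repWith_yon_map_iff _ _).2 (inferInstanceAs (IsOpenImmersion Q.ι))
  have hPQ : IsAlgSpace (pullback q ((yon S).map ιQ)) :=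
    isAlgSpace_pullback (IsAlgSpace.yon_obj V) hP (IsAlgSpace.yon_obj _) sqQ
  have hfste : RepWith @Etale (pullback.fst q ((yon S).map ιQ)) :=
    repWith_mono (fun _ _ i (_ : IsOpenImmersion i) => inferInstanceAs (Etale i))
      (repWith_of_isPullback sqQ.flip hQo)
  let l := sqQ.lift (fst ≫ openSubι G) snd (by rw [Category.assoc]; exact sqf.w)
  have hl : IsPullback fst l (openSubι G) (pullback.fst q ((yon S).map ιQ)) :=
    IsPullback.of_bot (by rw [sqQ.lift_snd]; exact sqf) (sqQ.lift_fst _ _ _).symm sqQ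
  have huc : RepWith @UniversallyClosed l := by
    refine repWith_of_comp_of_diagonal (g := pullback.snd q ((yon S).map ιQ)) ?_ ?_
    · rw [sqQ.lift_snd]
      exact repWith_mono (fun _ _ i (_ : IsFinite i) => inferInstanceAs (UniversallyClosed i))
        (isFiniteMor_iff_repWith.1 hfinite)
    · exact repWith_mono (fun _ _ i (_ : IsClosedImmersion i) => inferInstanceAs (UniversallyClosed i))
        (isSeparatedMor_of_isPullback sqQ hsep)
  have hlG : Set.range (Points.map l) =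
      Points.map (pullback.fst q ((yon S).map ιQ)) ⁻¹' G := by
    refine subset_antisymm ?_ fun y hy => ?_
    · rintro _ ⟨x, rfl⟩
      rw [Set.mem_preimage, ← Points.map_comp, ← hl.w, Points.map_comp]
      exact (range_openSubι G).le ⟨_, rfl⟩
    · obtain ⟨g, hg⟩ := (range_openSubι G).ge hy
      obtain ⟨x, -, hx⟩ := exists_point_lift hl g y hg
      exact ⟨x, hx⟩
  have hall : ∀ y, Points.map (pullback.fst q ((yon S).map ιQ)) y ∈ G := by
    by_contra! h
    obtain ⟨y, hy⟩ := h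
    obtain ⟨y', hy', hy0⟩ := exists_dim_zero_mem hPQ
      (isClosed_range_map_of_universallyClosed huc).isOpen_compl ⟨y, fun hr => hy (hlG.le hr)⟩
    rw [← hasAt_dim_zero_map hPQ hfste, hpre] at hy0
    exact hy' (hlG.ge (Set.mem_iUnion.2 ⟨⟨_, hy0⟩, hpO _⟩))
  obtain ⟨r, hr⟩ := exists_factor_openSub (W := G) (pullback.fst q ((yon S).map ιQ))
    (by rintro _ ⟨y, rfl⟩; exact hall y)
  have : Mono l := mono_of_repWith _ (repWith_mono (fun _ _ g (_ : IsOpenImmersion g) =>
    (inferInstance : Mono g)) (repWith_of_isPullback hl hι))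
  have hr' : hl.lift r (𝟙 _) (by rw [Category.id_comp]; exact hr) ≫ l = 𝟙 _ := hl.lift_snd _ _ _
  have : IsSplitEpi l := ⟨⟨⟨_, hr'⟩⟩⟩
  have : IsIso l := isIso_of_mono_of_isSplitEpi l
  exact IsPullback.of_iso_pullback ⟨by rw [Category.assoc]; exact sqf.w⟩ (asIso l)
    (sqQ.lift_fst _ _ _) (sqQ.lift_snd _ _ _)

end Groth.Agent.AlgSpDecent
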