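import Groth.Agent.Lib.AlgSpDecent.DenseOpen
import Groth.Agent.Lib.AlgSpace.ImmDescent
import Mathlib.AlgebraicGeometry.Morphisms.FlatMono

/-!
# Agreement loci of points of an etale chart

For an etale chart `φ : U ⟶ X` with `U` separated, two points of `U` with values in `T` over the same
point of `X` agree on a clopen subset of `T`.
-/

universe u

set_option backward.isDefEq.respectTransparency.types false

open CategoryTheory CategoryTheory.Limits AlgebraicGeometry AlgSp Topology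
open Groth.Agent.AlgSpace

namespace Groth.Agent.AlgSpDecent

variable {S : Scheme.{u}} {X : Sp S} {U : Over S}

/-- The set of points near which two maps agree. -/
def agree {T : Over S} (a b : T ⟶ U) : Set T.left :=
  {τ | ∃ O : T.left.Opens, τ ∈ O ∧ O.ι ≫ a.left = O.ι ≫ b.left}

variable {T T' : Over S}

theorem isOpen_agree (a b : T ⟶ U) : IsOpen (agree a b) :=
  isOpen_iff_forall_mem_open.2 fun _ ⟨O, hτ, hO⟩ => ⟨O, fun _ hx => ⟨O, hx, hO⟩, O.isOpen, hτ⟩

theorem agree_refl (a : T ⟶ U) (τ : T.left) : τ ∈ agree a a :=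
  ⟨⊤, trivial, rfl⟩

theorem agree_symm {a b : T ⟶ U} {τ : T.left} (h : τ ∈ agree a b) : τ ∈ agree b a :=
  let ⟨O, hτ, hO⟩ := h
  ⟨O, hτ, hO.symm⟩

theorem agree_trans {a b c : T ⟶ U} {τ : T.left} (h : τ ∈ agree a b) (h' : τ ∈ agree b c) :
    τ ∈ agree a c := by
  obtain ⟨O, hτ, hO⟩ := h
  obtain ⟨O', hτ', hO'⟩ := h'
  refine ⟨O ⊓ O', ⟨hτ, hτ'⟩, ?_⟩
  rw [← T.left.homOfLE_ι (inf_le_left : O ⊓ O' ≤ O), Category.assoc, hO, ← Category.assoc,
    T.left.homOfLE_ι, ← T.left.homOfLE_ι (inf_le_right : O ⊓ O' ≤ O'), Category.assoc, hO',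
    ← Category.assoc, T.left.homOfLE_ι]

theorem eq_of_forall_agree {a b : T ⟶ U} (h : ∀ τ, τ ∈ agree a b) : a = b := by
  choose O hτ hO using h
  refine Over.OverMorphism.ext (Scheme.Cover.hom_ext (T.left.openCoverOfIsOpenCover O
    (TopologicalSpace.IsOpenCover.mk (top_le_iff.1 fun τ _ =>
      TopologicalSpace.Opens.mem_iSup.2 ⟨τ, hτ τ⟩))) _ _ fun τ => ?_)
  exact hO τ

/-- Restriction of an object to an open. -/
abbrev restr (T : Over S) (O : T.left.Opens) : Over S := Over.mk (O.ι ≫ T.hom)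

/-- The inclusion of an open. -/
abbrev restrι (T : Over S) (O : T.left.Opens) : restr T O ⟶ T := Over.homMk O.ι rfl

theorem comp_eq_of_subset_agree {a b : T ⟶ U} (O : T.left.Opens) (h : (O : Set T.left) ⊆ agree a b) :
    restrι T O ≫ a = restrι T O ≫ b := by
  refine eq_of_forall_agree fun x => ?_
  obtain ⟨Q, hQ, e⟩ := h x.2
  refine ⟨O.ι ⁻¹ᵁ Q, hQ, ?_⟩
  show (O.ι ⁻¹ᵁ Q).ι ≫ O.ι ≫ a.left = (O.ι ⁻¹ᵁ Q).ι ≫ O.ι ≫ b.left
  rw [← morphismRestrict_ι_assoc, e, morphismRestrict_ι_assoc]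

variable {φ : (yon S).obj U ⟶ X} [U.left.IsSeparated] (hφ : RepWith @Etale φ)
include hφ

omit [U.left.IsSeparated] in
/-- The agreement locus is the preimage of the diagonal in the relation. -/
theorem agree_eq_preimage {R : Over S} {s t : R ⟶ U} (sq : IsPullback ((yon S).map t) ((yon S).map s) φ φ)
    {Δ : U ⟶ R} (hΔs : Δ ≫ s = 𝟙 U) (hΔt : Δ ≫ t = 𝟙 U) [IsOpenImmersion Δ.left]
    {a b : T ⟶ U} {r : T ⟶ R} (hrt : r ≫ t = a) (hrs : r ≫ s = b) :
    agree a b = r.left ⁻¹' Set.range Δ.left := by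
  subst hrt hrs
  ext τ
  constructor
  · rintro ⟨O, hτ, hO⟩
    have h : restrι T O ≫ r = (restrι T O ≫ r ≫ t) ≫ Δ := by
      have e : restrι T O ≫ r ≫ t = restrι T O ≫ r ≫ s := Over.OverMorphism.ext hO
      apply (yon S).map_injective
      apply sq.hom_ext
      · rw [← Functor.map_comp, ← Functor.map_comp, Category.assoc, Category.assoc, hΔt,
          Category.comp_id]
      · rw [← Functor.map_comp, ← Functor.map_comp, Category.assoc, Category.assoc, hΔs,
          Category.comp_id, e]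
    exact ⟨(restrι T O ≫ r ≫ t).left ⟨τ, hτ⟩,
      (congrArg (fun k : restr T O ⟶ R => k.left ⟨τ, hτ⟩) h).symm⟩
  · intro hτ
    let O : T.left.Opens := r.left ⁻¹ᵁ Δ.left.opensRange
    refine ⟨O, hτ, ?_⟩
    have hr : Set.range (O.ι ≫ r.left) ⊆ Set.range Δ.left := by
      rintro _ ⟨x, rfl⟩; exact x.2
    let l : restr T O ⟶ U := Over.homMk (IsOpenImmersion.lift Δ.left (O.ι ≫ r.left) hr) (by
      change _ = O.ι ≫ T.hom
      rw [show U.hom = Δ.left ≫ R.hom from (Over.w Δ).symm, IsOpenImmersion.lift_fac_assoc,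
        Category.assoc, Over.w r])
    have hl : l ≫ Δ = restrι T O ≫ r := Over.OverMorphism.ext (IsOpenImmersion.lift_fac _ _ _)
    have e : restrι T O ≫ r ≫ t = restrι T O ≫ r ≫ s := by
      rw [← Category.assoc, ← hl, ← Category.assoc (restrι T O) r s, ← hl, Category.assoc,
        Category.assoc, hΔt, hΔs]
    exact congrArg CommaMorphism.left e

/-- The relation of a separated etale chart has a clopen diagonal. -/
theorem exists_diag : ∃ (R : Over S) (s t : R ⟶ U) (Δ : U ⟶ R),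
    IsPullback ((yon S).map t) ((yon S).map s) φ φ ∧ Δ ≫ s = 𝟙 U ∧ Δ ≫ t = 𝟙 U ∧
      IsOpenImmersion Δ.left ∧ IsClosedImmersion Δ.left ∧ Etale s.left ∧ IsSeparated s.left := by
  obtain ⟨R, s, tf, sq⟩ := hφ.1 φ
  obtain ⟨t, rfl⟩ := (yon S).map_surjective tf
  have : Etale s.left := hφ.2 φ _ _ sq
  have := isSeparated_rel sq
  obtain ⟨Δ, hΔ⟩ := (yon S).map_surjective (sq.lift (𝟙 _) (𝟙 _) rfl)
  have hs : Δ ≫ s = 𝟙 U := (yon S).map_injective (by
    rw [Functor.map_comp, hΔ, (yon S).map_id]; exact sq.lift_snd _ _ _)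
  have ht : Δ ≫ t = 𝟙 U := (yon S).map_injective (by
    rw [Functor.map_comp, hΔ, (yon S).map_id]; exact sq.lift_fst _ _ _)
  have hs' : Δ.left ≫ s.left = 𝟙 U.left := congrArg CommaMorphism.left hs
  have : IsSplitMono Δ.left := ⟨⟨⟨s.left, hs'⟩⟩⟩
  have : Etale (Δ.left ≫ s.left) := by rw [hs']; infer_instance
  have : Etale Δ.left := Etale.of_comp Δ.left s.left
  have : IsClosedImmersion (Δ.left ≫ s.left) := by rw [hs']; infer_instance
  exact ⟨R, s, t, Δ, sq, hs, ht, IsOpenImmersion.of_flat_of_mono Δ.left,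
    IsClosedImmersion.of_comp Δ.left s.left, ‹_›, ‹_›⟩

theorem isClosed_agree {a b : T ⟶ U} (e : (yon S).map a ≫ φ = (yon S).map b ≫ φ) :
    IsClosed (agree a b) := by
  obtain ⟨R, s, t, Δ, sq, hs, ht, ho, hc, -, -⟩ := exists_diag hφ
  obtain ⟨r, hr⟩ := (yon S).map_surjective (sq.lift _ _ e)
  rw [agree_eq_preimage hφ sq hs ht (a := a) (b := b) (r := r)
    ((yon S).map_injective (by rw [Functor.map_comp, hr, sq.lift_fst]))
    ((yon S).map_injective (by rw [Functor.map_comp, hr, sq.lift_snd]))]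
  exact Δ.left.isClosedEmbedding.isClosed_range.preimage r.left.continuous

/-- Agreement loci pull back. -/
theorem agree_comp {a b : T ⟶ U} (e : (yon S).map a ≫ φ = (yon S).map b ≫ φ) (h : T' ⟶ T) :
    agree (h ≫ a) (h ≫ b) = h.left ⁻¹' agree a b := by
  obtain ⟨R, s, t, Δ, sq, hs, ht, ho, hc, -, -⟩ := exists_diag hφ
  obtain ⟨r, hr⟩ := (yon S).map_surjective (sq.lift _ _ e)
  have h1 : r ≫ t = a := (yon S).map_injective (by rw [Functor.map_comp, hr, sq.lift_fst])
  have h2 : r ≫ s = b := (yon S).map_injective (by rw [Functor.map_comp, hr, sq.lift_snd])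
  rw [agree_eq_preimage hφ sq hs ht h1 h2, agree_eq_preimage hφ sq hs ht (r := h ≫ r)
    (by rw [Category.assoc, h1]) (by rw [Category.assoc, h2]), Over.comp_left, ← Set.preimage_comp]
  rfl

end Groth.Agent.AlgSpDecent
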