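import Groth.Agent.Lib.AlgSpDecent.FinDeg
import Groth.Agent.Lib.AlgSpace.PieceLocal
import Groth.Agent.Lib.FpqcDesc.Basic
import Groth.Prelude.Def_Mor2

/-!
# The degree of the fibres of a flat, separated, locally quasi-finite morphism

Where the fibres are finite the degree is lower semicontinuous, and the morphism is finite locally
free over an open where it is constant.
-/

universe u

set_option backward.isDefEq.respectTransparency.types false

open CategoryTheory CategoryTheory.Limits AlgebraicGeometry Topology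

namespace Groth.Agent.AlgSpDecent.DegStrat

open Groth.Agent.AlgSpDecent

/-- The degree of the fibre. -/
noncomputable def deg {X Y : Scheme.{u}} (f : X ⟶ Y) (y : Y) : ℕ :=
  (f.fiberToSpecResidueField y).finrank (IsLocalRing.closedPoint _)

theorem flat_fiberToSpecResidueField {X Y : Scheme.{u}} (f : X ⟶ Y) [Flat f] (y : Y) :
    Flat (f.fiberToSpecResidueField y) :=
  MorphismProperty.pullback_snd (P := @Flat) f (Y.fromSpecResidueField y) inferInstance

theorem deg_eq_finrank {X Y : Scheme.{u}} (f : X ⟶ Y) [Flat f] [IsFinite f] (y : Y) :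
    deg f y = f.finrank y := by
  refine (Scheme.Hom.finrank_pullback_snd f (Y.fromSpecResidueField y) _).trans ?_
  rw [Scheme.fromSpecResidueField_apply]

theorem deg_baseChange {P X Y Y' : Scheme.{u}} {fst : P ⟶ X} {snd : P ⟶ Y'} {f : X ⟶ Y} {g : Y' ⟶ Y}
    (sq : IsPullback fst snd f g) [Flat f] (y' : Y') [IsFinite (f.fiberToSpecResidueField (g y'))] :
    deg snd y' = deg f (g y') := by
  have := flat_fiberToSpecResidueField f (g y')
  refine (@Scheme.Hom.finrank_of_isPullback _ _ _ _ _ _ (f.fiberToSpecResidueField (g y')) _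
    (isPullback_fiberToSpecResidueField_of_isPullback sq y') this ‹_› _).trans ?_
  exact congrArg (f.fiberToSpecResidueField (g y')).finrank (Subsingleton.elim (α := PrimeSpectrum _) _ _)

theorem isFinite_fibre_baseChange {P X Y Y' : Scheme.{u}} {fst : P ⟶ X} {snd : P ⟶ Y'} {f : X ⟶ Y}
    {g : Y' ⟶ Y} (sq : IsPullback fst snd f g) (y' : Y') [hg : IsFinite (f.fiberToSpecResidueField (g y'))] :
    IsFinite (snd.fiberToSpecResidueField y') :=
  MorphismProperty.of_isPullback (isPullback_fiberToSpecResidueField_of_isPullback sq y') hg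

theorem finrank_closedPoint {K B : Type u} [Field K] [CommRing B] [Algebra K B] [Module.Finite K B]
    {T : Scheme.{u}} (e : T ≅ Spec (CommRingCat.of B)) (c : T ⟶ Spec (CommRingCat.of K))
    (hc : e.hom ≫ Spec.map (CommRingCat.ofHom (algebraMap K B)) = c) :
    c.finrank (IsLocalRing.closedPoint K) = Module.finrank K B := by
  have : IsFinite (Spec.map (CommRingCat.ofHom (algebraMap K B))) := by
    rwa [IsFinite.SpecMap_iff, CommRingCat.hom_ofHom, RingHom.finite_algebraMap]
  rw [← hc, Scheme.Hom.finrank_comp_left_of_isIso, Scheme.Hom.finrank_SpecMap_algebraMap,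
    Module.rankAtStalk_eq_finrank_of_free]
  rfl

/-- An open piece of a finite scheme over a field has smaller degree, equal only if it is
everything. -/
theorem finrank_openImmersion {K : Type u} [Field K] {T W : Scheme.{u}}
    (c : T ⟶ Spec (CommRingCat.of K)) [IsFinite c] (j : W ⟶ T) [IsOpenImmersion j] :
    (j ≫ c).finrank (IsLocalRing.closedPoint K) ≤ c.finrank (IsLocalRing.closedPoint K) ∧
      ((j ≫ c).finrank (IsLocalRing.closedPoint K) = c.finrank (IsLocalRing.closedPoint K) →
        Surjective j) := by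
  have h : FinLE (c.finrank (IsLocalRing.closedPoint K)) c :=
    ⟨inferInstance, fun s => le_of_eq (congrArg c.finrank (Subsingleton.elim (α := PrimeSpectrum K) _ _))⟩
  have hj := h.openImmersion j
  have := h.isAffine
  have := hj.isAffine
  obtain ⟨B, _, _, e, he, hB, -⟩ := exists_spec_form' h
  obtain ⟨C, _, _, e', he', hC, -⟩ := exists_spec_form' hj
  rw [finrank_closedPoint e c he, finrank_closedPoint e' (j ≫ c) he']
  obtain ⟨_, _⟩ := h.discrete
  have : IsClosedImmersion j := .of_isPreimmersion j (isClosed_discrete _)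
  let ψ := Spec.preimage (e'.inv ≫ j ≫ e.hom)
  have hψ : Function.Surjective ψ.hom := by
    have : IsClosedImmersion (Spec.map ψ) := by rw [Spec.map_preimage]; infer_instance
    have h := (IsClosedImmersion.isAffine_surjective_of_isAffine (Spec.map ψ)).2
    intro y
    obtain ⟨x, hx⟩ := h ((Scheme.ΓSpecIso _).inv y)
    refine ⟨(Scheme.ΓSpecIso _).hom x, ?_⟩
    have := congr($(Scheme.ΓSpecIso_naturality ψ) x)
    change (Scheme.ΓSpecIso _).hom ((Spec.map ψ).appTop x) = ψ ((Scheme.ΓSpecIso _).hom x) at this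
    rw [hx] at this
    exact this.symm.trans ((Scheme.ΓSpecIso _).inv_hom_id_apply y)
  have hc : CommRingCat.ofHom (algebraMap K B) ≫ ψ = CommRingCat.ofHom (algebraMap K C) := by
    apply Spec.map_injective
    rw [Spec.map_comp, Spec.map_preimage, Category.assoc, Category.assoc, he, ← he', e'.inv_hom_id_assoc]
  let g : B →ₐ[K] C := { ψ.hom with commutes' := fun r => congr($hc r) }
  have hg : Function.Surjective g.toLinearMap := hψ
  refine ⟨LinearMap.finrank_le_finrank_of_surjective hg, fun heq => ?_⟩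
  have hinj : Function.Injective g.toLinearMap :=
    (LinearMap.injective_iff_surjective_of_finrank_eq_finrank heq.symm).2 hg
  have : IsIso ψ := (ConcreteCategory.isIso_iff_bijective ψ).2 ⟨hinj, hψ⟩
  have : IsIso (e'.inv ≫ j ≫ e.hom) := by rw [← Spec.map_preimage (e'.inv ≫ j ≫ e.hom)]; infer_instance
  have : IsIso (j ≫ e.hom) := IsIso.of_isIso_comp_left e'.inv (j ≫ e.hom)
  have : IsIso j := IsIso.of_isIso_comp_right j e.hom
  infer_instance

/-- An open piece finite over the base has smaller degree, with equality exactly when it contains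
the fibre. -/
theorem deg_piece {X Y : Scheme.{u}} (f : X ⟶ Y) (V : X.Opens) (y : Y)
    [IsFinite (f.fiberToSpecResidueField y)] :
    deg (V.ι ≫ f) y ≤ deg f y ∧ (deg (V.ι ≫ f) y = deg f y ↔ ∀ x, f x = y → x ∈ V) := by
  let c := f.fiberToSpecResidueField y
  let O := f.fiberι y ⁻¹ᵁ V
  have sq : IsPullback (f.fiberι y ∣_ V) (O.ι ≫ c) (V.ι ≫ f) (Y.fromSpecResidueField y) :=
    (isPullback_morphismRestrict (f.fiberι y) V).paste_vert (IsPullback.of_hasPullback f _)
  have : IsFinite c := ‹_›
  have hdeg : deg (V.ι ≫ f) y = (O.ι ≫ c).finrank (IsLocalRing.closedPoint _) := by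
    have h := sq.isoPullback_hom_snd
    show ((pullback.snd (V.ι ≫ f) (Y.fromSpecResidueField y))).finrank _ = _
    have hO : FinLE (K := Y.residueField y) _ (O.ι ≫ c) := FinLE.openImmersion (K := Y.residueField y)
      (n := c.finrank (IsLocalRing.closedPoint _)) ⟨‹_›, fun s =>
        le_of_eq (congrArg c.finrank (Subsingleton.elim (α := PrimeSpectrum _) _ _))⟩ O.ι
    have := hO.1
    rw [show pullback.snd (V.ι ≫ f) (Y.fromSpecResidueField y) = sq.isoPullback.inv ≫ O.ι ≫ c from
      sq.isoPullback_inv_snd.symm]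
    exact congrFun (Scheme.Hom.finrank_comp_left_of_isIso sq.isoPullback.inv (O.ι ≫ c)) _
  obtain ⟨hle, heq⟩ := finrank_openImmersion (K := Y.residueField y) c O.ι
  rw [hdeg]
  refine ⟨hle, fun h x hx => ?_, fun h => ?_⟩
  · obtain ⟨z, hz⟩ : x ∈ Set.range (f.fiberι y) := (f.range_fiberι y).ge hx
    obtain ⟨⟨z', hz'⟩, rfl⟩ := (heq h).surj z
    rw [← hz]
    exact hz'
  · have : IsIso O.ι := by
      have : Surjective O.ι := ⟨fun z => ⟨⟨z, h _ ((f.range_fiberι y).le ⟨z, rfl⟩)⟩, rfl⟩⟩
      exact (isIso_iff_isOpenImmersion_and_surjective O.ι).2 ⟨inferInstance, inferInstance⟩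
    rw [Scheme.Hom.finrank_comp_left_of_isIso]
    rfl

variable {X Y : Scheme.{u}} (f : X ⟶ Y) [Flat f] [LocallyOfFinitePresentation f] [IsSeparated f]
  [LocallyQuasiFinite f]

-- An etale neighbourhood over which a finite open piece contains the fibre at the chosen point. -/
omit [Flat f] in
theorem exists_split_nhd (hfin : ∀ y, IsFinite (f.fiberToSpecResidueField y)) (y : Y) :
    ∃ (T : Scheme.{u}) (e : T ⟶ Y) (t : T) (V : (pullback f e).Opens), Etale e ∧ e t = y ∧
      IsFinite (V.ι ≫ pullback.snd f e) ∧ ∀ p, pullback.snd f e p = t → p ∈ V := by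
  let K := AlgebraicClosure (Y.residueField y)
  let κ := CommRingCat.ofHom (algebraMap (Y.residueField y) K)
  let τ : Spec (CommRingCat.of K) ⟶ Y := Spec.map κ ≫ Y.fromSpecResidueField y
  have hτ : ∀ k, τ k = y := fun k => Y.fromSpecResidueField_apply y _
  let s := pullback.snd f τ
  have : IsFinite (pullback.snd (f.fiberToSpecResidueField y) (Spec.map κ)) :=
    have := hfin y
    MorphismProperty.pullback_snd (P := @IsFinite) _ _ inferInstance
  have hs : IsFinite s := by
    have sq := (IsPullback.of_hasPullback (f.fiberToSpecResidueField y) (Spec.map κ)).paste_horiz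
      (IsPullback.of_hasPullback f (Y.fromSpecResidueField y))
    rw [show s = sq.isoPullback.inv ≫ pullback.snd (f.fiberToSpecResidueField y) (Spec.map κ) from
      sq.isoPullback_inv_snd.symm]
    infer_instance
  have : CompactSpace ↥(pullback f τ) := QuasiCompact.compactSpace_of_compactSpace s
  have : DiscreteTopology ↥(pullback f τ) := by
    have h : s ⁻¹' {IsLocalRing.closedPoint K} = Set.univ :=
      Set.eq_univ_iff_forall.2 fun y => Subsingleton.elim (α := PrimeSpectrum K) _ _
    exact isDiscrete_univ_iff.1 (h ▸ s.isDiscrete_preimage_singleton (IsLocalRing.closedPoint K))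
  have : Finite ↥(pullback f τ) := finite_of_compact_of_discrete
  have := Fintype.ofFinite ↥(pullback f τ)
  choose w hw hwx using fun x : ↥(pullback f τ) => AlgSpace.PieceLocal.exists_section_through s x
  let zs : List (Spec (CommRingCat.of K) ⟶ X) :=
    (Finset.univ (α := ↥(pullback f τ))).toList.map fun x => w x ≫ pullback.fst f τ
  obtain ⟨T, e, V, he, hV, hpiece⟩ :=
    AlgSpace.PieceLocal.exists_piece_of_points f (zs.map fun z => z (IsLocalRing.closedPoint K))
  obtain ⟨l, hl, hlV⟩ := hpiece K τ zs rfl fun z hz => by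
    obtain ⟨x, -, rfl⟩ := List.mem_map.1 hz
    rw [Category.assoc, pullback.condition, reassoc_of% hw x]
  let t := l (IsLocalRing.closedPoint K)
  refine ⟨T, e, t, V, he, ?_, hV, fun p hp => ?_⟩
  · rw [← Scheme.Hom.comp_apply, hl]; exact hτ _
  obtain ⟨q, hq₁, -⟩ := Scheme.Pullback.exists_preimage_pullback (f := pullback.snd f e) (g := l) p
    (IsLocalRing.closedPoint K) hp
  let s' := pullback.snd (pullback.snd f e) l
  have : Etale e := he
  have : LocallyQuasiFinite (pullback.snd f e) := MorphismProperty.pullback_snd f e inferInstance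
  have : LocallyOfFiniteType (pullback.snd f e) := inferInstance
  have : LocallyQuasiFinite s' := MorphismProperty.pullback_snd (pullback.snd f e) l inferInstance
  obtain ⟨v, hv, hvq⟩ := AlgSpace.PieceLocal.exists_section_through s' q
  let w' := v ≫ pullback.fst (pullback.snd f e) l
  have hw' : w' ≫ pullback.snd f e = l := by
    rw [Category.assoc, pullback.condition, reassoc_of% hv]
  have hwp : w' (IsLocalRing.closedPoint K) = p := by
    rw [Scheme.Hom.comp_apply, hvq, hq₁]
  rw [← hwp]
  refine (hlV w' hw').2 ?_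
  let u : Spec (CommRingCat.of K) ⟶ pullback f τ := pullback.lift (w' ≫ pullback.fst f e) (𝟙 _) (by
    rw [Category.assoc, pullback.condition, reassoc_of% hw', hl, Category.id_comp])
  refine List.mem_map.2 ⟨u (IsLocalRing.closedPoint K), Finset.mem_toList.2 (Finset.mem_univ _), ?_⟩
  have : LocallyOfFiniteType s := inferInstance
  have heq : w (u (IsLocalRing.closedPoint K)) = u :=
    ext_of_apply_closedPoint_eq s (hw _) (pullback.lift_snd _ _ _) (hwx _)
  rw [heq, pullback.lift_fst]

/-- The degree is lower semicontinuous. -/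
theorem isOpen_deg_ge (hfin : ∀ y, IsFinite (f.fiberToSpecResidueField y)) (r : ℕ) :
    IsOpen {y | r ≤ deg f y} := by
  refine isOpen_iff_forall_mem_open.2 fun y hy => ?_
  obtain ⟨T, e, t, V, he, het, hV, hall⟩ := exists_split_nhd f hfin y
  let h := V.ι ≫ pullback.snd f e
  have : Flat (pullback.snd f e) := MorphismProperty.pullback_snd f e inferInstance
  have : LocallyOfFinitePresentation (pullback.snd f e) :=
    MorphismProperty.pullback_snd f e inferInstance
  have hfin' : ∀ t', IsFinite ((pullback.snd f e).fiberToSpecResidueField t') := fun t' =>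
    have := hfin (e t')
    isFinite_fibre_baseChange (IsPullback.of_hasPullback f e) t'
  have key : ∀ t', h.finrank t' ≤ deg f (e t') ∧
      (h.finrank t' = deg f (e t') ↔ ∀ p, pullback.snd f e p = t' → p ∈ V) := fun t' => by
    have := hfin (e t')
    have := hfin' t'
    rw [← deg_eq_finrank, ← deg_baseChange (IsPullback.of_hasPullback f e) t']
    exact deg_piece _ V t'
  refine ⟨e '' (h.finrank ⁻¹' {h.finrank t}), ?_,
    e.isOpenMap _ (h.isLocallyConstant_finrank _), ⟨t, rfl, het⟩⟩
  rintro _ ⟨t', ht', rfl⟩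
  show r ≤ deg f (e t')
  refine le_trans ?_ (key t').1
  rw [show h.finrank t' = h.finrank t from ht', (key t).2.2 hall, het]
  exact hy

/-- Constant degree gives finiteness, locally on an affine base. -/
theorem exists_nhd_finite (hfin : ∀ y, IsFinite (f.fiberToSpecResidueField y)) {r : ℕ}
    (hdeg : ∀ y, deg f y = r) (y : Y) : ∃ Q : Y.Opens, y ∈ Q ∧ IsFinite (f ∣_ Q) := by
  obtain ⟨D, hD, hyD, -⟩ := exists_isAffineOpen_mem_and_subset (X := Y) (x := y) (U := ⊤) trivial
  obtain ⟨T, e, t, V, he, het, hV, hall⟩ := exists_split_nhd f hfin y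
  let p := pullback.snd f e
  let h := V.ι ≫ p
  have : Flat p := MorphismProperty.pullback_snd f e inferInstance
  have : LocallyOfFinitePresentation p := MorphismProperty.pullback_snd f e inferInstance
  have hfin' : ∀ t', IsFinite (p.fiberToSpecResidueField t') := fun t' =>
    have := hfin (e t')
    isFinite_fibre_baseChange (IsPullback.of_hasPullback f e) t'
  have key : ∀ t', h.finrank t' = r ↔ ∀ x, p x = t' → x ∈ V := fun t' => by
    have := hfin (e t')
    have := hfin' t'
    rw [← hdeg (e t'), ← deg_eq_finrank, ← deg_baseChange (IsPullback.of_hasPullback f e) t']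
    exact (deg_piece _ V t').2
  let N : T.Opens := ⟨h.finrank ⁻¹' {r}, h.isLocallyConstant_finrank _⟩
  obtain ⟨N', hN', htN', hsub⟩ := exists_isAffineOpen_mem_and_subset (X := T) (x := t)
    (U := N ⊓ e ⁻¹ᵁ D) ⟨(key t).2 hall, show e t ∈ D from het ▸ hyD⟩
  let Q : Y.Opens := ⟨e '' N', e.isOpenMap _ N'.isOpen⟩
  refine ⟨Q, ⟨t, htN', het⟩, ?_⟩
  have hfN : IsFinite (p ∣_ N') := by
    have hpre : p ⁻¹ᵁ N' ≤ V := fun x hx => (key (p x)).1 (hsub hx).1 x rfl
    have h1 := IsZariskiLocalAtTarget.restrict (P := @IsFinite) hV N'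
    rw [morphismRestrict_comp] at h1
    have : IsIso (V.ι ∣_ (p ⁻¹ᵁ N')) := by
      have : Surjective (V.ι ∣_ (p ⁻¹ᵁ N')) := ⟨fun x =>
        ⟨⟨⟨x.1, hpre x.2⟩, x.2⟩, Subtype.ext (morphismRestrict_base_coe _ _ _)⟩⟩
      exact (isIso_iff_isOpenImmersion_and_surjective (V.ι ∣_ (p ⁻¹ᵁ N'))).2 ⟨inferInstance, inferInstance⟩
    exact (MorphismProperty.cancel_left_of_respectsIso @IsFinite (V.ι ∣_ (p ⁻¹ᵁ N')) (p ∣_ N')).1 h1
  let g₁ : N'.toScheme ⟶ D.toScheme := IsOpenImmersion.lift D.ι (N'.ι ≫ e) (by
    rintro _ ⟨x, rfl⟩; rw [D.range_ι]; exact (hsub x.2).2)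
  have : IsAffine N'.toScheme := hN'
  have : IsAffine D.toScheme := hD
  have hQD : Q ≤ D := by rintro _ ⟨x, hx, rfl⟩; exact (hsub hx).2
  let g : N'.toScheme ⟶ Q.toScheme := IsOpenImmersion.lift Q.ι (N'.ι ≫ e) (by
    rintro _ ⟨x, rfl⟩; rw [Q.range_ι]; exact ⟨x.1, x.2, rfl⟩)
  have hg : g ≫ Q.ι = N'.ι ≫ e := IsOpenImmersion.lift_fac _ _ _
  have : Etale (g ≫ Q.ι) := by rw [hg]; infer_instance
  have : Etale g := Etale.of_comp g Q.ι
  have : Surjective g := ⟨fun ⟨q, x, hx, hxq⟩ => ⟨⟨x, hx⟩, Q.ι.isOpenEmbedding.injective (by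
    rw [← Scheme.Hom.comp_apply, hg]; exact hxq)⟩⟩
  have : QuasiCompact g := by
    have h' : g ≫ Y.homOfLE hQD = g₁ := by
      rw [← cancel_mono D.ι, Category.assoc, Scheme.homOfLE_ι, hg, IsOpenImmersion.lift_fac]
    have : QuasiCompact (g ≫ Y.homOfLE hQD) := by rw [h']; infer_instance
    exact QuasiCompact.of_comp g (Y.homOfLE hQD)
  have := FpqcDesc.descendsAlong_isFinite.{u}
  have hsq := IsPullback.of_hasPullback g (f ∣_ Q)
  refine MorphismProperty.of_isPullback_of_descendsAlong
    (Q := (@Surjective ⊓ @Flat ⊓ @QuasiCompact : MorphismProperty Scheme.{u}))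
    hsq ⟨⟨inferInstance, inferInstance⟩, inferInstance⟩ ?_
  have h2 := hsq.flip.paste_horiz (isPullback_morphismRestrict f Q).flip
  rw [hg] at h2
  have h3 : IsPullback ((p ⁻¹ᵁ N').ι ≫ pullback.fst f e) (p ∣_ N') f (N'.ι ≫ e) :=
    (isPullback_morphismRestrict p N').flip.paste_horiz (IsPullback.of_hasPullback f e)
  rw [← h2.isoIsPullback_hom_snd _ _ h3]
  infer_instance

/-- Constant degree gives finite locally free of that degree. -/
theorem isFinLocFreeOfDeg_of_deg (hfin : ∀ y, IsFinite (f.fiberToSpecResidueField y)) {r : ℕ}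
    (hdeg : ∀ y, deg f y = r) : Mor2.IsFinLocFreeOfDeg r f := by
  choose Q hyQ hQ using exists_nhd_finite f hfin hdeg
  have : IsFinite f := IsZariskiLocalAtTarget.of_iSup_eq_top (P := @IsFinite) Q
    (top_le_iff.1 fun y _ => TopologicalSpace.Opens.mem_iSup.2 ⟨y, hyQ y⟩) hQ
  exact ⟨⟨inferInstance, inferInstance, inferInstance⟩, fun y => (deg_eq_finrank f y).symm.trans (hdeg y)⟩

end Groth.Agent.AlgSpDecent.DegStrat
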