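import Groth.Agent.Lib.AlgSpDecent.MorApps

/-!
# Descending decency along quasi-compact surjective morphisms
-/

universe u

set_option backward.isDefEq.respectTransparency.types false

open CategoryTheory CategoryTheory.Limits AlgebraicGeometry Opposite MorphismProperty

namespace Groth.Agent.AlgSpDecent

open AlgSp Groth.Agent.AlgSpace

variable {S : Scheme.{u}} {X Y : Sp S} {f : X ⟶ Y}

/-- A quasi-compact image of a quasi-compact point has a monomorphic quasi-compact representative. -/
theorem hasMonoQC_map_of_qc (hX : IsAlgSpace X) (hY : IsAlgSpace Y) (hf : IsQuasiCompactMor f)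
    (p : FieldPt X) (hp : RepWith @QuasiCompact p.toHom) :
    HasMonoQC Y (Points.map f (Points.mk p)) := by
  rw [Points.map_mk]
  refine hasMonoQC_of_qc_fieldPt hY _ ?_
  have hr : Representable (p.map f).toHom :=
    Functor.relativelyRepresentable.of_diag hY.diag _
  rw [repWith_quasiCompact_iff (IsAlgSpace.yon_obj _) hY hr, FieldPt.toHom_map]
  exact isQuasiCompactMor_comp hX hY
    ((repWith_quasiCompact_iff (IsAlgSpace.yon_obj _) hX hp.1).1 hp) hf

/-- Decency descends along quasi-compact surjective morphisms. -/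
theorem isDecent_of_qc_surjective (hX : IsAlgSpace X) (hY : IsAlgSpace Y) (hf : IsQuasiCompactMor f)
    (hs : Function.Surjective (Points.map f)) (h : IsDecent X) : IsDecent Y := by
  intro y
  obtain ⟨x, rfl⟩ := hs y
  obtain ⟨p, rfl, -, hp⟩ := h x
  exact hasMonoQC_map_of_qc hX hY hf p hp

/-- Decency of a morphism can be tested after a surjective etale base change to a scheme. -/
theorem isDecentMor_of_etale_cover (hX : IsAlgSpace X) (hY : IsAlgSpace Y) {V : Over S}
    {p : (yon S).obj V ⟶ Y} (hp : RepWith @Etale p) (hps : RepWith @Surjective p) {X' : Sp S}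
    {fst : X' ⟶ X} {snd : X' ⟶ (yon S).obj V} (hsq : IsPullback fst snd f p)
    (h : IsDecentMor snd) : IsDecentMor f := by
  refine isDecentMor_of_affine fun Z g P fst' snd' hZ sq x => ?_
  have : IsAffine Z.left := hZ
  obtain ⟨Z', b, fstZ, sqZ⟩ := hp.1 g
  obtain ⟨a, rfl⟩ := (yon S).map_surjective fstZ
  obtain ⟨z, hz⟩ := (Points.schemeEquiv Z).surjective (Points.map snd' x)
  have : Surjective b.left := hps.2 _ _ _ sqZ
  obtain ⟨z', rfl⟩ := b.left.surjective z
  obtain ⟨O, hO, hzO, -⟩ :=
    exists_isAffineOpen_mem_and_subset (X := Z'.left) (x := z') (U := ⊤) trivial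
  let W : Over S := Over.mk (O.ι ≫ Z'.hom)
  let i : W ⟶ Z' := Over.homMk O.ι rfl
  have : IsAffine W.left := hO
  have hqc : QuasiCompact (i ≫ b).left :=
    inferInstanceAs (QuasiCompact ((i ≫ b).left : W.left ⟶ Z.left))
  have hqm : IsQuasiCompactMor ((yon S).map (i ≫ b)) :=
    (repWith_quasiCompact_iff (IsAlgSpace.yon_obj _) (IsAlgSpace.yon_obj _)
      (repWith_yon_map_iff @QuasiCompact (i ≫ b) |>.2 hqc).1).1
      ((repWith_yon_map_iff @QuasiCompact (i ≫ b)).2 hqc)
  have hP : IsAlgSpace P := isAlgSpace_pullback hY hX (IsAlgSpace.yon_obj Z) sq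
  have sqP := IsPullback.of_hasPullback snd' ((yon S).map (i ≫ b))
  have hqc' : IsQuasiCompactMor (pullback.fst snd' ((yon S).map (i ≫ b))) :=
    isQuasiCompactMor_of_isPullback sqP.flip hqm
  have sqX : IsPullback (pullback.fst snd' ((yon S).map (i ≫ b)) ≫ fst') (pullback.snd _ _) f
      ((yon S).map (i ≫ a) ≫ p) := by
    rw [show (yon S).map (i ≫ a) ≫ p = (yon S).map (i ≫ b) ≫ g by
      simp only [Functor.map_comp, Category.assoc, sqZ.w]]
    exact sqP.paste_horiz sq
  let m := hsq.lift (pullback.fst snd' ((yon S).map (i ≫ b)) ≫ fst')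
    (pullback.snd snd' ((yon S).map (i ≫ b)) ≫ (yon S).map (i ≫ a))
    (by rw [Category.assoc, Category.assoc, ← sqX.w, Category.assoc])
  have sqX' : IsPullback m (pullback.snd snd' ((yon S).map (i ≫ b))) snd ((yon S).map (i ≫ a)) :=
    IsPullback.of_right (by rw [IsPullback.lift_fst]; exact sqX) (IsPullback.lift_snd _ _ _ _) hsq
  have hd := h _ _ _ sqX'
  obtain ⟨w, hw₁, -⟩ := exists_point_lift sqP x (Points.ofScheme W (⟨z', hzO⟩ : O)) (by
    rw [← hz]; exact (Points.map_yon_map_apply (i ≫ b) (⟨z', hzO⟩ : O)).symm)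
  obtain ⟨q, rfl, -, hq⟩ := hd w
  rw [← hw₁]
  exact hasMonoQC_map_of_qc (isAlgSpace_pullback (IsAlgSpace.yon_obj Z) hP (IsAlgSpace.yon_obj W) sqP)
    hP hqc' q hq

end Groth.Agent.AlgSpDecent
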