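import Groth.Agent.Lib.AlgSpDecent.FieldDim
import Groth.Agent.Lib.AlgSpace.SchemeLocus
import Groth.Agent.Lib.FpqcDesc.Basic

/-!
# Zero dimensional spaces locally of finite type over a field are separated schemes
-/

universe u

set_option backward.isDefEq.respectTransparency.types false

open CategoryTheory CategoryTheory.Limits AlgebraicGeometry Opposite MorphismProperty Topology
  TopologicalSpace

namespace Groth.Agent.AlgSpDecent

open AlgSp Groth.Agent.AlgSpace

/-- A scheme with discrete underlying space is separated. -/
theorem isSeparated_of_discreteTopology (X : Scheme.{u}) [DiscreteTopology X] : X.IsSeparated := by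
  suffices h : IsSeparated (terminal.from X) from ⟨h⟩
  let d := pullback.diagonal (terminal.from X)
  refine ⟨?_⟩
  refine IsClosedImmersion.of_isPreimmersion d (closure_subset_iff_isClosed.1 fun z hz => ?_)
  let C : Set ↥(pullback (terminal.from X) (terminal.from X)) :=
    ⋃ p : X, pullback.fst (terminal.from X) (terminal.from X) ⁻¹' {p} ∩
      pullback.snd (terminal.from X) (terminal.from X) ⁻¹' {p}
  have hfs : ∀ x : X, pullback.fst (terminal.from X) (terminal.from X) (d x) = x ∧
      pullback.snd (terminal.from X) (terminal.from X) (d x) = x := fun x =>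
    ⟨congr($(pullback.diagonal_fst (terminal.from X)) x),
      congr($(pullback.diagonal_snd (terminal.from X)) x)⟩
  have hzC : pullback.fst (terminal.from X) (terminal.from X) z =
      pullback.snd (terminal.from X) (terminal.from X) z := by
    by_contra hne
    have hN : IsOpen (pullback.fst (terminal.from X) (terminal.from X) ⁻¹'
        {pullback.fst (terminal.from X) (terminal.from X) z} ∩
        pullback.snd (terminal.from X) (terminal.from X) ⁻¹'
        {pullback.snd (terminal.from X) (terminal.from X) z}) :=
      ((isOpen_discrete _).preimage (Scheme.Hom.continuous _)).inter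
        ((isOpen_discrete _).preimage (Scheme.Hom.continuous _))
    obtain ⟨w, ⟨hw1, hw2⟩, x, rfl⟩ := mem_closure_iff.1 hz _ hN ⟨rfl, rfl⟩
    exact hne (hw1.symm.trans ((hfs x).1.trans ((hfs x).2.symm.trans hw2)))
  let p := pullback.fst (terminal.from X) (terminal.from X) z
  let W : X.Opens := ⟨{p}, isOpen_discrete _⟩
  have : Subsingleton W := ⟨fun a b => Subtype.ext (a.2.trans b.2.symm)⟩
  have : Finite W.toScheme := @Finite.of_subsingleton _ ‹_›
  have : DiscreteTopology W.toScheme := inferInstanceAs (DiscreteTopology W)
  have : IsAffine W.toScheme := inferInstance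
  let i := pullback.map (terminal.from W.toScheme) (terminal.from W.toScheme)
    (terminal.from X) (terminal.from X) W.ι W.ι (𝟙 _) (terminal.hom_ext _ _) (terminal.hom_ext _ _)
  obtain ⟨z', hz'⟩ : z ∈ Set.range i := by
    rw [Scheme.Pullback.range_map]
    exact ⟨⟨⟨p, rfl⟩, rfl⟩, ⟨⟨p, rfl⟩, hzC⟩⟩
  have hio : IsOpenImmersion i := inferInstance
  have hNN : IsOpen (Set.range i) := hio.base_open.isOpen_range
  let δ := pullback.diagonal (terminal.from W.toScheme)
  have hδd : δ ≫ i = W.ι ≫ d := by
    apply pullback.hom_ext <;>
      simp only [δ, i, d, pullback.map, Category.assoc, pullback.lift_fst, pullback.lift_snd, pullback.diagonal_fst,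
        pullback.diagonal_snd, pullback.diagonal_fst_assoc, pullback.diagonal_snd_assoc, Category.comp_id]
  have hsub : Set.range d ∩ Set.range i ⊆ i '' Set.range δ := by
    rintro _ ⟨⟨x, rfl⟩, ⟨w, hw⟩⟩
    have hx : x ∈ W := by
      have h1 : W.ι (pullback.fst (terminal.from W.toScheme) (terminal.from W.toScheme) w) =
          pullback.fst (terminal.from X) (terminal.from X) (i w) := by
        rw [← Scheme.Hom.comp_apply, ← Scheme.Hom.comp_apply]
        congr 1
        simp only [i, pullback.map, pullback.lift_fst]
      rw [hw, (hfs x).1] at h1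
      exact h1 ▸ (pullback.fst (terminal.from W.toScheme) (terminal.from W.toScheme) w).2
    exact ⟨δ ⟨x, hx⟩, ⟨_, rfl⟩, congr($hδd (⟨x, hx⟩ : W))⟩
  have hz2 : z ∈ closure (Set.range d ∩ Set.range i) := by
    rw [Set.inter_comm]
    exact hNN.inter_closure ⟨⟨z', hz'⟩, hz⟩
  have hzδ : z' ∈ Set.range δ := by
    have : IsClosedImmersion δ := inferInstance
    refine δ.isClosedEmbedding.isClosed_range.closure_subset ?_
    rw [hio.base_open.isInducing.closure_eq_preimage_closure_image]
    show i z' ∈ closure (i '' Set.range δ)
    rw [hz']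
    exact closure_mono hsub hz2
  obtain ⟨w, rfl⟩ := hzδ
  exact ⟨W.ι w, by rw [← hz', ← Scheme.Hom.comp_apply, ← Scheme.Hom.comp_apply, hδd]⟩

variable {k : Type u} [Field k]

/-- A zero dimensional space locally of finite type over a field is a separated scheme. -/
theorem separated_scheme_of_dim_zero (X : Space (Spec (CommRingCat.of k)))
    (p : X.obj ⟶ (yon (Spec (CommRingCat.of k))).obj (Over.mk (𝟙 _)))
    (hp : LocP @LocallyOfFiniteType p) (hd : AlgSp.dim X.obj = 0) :
    ∃ (U : Over (Spec (CommRingCat.of k))) (_ : (yon (Spec (CommRingCat.of k))).obj U ≅ X.obj),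
      U.left.IsSeparated ∧ ∀ V : U.left.Opens, IsCompact (V : Set ↥U.left) → IsAffineOpen V := by
  obtain ⟨A, q, hqe, hqs⟩ := X.property.atlas
  have hlqf := (lqf_field_iff p).2 ⟨hp, hd.le⟩
  obtain ⟨hAq, hAl⟩ := chart_lft hlqf hqe
  have : LocallyQuasiFinite A.hom := hAq
  have := IsLocallyArtinian.of_locallyQuasiFinite A.hom
  have : DiscreteTopology (Points X.obj) := discreteTopology_iff_isOpen_singleton.2 fun x => by
    obtain ⟨a, rfl⟩ := surjective_ofPt hqs x
    have := isOpenMap_ofPt q hqe _ (isOpen_discrete ({a} : Set A.left))
    rwa [Set.image_singleton] at this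
  have hqs' : IsQuasiSeparatedSp X.obj := by
    obtain ⟨R, s, fst, sq⟩ := hqe.1 q
    obtain ⟨t, rfl⟩ := (yon _).map_surjective fst
    let j : R ⟶ A ⨯ A := prod.lift t s
    have : Mono j := ⟨fun a b e => (yon _).map_injective (sq.hom_ext
      (by rw [← Functor.map_comp, ← Functor.map_comp]
          have := congrArg (· ≫ prod.fst) e
          simp only [j, Category.assoc, prod.lift_fst] at this; rw [this])
      (by rw [← Functor.map_comp, ← Functor.map_comp]
          have := congrArg (· ≫ prod.snd) e
          simp only [j, Category.assoc, prod.lift_snd] at this; rw [this]))⟩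
    have := isLocalAtTarget_fppf_quasiCompact.{u}
    refine repWith_diag_of_chart X.property.diag hqe hqs sq ?_
    have : LocallyOfFiniteType A.hom := hAl
    have : DiscreteTopology (A ⨯ A).left := by
      have h1 : LocallyOfFiniteType (prod.fst : A ⨯ A ⟶ A).left :=
        MorphismProperty.of_isPullback (P := @LocallyOfFiniteType) (isPullback_fst_left A A).flip hAl
      have h2 : LocallyQuasiFinite (prod.fst : A ⨯ A ⟶ A).left :=
        MorphismProperty.of_isPullback (P := @LocallyQuasiFinite) (isPullback_fst_left A A).flip hAq
      have := IsLocallyArtinian.of_locallyQuasiFinite (prod.fst : A ⨯ A ⟶ A).left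
      infer_instance
    have : Mono j.left := inferInstanceAs (Mono ((CategoryTheory.Over.forget _).map j))
    refine ⟨fun W hWo hWc => ?_⟩
    have : CompactSpace W := isCompact_iff_compactSpace.1 hWc
    have : Finite W := finite_of_compact_of_discrete
    exact ((Set.toFinite W).preimage j.left.injective.injOn).isCompact
  have hdec := isDecent_of_isQuasiSeparatedSp X.property hqs'
  obtain ⟨U, ⟨e⟩⟩ := exists_yon_iso_of_isRepresentable (isRepresentable_of_discrete_points X hdec)
  have : DiscreteTopology U.left := discreteTopology_chart X.property hdec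
    (MorphismProperty.of_isIso (RepWith (S := Spec (CommRingCat.of k)) @Etale) e.hom)
  have hU : DiscreteTopology (U.left : Type u) := ‹_›
  refine ⟨U, e, isSeparated_of_discreteTopology U.left, fun V hV => ?_⟩
  have hVd : DiscreteTopology (V : Set U.left) :=
    DiscreteTopology.of_continuous_injective continuous_subtype_val Subtype.val_injective
  have : Finite V := @finite_of_compact_of_discrete _ _ (isCompact_iff_compactSpace.1 hV) hVd
  have : Finite V.toScheme := this
  have : DiscreteTopology V.toScheme := hVd
  exact (inferInstance : IsAffine V.toScheme)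

end Groth.Agent.AlgSpDecent
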