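import Groth.Agent.Lib.AlgSpDecent.Agree
import Mathlib.AlgebraicGeometry.Morphisms.QuasiCompact

/-!
# Tuples of pairwise distinct points of an etale chart

For an etale chart `φ : U ⟶ X` with `U` separated, the scheme of `n + 1` pairwise nowhere agreeing
points of `U` over the same point of `X`, and the image of it in `X`.
-/

universe u

set_option backward.isDefEq.respectTransparency.types false

open CategoryTheory CategoryTheory.Limits AlgebraicGeometry AlgSp Topology
open Groth.Agent.AlgSpace

namespace Groth.Agent.AlgSpDecent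

variable {S : Scheme.{u}} {X : Sp S} {U : Over S}

/-- Compatible tuples. -/
def IsTup (φ : (yon S).obj U ⟶ X) {T : Over S} {n : ℕ} (a : Fin (n + 1) → (T ⟶ U)) : Prop :=
  ∀ i, (yon S).map (a i) ≫ φ = (yon S).map (a 0) ≫ φ

/-- Nowhere agreeing tuples. -/
def DistAt {T : Over S} {n : ℕ} (a : Fin (n + 1) → (T ⟶ U)) (τ : T.left) : Prop :=
  ∀ i j, i ≠ j → τ ∉ agree (a i) (a j)

variable {φ : (yon S).obj U ⟶ X}

theorem IsTup.eq {T : Over S} {n : ℕ} {a : Fin (n + 1) → (T ⟶ U)} (h : IsTup φ a) (i j) :
    (yon S).map (a i) ≫ φ = (yon S).map (a j) ≫ φ :=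
  (h i).trans (h j).symm

theorem IsTup.comp {T T' : Over S} {n : ℕ} {a : Fin (n + 1) → (T ⟶ U)} (h : IsTup φ a) (g : T' ⟶ T) :
    IsTup φ fun i => g ≫ a i := fun i => by
  simp only [Functor.map_comp, Category.assoc]
  rw [h i]

/-- The universal scheme of tuples. -/
structure TupScheme (φ : (yon S).obj U ⟶ X) (n : ℕ) where
  obj : Over S
  π : Fin (n + 1) → (obj ⟶ U)
  tup : IsTup φ π
  lift : ∀ ⦃T : Over S⦄ (a : Fin (n + 1) → (T ⟶ U)), IsTup φ a → ∃ h : T ⟶ obj, ∀ i, h ≫ π i = a i
  ext : ∀ ⦃T : Over S⦄ (h h' : T ⟶ obj), (∀ i, h ≫ π i = h' ≫ π i) → h = h'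
  etale : Etale (π 0).left
  sep : IsSeparated (π 0).left

variable [U.left.IsSeparated] (hφ : RepWith @Etale φ)
include hφ

theorem exists_tupScheme (n : ℕ) : ∃ F : TupScheme φ n,
    (∀ R : Over S, ∀ s t : R ⟶ U, IsPullback ((yon S).map t) ((yon S).map s) φ φ →
      QuasiCompact s.left → QuasiCompact (F.π 0).left) := by
  induction n with
  | zero =>
    refine ⟨⟨U, fun _ => 𝟙 U, fun _ => rfl, fun T a _ => ⟨a 0, fun i => ?_⟩,
      fun T h h' e => by simpa using e 0, inferInstanceAs (Etale (𝟙 U.left)),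
      inferInstanceAs (IsSeparated (𝟙 U.left))⟩, fun _ _ _ _ _ => (inferInstance : QuasiCompact (𝟙 U.left))⟩
    rw [Category.comp_id, show i = 0 from Fin.eq_zero i]
  | succ n ih =>
    obtain ⟨F, hqc⟩ := ih
    obtain ⟨R, s, t, Δ, sq, hs, ht, -, -, hse, hssep⟩ := exists_diag hφ
    let P := Limits.pullback s (F.π 0)
    have sqP := IsPullback.of_hasPullback s (F.π 0)
    let π : Fin (n + 2) → (P ⟶ U) :=
      Fin.snoc (fun i => pullback.snd s (F.π 0) ≫ F.π i) (pullback.fst s (F.π 0) ≫ t)
    have h0 : π 0 = pullback.snd s (F.π 0) ≫ F.π 0 :=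
      Fin.snoc_castSucc (α := fun _ => P ⟶ U) _ _ 0
    have hlast : π (Fin.last _) = pullback.fst s (F.π 0) ≫ t := Fin.snoc_last (α := fun _ => P ⟶ U) _ _
    have hcs : ∀ i, π (Fin.castSucc i) = pullback.snd s (F.π 0) ≫ F.π i :=
      fun i => Fin.snoc_castSucc (α := fun _ => P ⟶ U) _ _ i
    refine ⟨⟨P, π, fun i => ?_, fun T a ha => ?_, fun T h h' e => ?_, ?_, ?_⟩, fun R' s' t' sq' hs' => ?_⟩
    · rw [h0]
      induction i using Fin.lastCases with
      | last =>
        rw [hlast, Functor.map_comp, Category.assoc, sq.w, ← Category.assoc, ← Functor.map_comp,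
          pullback.condition]
      | cast i =>
        rw [hcs, Functor.map_comp, Functor.map_comp, Category.assoc, Category.assoc, F.tup i]
    · obtain ⟨g, hg⟩ := F.lift (fun i => a (Fin.castSucc i)) fun i => ha.eq _ _
      obtain ⟨r, hr⟩ := (yon S).map_surjective
        (sq.lift ((yon S).map (a (Fin.last _))) ((yon S).map (a 0)) (ha _))
      have h1 : r ≫ t = a (Fin.last _) := (yon S).map_injective (by
        rw [Functor.map_comp, hr, sq.lift_fst])
      have h2 : r ≫ s = a 0 := (yon S).map_injective (by rw [Functor.map_comp, hr, sq.lift_snd])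
      refine ⟨pullback.lift r g (by rw [h2, hg]; rfl), fun i => ?_⟩
      induction i using Fin.lastCases with
      | last => rw [hlast, pullback.lift_fst_assoc, h1]
      | cast i => rw [hcs, pullback.lift_snd_assoc, hg]
    · have hg : h ≫ pullback.snd s (F.π 0) = h' ≫ pullback.snd s (F.π 0) := F.ext _ _ fun i => by
        have := e (Fin.castSucc i)
        rwa [hcs, ← Category.assoc, ← Category.assoc] at this
      refine sqP.hom_ext ((yon S).map_injective (sq.hom_ext ?_ ?_)) hg
      · rw [← Functor.map_comp, ← Functor.map_comp, Category.assoc, Category.assoc, ← hlast, e]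
      · rw [← Functor.map_comp, ← Functor.map_comp, Category.assoc, Category.assoc, pullback.condition,
          ← Category.assoc, hg, Category.assoc]
    · show Etale (π 0).left
      rw [h0, Over.comp_left]
      have := F.etale
      have : Etale (pullback.snd s (F.π 0)).left :=
        MorphismProperty.of_isPullback (P := @Etale) (sqP.map (Over.forget S)) hse
      infer_instance
    · show IsSeparated (π 0).left
      rw [h0, Over.comp_left]
      have := F.sep
      have : IsSeparated (pullback.snd s (F.π 0)).left :=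
        MorphismProperty.of_isPullback (P := @IsSeparated) (sqP.map (Over.forget S)) hssep
      infer_instance
    · have := hqc R' s' t' sq' hs'
      show QuasiCompact (π 0).left
      rw [h0, Over.comp_left]
      let e := sq.isoIsPullback _ _ sq'
      have he : e.hom ≫ (yon S).map s' = (yon S).map s := sq.isoIsPullback_hom_snd _ _ sq'
      obtain ⟨ρ, hρ⟩ := (yon S).map_surjective e.hom
      have : IsIso ((yon S).map ρ) := hρ ▸ inferInstance
      have : IsIso ρ := isIso_of_reflects_iso ρ (yon S)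
      have : IsIso ρ.left := inferInstanceAs (IsIso ((Over.forget S).map ρ))
      have hsρ : ρ ≫ s' = s := (yon S).map_injective (by rw [Functor.map_comp, hρ, he])
      have : QuasiCompact s.left := by rw [← hsρ, Over.comp_left]; infer_instance
      have : QuasiCompact (pullback.snd s (F.π 0)).left :=
        MorphismProperty.of_isPullback (P := @QuasiCompact) (sqP.map (Over.forget S)) this
      infer_instance

/-- The clopen set where a tuple is nowhere agreeing. -/
theorem isClopen_distAt {T : Over S} {n : ℕ} {a : Fin (n + 1) → (T ⟶ U)} (ha : IsTup φ a) :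
    IsClopen {τ | DistAt a τ} := by
  have e : {τ | DistAt a τ} = ⋂ i, ⋂ j, {τ | i ≠ j → τ ∉ agree (a i) (a j)} := by
    ext τ; simp [DistAt, Set.mem_iInter]
  rw [e]
  refine isClopen_iInter_of_finite fun i => isClopen_iInter_of_finite fun j => ?_
  by_cases h : i = j
  · simp [h, isClopen_univ]
  · simpa [h, ← Set.compl_setOf] using
      (show IsClopen (agree (a i) (a j)) from
        ⟨isClosed_agree hφ (ha.eq i j), isOpen_agree _ _⟩).compl

omit [U.left.IsSeparated] hφ in
theorem DistAt.inj {T : Over S} {n : ℕ} {a : Fin (n + 1) → (T ⟶ U)} {τ : T.left} (h : DistAt a τ)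
    {i j : Fin (n + 1)} (hij : τ ∈ agree (a i) (a j)) : i = j :=
  by_contra fun hne => h i j hne hij

theorem distAt_comp {T T' : Over S} {n : ℕ} {a : Fin (n + 1) → (T ⟶ U)} (ha : IsTup φ a)
    (g : T' ⟶ T) (τ : T'.left) : DistAt (fun i => g ≫ a i) τ ↔ DistAt a (g.left τ) := by
  refine forall₂_congr fun i j => imp_congr_right fun _ => not_congr ?_
  rw [agree_comp hφ (ha.eq i j) g]
  rfl

/-- The universal scheme of nowhere agreeing tuples. -/
structure DistScheme (φ : (yon S).obj U ⟶ X) (n : ℕ) where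
  obj : Over S
  π : Fin (n + 1) → (obj ⟶ U)
  tup : IsTup φ π
  dist : ∀ w, DistAt π w
  lift : ∀ ⦃T : Over S⦄ (a : Fin (n + 1) → (T ⟶ U)), IsTup φ a → (∀ τ, DistAt a τ) →
    ∃ h : T ⟶ obj, ∀ i, h ≫ π i = a i
  ext : ∀ ⦃T : Over S⦄ (h h' : T ⟶ obj), (∀ i, h ≫ π i = h' ≫ π i) → h = h'
  etale : Etale (π 0).left
  sep : IsSeparated (π 0).left

theorem exists_distScheme (n : ℕ) : ∃ W : DistScheme φ n,
    (∀ R : Over S, ∀ s t : R ⟶ U, IsPullback ((yon S).map t) ((yon S).map s) φ φ →
      QuasiCompact s.left → QuasiCompact (W.π 0).left) := by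
  obtain ⟨F, hqc⟩ := exists_tupScheme hφ n
  have hD := isClopen_distAt hφ F.tup
  let O : F.obj.left.Opens := ⟨_, hD.isOpen⟩
  let ι := restrι F.obj O
  have : IsOpenImmersion ι.left := inferInstanceAs (IsOpenImmersion O.ι)
  have : Mono ι := (Over.forget S).mono_of_mono_map (inferInstanceAs (Mono O.ι))
  have : IsClosedImmersion ι.left :=
    IsClosedImmersion.of_isPreimmersion O.ι (by rw [O.range_ι]; exact hD.isClosed)
  have := F.etale
  have := F.sep
  refine ⟨⟨restr F.obj O, fun i => ι ≫ F.π i, F.tup.comp ι, fun w => (distAt_comp hφ F.tup ι w).2 w.2,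
    fun T a ha hd => ?_, fun T h h' e => ?_, ?_, ?_⟩, fun R s t sq hs => ?_⟩
  · obtain ⟨g, hg⟩ := F.lift a ha
    have hr : Set.range g.left ⊆ Set.range ι.left := by
      rintro _ ⟨τ, rfl⟩
      show g.left τ ∈ Set.range O.ι
      rw [O.range_ι]
      have := hd τ
      rw [show a = fun i => g ≫ F.π i from funext fun i => (hg i).symm] at this
      exact (distAt_comp hφ F.tup g τ).1 this
    let g' : T ⟶ restr F.obj O := Over.homMk (IsOpenImmersion.lift ι.left g.left hr) (by
      change _ ≫ ι.left ≫ F.obj.hom = _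
      rw [IsOpenImmersion.lift_fac_assoc, Over.w g])
    have : g' ≫ ι = g := Over.OverMorphism.ext (IsOpenImmersion.lift_fac _ _ _)
    exact ⟨g', fun i => by rw [← Category.assoc, this, hg]⟩
  · exact (cancel_mono ι).1 (F.ext _ _ fun i => by simpa using e i)
  · show Etale (ι ≫ F.π 0).left
    rw [Over.comp_left]; infer_instance
  · show IsSeparated (ι ≫ F.π 0).left
    rw [Over.comp_left]; infer_instance
  · have := hqc R s t sq hs
    show QuasiCompact (ι ≫ F.π 0).left
    rw [Over.comp_left]; infer_instance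

variable (φ) in
/-- The points of `X` over which `n + 1` nowhere agreeing points of the chart exist. -/
def distImage (n : ℕ) : Set (Points X) :=
  {x | ∃ (T : Over S) (a : Fin (n + 1) → (T ⟶ U)) (τ : T.left), IsTup φ a ∧ DistAt a τ ∧
    Points.ofPt ((yon S).map (a 0) ≫ φ) τ = x}

omit [U.left.IsSeparated] hφ in
theorem distImage_succ_subset (n : ℕ) : distImage φ (n + 1) ⊆ distImage φ n := by
  rintro _ ⟨T, a, τ, ha, hd, rfl⟩
  exact ⟨T, fun i => a (Fin.castSucc i), τ, fun i => ha.eq _ _,
    fun i j hij => hd _ _ (fun h => hij (Fin.castSucc_injective _ h)), rfl⟩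

omit [U.left.IsSeparated] hφ in
theorem distImage_antitone : Antitone (distImage φ) :=
  antitone_nat_of_succ_le distImage_succ_subset

theorem distImage_eq_range {n : ℕ} (W : DistScheme φ n) :
    distImage φ n = Set.range (Points.ofPt ((yon S).map (W.π 0) ≫ φ)) := by
  refine Set.Subset.antisymm ?_ fun x ⟨w, hw⟩ => ⟨W.obj, W.π, w, W.tup, W.dist w, hw⟩
  rintro _ ⟨T, a, τ, ha, hd, rfl⟩
  let O : T.left.Opens := ⟨_, (isClopen_distAt hφ ha).isOpen⟩
  obtain ⟨g, hg⟩ := W.lift (fun i => restrι T O ≫ a i) (ha.comp _)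
    fun x => (distAt_comp hφ ha _ x).2 x.2
  refine ⟨g.left ⟨τ, hd⟩, ?_⟩
  rw [← ofPt_map_comp, ← Category.assoc, ← Functor.map_comp, hg, Functor.map_comp, Category.assoc,
    ofPt_map_comp]
  rfl

omit [U.left.IsSeparated] in
theorem repWith_etale_dist {n : ℕ} (W : DistScheme φ n) :
    RepWith @Etale ((yon S).map (W.π 0) ≫ φ) :=
  repWith_comp ((repWith_yon_map_iff _ _).2 W.etale) hφ

theorem isOpen_distImage (n : ℕ) : IsOpen (distImage φ n) := by
  obtain ⟨W, -⟩ := exists_distScheme hφ n
  rw [distImage_eq_range hφ W, ← Set.image_univ]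
  exact isOpenMap_ofPt _ (repWith_etale_dist hφ W) _ isOpen_univ

omit [U.left.IsSeparated] hφ in
theorem mem_distImage_zero (u : U.left) : Points.ofPt φ u ∈ distImage φ 0 :=
  ⟨U, fun _ => 𝟙 U, u, fun _ => rfl, fun i j h => (h (by omega)).elim, by
    rw [ofPt_map_comp]; rfl⟩

omit [U.left.IsSeparated] hφ in
/-- Beyond the last stratum every further point agrees with one of the tuple. -/
theorem exists_agree {n : ℕ} {T : Over S} {a : Fin (n + 1) → (T ⟶ U)} (ha : IsTup φ a) {τ : T.left}
    (hd : DistAt a τ) (hn : Points.ofPt ((yon S).map (a 0) ≫ φ) τ ∉ distImage φ (n + 1)) {b : T ⟶ U}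
    (hb : (yon S).map b ≫ φ = (yon S).map (a 0) ≫ φ) : ∃ i, τ ∈ agree (a i) b := by
  by_contra hc
  push_neg at hc
  let c : Fin (n + 2) → (T ⟶ U) := Fin.snoc a b
  have h0 : c 0 = a 0 := Fin.snoc_castSucc (α := fun _ => T ⟶ U) _ _ 0
  have hcs : ∀ i, c (Fin.castSucc i) = a i := fun i => Fin.snoc_castSucc (α := fun _ => T ⟶ U) _ _ i
  have hl : c (Fin.last _) = b := Fin.snoc_last (α := fun _ => T ⟶ U) _ _
  refine hn ⟨T, c, τ, fun i => ?_, fun i j hij h => ?_, by rw [h0]⟩
  · rw [h0]
    induction i using Fin.lastCases with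
    | last => rw [hl, hb]
    | cast i => rw [hcs, ha i]
  · induction i using Fin.lastCases with
    | last =>
      induction j using Fin.lastCases with
      | last => exact hij rfl
      | cast j => rw [hl, hcs] at h; exact hc j (agree_symm h)
    | cast i =>
      induction j using Fin.lastCases with
      | last => rw [hl, hcs] at h; exact hc i h
      | cast j =>
        rw [hcs, hcs] at h
        exact hd i j (fun e => hij (e ▸ rfl)) h

end Groth.Agent.AlgSpDecent
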