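import Groth.Agent.Lib.FlatH4.FibreCritScheme
import Mathlib.AlgebraicGeometry.Noetherian

/-!
# The fibrewise criterion of flatness, locally noetherian schemes
-/

universe u

open TensorProduct AlgebraicGeometry CategoryTheory Limits

namespace Groth.Agent.FlatH4

section Ring

variable (A B C K : Type u) [CommRing A] [CommRing B] [CommRing C] [Field K] [Algebra A B]
  [Algebra A C] [Algebra B C] [IsScalarTower A B C] [Algebra A K]

variable {A B C K} in
/-- The noetherian case of flatness from the fibre and the base. -/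
theorem flat_of_flat_fibMap_noeth [IsNoetherianRing B] [IsNoetherianRing C]
    (q' : Ideal (K ⊗[A] C)) [q'.IsPrime]
    [Module.Flat A (LocalizedModule (q'.comap
      (Algebra.TensorProduct.includeRight (R := A) (A := K) (B := C)).toRingHom).primeCompl C)]
    (h : letI := (fibMap A B C K).toRingHom.toAlgebra
      Module.Flat (K ⊗[A] B) (LocalizedModule q'.primeCompl (K ⊗[A] C))) :
    Module.Flat B (LocalizedModule (q'.comap
      (Algebra.TensorProduct.includeRight (R := A) (A := K) (B := C)).toRingHom).primeCompl C) := by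
  letI := (fibMap A B C K).toRingHom.toAlgebra
  haveI : IsScalarTower K (K ⊗[A] B) (K ⊗[A] C) :=
    IsScalarTower.of_algebraMap_eq fun k => ((fibMap A B C K).commutes k).symm
  let ψ := (Algebra.TensorProduct.includeRight (R := A) (A := K) (B := C)).toRingHom
  have hfib : FibFlat (K ⊗[A] B) (K ⊗[A] C) ((⊥ : Ideal K).map (algebraMap K (K ⊗[A] B))) q' := by
    intro N N' _ _ _ _ hN hN' g hg x hx
    exact exists_smul_eq_zero_of_flat_localized q' g hg x hx
  have hbot : q'.comap (algebraMap K (K ⊗[A] C)) = ⊥ :=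
    (Ideal.eq_bot_or_top _).resolve_right (Ideal.IsPrime.ne_top inferInstance)
  have hfib₀ : FibFlat B C (((⊥ : Ideal K).comap (algebraMap A K)).map (algebraMap A B)) (q'.comap ψ) :=
    fibFlat_descend (R := A) (A := K) (S₀ := B) (T₀ := C) (M₀ := C) (S := K ⊗[A] B)
    (T := K ⊗[A] C) (M := K ⊗[A] C) AlgEquiv.refl ψ
    (fun s => by
      show (1 : K) ⊗ₜ[A] algebraMap B C s = fibMap A B C K ((1 : K) ⊗ₜ[A] s)
      simp [fibMap])
    (by
      rw [eq_top_iff]
      intro z hz
      clear hz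
      induction z using TensorProduct.induction_on with
      | zero => exact zero_mem _
      | add a b ha hb => exact add_mem ha hb
      | tmul k c =>
        rw [show k ⊗ₜ[A] c = k • ((1 : K) ⊗ₜ[A] c) by rw [TensorProduct.smul_tmul', smul_eq_mul, mul_one]]
        exact Submodule.smul_mem _ _ (Submodule.subset_span ⟨c, rfl⟩))
    (LinearEquiv.refl K _)
    (fun t m => by
      show (1 : K) ⊗ₜ[A] (t * m) = ((1 : K) ⊗ₜ[A] t) * ((1 : K) ⊗ₜ[A] m)
      rw [Algebra.TensorProduct.tmul_mul_tmul, one_mul])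
    ⊥ q' hbot hfib
  refine flat_localized_of_fibFlat (R := A) (S := B) (T := C) (M := C)
    ((⊥ : Ideal K).comap (algebraMap A K)) (q'.comap ψ) ?_ hfib₀
  rw [Ideal.map_le_iff_le_comap, Ideal.comap_comap, ← hbot, Ideal.comap_comap]
  refine le_of_eq ?_
  congr 1
  ext a
  show algebraMap A K a ⊗ₜ[A] (1 : C) = (1 : K) ⊗ₜ[A] algebraMap A C a
  rw [Algebra.algebraMap_eq_smul_one, Algebra.algebraMap_eq_smul_one, TensorProduct.smul_tmul]

end Ring

variable {X Y S : Scheme.{u}} (f : X ⟶ Y) (g : Y ⟶ S) {K : Type u} [Field K]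
  (a : Spec (CommRingCat.of K) ⟶ S)

/-- The fibrewise criterion of flatness for locally noetherian schemes. -/
theorem flat_of_flat_fibreMapAt_noeth [IsLocallyNoetherian X] [IsLocallyNoetherian Y]
    (x' : ↥(pullback a (f ≫ g)))
    (hflat : ((f ≫ g).stalkMap (pullback.snd a (f ≫ g) x')).hom.Flat)
    (h : ((fibreMapAt f g a).stalkMap x').hom.Flat) :
    (f.stalkMap (pullback.snd a (f ≫ g) x')).hom.Flat := by
  obtain ⟨V, hV, U, hU, W, hW, hUV, hWU, hWV, hx, _, htower, q', _, hq, hiff⟩ :=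
    exists_fibre_chart f g a x'
  let := (g.appLE V U hUV).hom.toAlgebra
  let := ((f ≫ g).appLE V W hWV).hom.toAlgebra
  let := (f.appLE U W hWU).hom.toAlgebra
  haveI : IsNoetherianRing Γ(X, W) := IsLocallyNoetherian.component_noetherian ⟨W, hW⟩
  haveI : IsNoetherianRing Γ(Y, U) := IsLocallyNoetherian.component_noetherian ⟨U, hU⟩
  have h' := (flat_stalkMap_iff (f ≫ g) V hV W hW hWV hx).1 hflat
  have hq' : Module.Flat Γ(S, V) (LocalizedModule (q'.comap
      (Algebra.TensorProduct.includeRight (R := Γ(S, V)) (A := K) (B := Γ(X, W))).toRingHom).primeCompl Γ(X, W)) :=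
    @flat_localized_mono Γ(S, V) Γ(X, W) _ _ _ Γ(X, W) _ _ _ _ _ _ _ _ (le_of_eq hq) h'
  have h2 := flat_of_flat_fibMap_noeth q' (hiff.1 h)
  exact (flat_stalkMap_iff f U hU W hW hWU hx).2
    (@flat_localized_mono Γ(Y, U) Γ(X, W) _ _ _ Γ(X, W) _ _ _ _ _ _ _ _ (le_of_eq hq.symm) h2)

theorem flat_of_flat_fibreMapAt'_noeth [IsLocallyNoetherian X] [IsLocallyNoetherian Y]
    (z : ↥(pullback (f ≫ g) a)) (hflat : ((f ≫ g).stalkMap (pullback.fst (f ≫ g) a z)).hom.Flat)
    (h : ((fibreMapAt' f g a).stalkMap z).hom.Flat) :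
    (f.stalkMap (pullback.fst (f ≫ g) a z)).hom.Flat := by
  rw [flat_fibreMapAt'_iff] at h
  have h1 : pullback.snd a (f ≫ g) ((pullbackSymmetry (f ≫ g) a).hom z) =
      pullback.fst (f ≫ g) a z := by
    rw [← Scheme.Hom.comp_apply, pullbackSymmetry_hom_comp_snd]
  exact flat_stalkMap_of_eq f h1
    (flat_of_flat_fibreMapAt_noeth f g a _ (flat_stalkMap_of_eq (f ≫ g) h1.symm hflat) h)

end Groth.Agent.FlatH4
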