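import Mathlib.Algebra.Field.Subfield.Basic
import Mathlib.LinearAlgebra.FiniteDimensional.Basic
import Mathlib.RingTheory.Flat.Basic
import Mathlib.RingTheory.Finiteness.Basic
import Mathlib.RingTheory.TensorProduct.Free

/-!
# Finite groupoids on a field

If a finite algebra `A` over a field `k` (via `s`) carries a second map `t : k → A` and a composition
to `A ⊗ A`, and is generated by the two images of `k`, then `A ≅ k ⊗ k` over the equaliser of `s` and `t`.
-/

universe u

open TensorProduct

namespace Groth.Agent.AlgSpDecent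

variable {k A A₂ : Type u} [Field k] [CommRing A] [CommRing A₂] (s t : k →+* A)

/-- The composition data of a groupoid on a field. -/
structure IsFieldGroupoid (c p₁ p₂ : A →+* A₂) : Prop where
  c_s : ∀ x, c (s x) = p₁ (s x)
  c_t : ∀ x, c (t x) = p₂ (t x)
  mid : ∀ x, p₁ (t x) = p₂ (s x)
  free : ∀ (n : ℕ) (a v : Fin n → A), (∀ x : Fin n → k, ∑ i, s (x i) * v i = 0 → x = 0) →
    ∑ i, p₁ (a i) * p₂ (v i) = 0 → a = 0

variable {s t} {c p₁ p₂ : A →+* A₂}

theorem IsFieldGroupoid.indep (h : IsFieldGroupoid s t c p₁ p₂) [Nontrivial A] :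
    ∀ (n : ℕ) (e : Fin n → k),
      (∀ x : Fin n → k, (∀ i, s (x i) = t (x i)) → ∑ i, x i * e i = 0 → x = 0) →
      ∀ x : Fin n → k, ∑ i, s (x i) * t (e i) = 0 → x = 0 := by
  intro n
  induction n with
  | zero => exact fun e _ x _ => funext fun i => i.elim0
  | succ n ih =>
    intro e he x hx
    have he' : ∀ y : Fin n → k, (∀ i, s (y i) = t (y i)) → ∑ i, y i * e i.succ = 0 → y = 0 := by
      intro y hy hy0
      have := he (Fin.cons 0 y) (Fin.cases (by simp) (fun i => by simpa using hy i))
        (by simp [Fin.sum_univ_succ, hy0])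
      exact funext fun i => by simpa using congrFun this i.succ
    have hv := ih (fun i => e i.succ) he'
    have hx0 : x 0 = 0 := by
      by_contra hne
      -- normalise the relation
      obtain ⟨y, hy⟩ : ∃ y : Fin n → k, t (e 0) = ∑ i, s (y i) * t (e i.succ) := by
        refine ⟨fun i => -(x 0)⁻¹ * x i.succ, ?_⟩
        rw [Fin.sum_univ_succ] at hx
        have h1 := congrArg (fun a => s (x 0)⁻¹ * a) hx
        simp only [mul_add, mul_zero, ← mul_assoc, ← map_mul, inv_mul_cancel₀ hne, map_one, one_mul,
          Finset.mul_sum] at h1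
        rw [eq_neg_of_add_eq_zero_left h1, ← Finset.sum_neg_distrib]
        refine Finset.sum_congr rfl fun i _ => ?_
        simp [map_mul, map_neg]
      have h1 : ∑ i, p₁ (s (y i) - t (y i)) * p₂ (t (e i.succ)) = 0 := by
        have hc := congrArg c hy
        simp only [map_sum, map_mul, h.c_s, h.c_t] at hc
        have hp := congrArg p₂ hy
        simp only [map_sum, map_mul, ← h.mid] at hp
        simp only [map_sub, sub_mul, Finset.sum_sub_distrib]
        rw [← hc, ← hp, sub_self]
      have h2 := h.free n _ _ hv h1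
      have hy' : ∀ i, s (y i) = t (y i) := fun i => sub_eq_zero.1 (congrFun h2 i)
      have h3 : t (e 0 - ∑ i, y i * e i.succ) = 0 := by
        simp only [map_sub, map_sum, map_mul, ← hy', ← hy, sub_self]
      have h4 : e 0 - ∑ i, y i * e i.succ = 0 := t.injective (by rw [h3, map_zero])
      have := he (Fin.cons 1 (fun i => - y i)) (Fin.cases (by simp) (fun i => by simp [hy' i]))
        (by simpa [Fin.sum_univ_succ, ← sub_eq_add_neg] using h4)
      simpa using congrFun this 0
    rw [Fin.sum_univ_succ, hx0, map_zero, zero_mul, zero_add] at hx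
    exact funext (Fin.cases hx0 fun i => congrFun (hv _ hx) i)

/-- The field is finite over the equaliser and `A` is the tensor square. -/
theorem IsFieldGroupoid.finite_and_bijective (h : IsFieldGroupoid s t c p₁ p₂) [Nontrivial A]
    (hfin : s.Finite) (hgen : ∀ S : Subring A, (∀ x, s x ∈ S) → (∀ x, t x ∈ S) → S = ⊤)
    {k₀ : Type u} [Field k₀] [Algebra k₀ k] (hk₀ : ∀ x, s x = t x ↔ x ∈ (algebraMap k₀ k).range)
    (μ : k ⊗[k₀] k →+* A) (hμs : ∀ x, μ (x ⊗ₜ 1) = s x) (hμt : ∀ x, μ (1 ⊗ₜ x) = t x) :
    Module.Finite k₀ k ∧ Function.Bijective μ := by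
  let : Algebra k A := s.toAlgebra
  have : Module.Finite k A := hfin
  have hlin : ∀ (n : ℕ) (e : Fin n → k), LinearIndependent k₀ e →
      ∀ x : Fin n → k, ∑ i, s (x i) * t (e i) = 0 → x = 0 := by
    intro n e he
    refine h.indep n e fun x hx hx0 => ?_
    choose y hy using fun i => (hk₀ (x i)).1 (hx i)
    have : ∑ i, y i • e i = 0 := by simpa [Algebra.smul_def, hy] using hx0
    exact funext fun i => by rw [← hy, Fintype.linearIndependent_iff.1 he y this i, map_zero]; rfl
  have hbound : ∀ (n : ℕ) (e : Fin n → k), LinearIndependent k₀ e → n ≤ Module.finrank k A := by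
    intro n e he
    have : LinearIndependent k (fun i => t (e i)) :=
      Fintype.linearIndependent_iff.2 fun g hg i => congrFun (hlin n e he g hg) i
    simpa using this.fintype_card_le_finrank
  have hfink : Module.Finite k₀ k := by
    by_contra hinf
    let b := Module.Basis.ofVectorSpace k₀ k
    have : Infinite (Module.Basis.ofVectorSpaceIndex k₀ k) := by
      by_contra hi
      have : Finite (Module.Basis.ofVectorSpaceIndex k₀ k) := not_infinite_iff_finite.1 hi
      exact hinf (Module.Finite.of_basis b)
    let j := Infinite.natEmbedding (Module.Basis.ofVectorSpaceIndex k₀ k)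
    have := hbound (Module.finrank k A + 1) (fun i => b (j i))
      (b.linearIndependent.comp _ (j.injective.comp Fin.val_injective))
    omega
  refine ⟨hfink, (RingHom.injective_iff_ker_eq_bot μ).2 ?_, ?_⟩
  · rw [eq_bot_iff]
    intro z hz
    let b := Module.finBasis k₀ k
    let bt := Algebra.TensorProduct.basis k b
    have hz' : μ z = ∑ i, s (bt.repr z i) * t (b i) := by
      conv_lhs => rw [← bt.sum_repr z]
      simp only [map_sum]
      refine Finset.sum_congr rfl fun i _ => ?_
      rw [Algebra.TensorProduct.basis_apply, TensorProduct.smul_tmul', smul_eq_mul, mul_one,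
        ← mul_one (bt.repr z i), ← hμs, ← hμt, ← map_mul, Algebra.TensorProduct.tmul_mul_tmul]
      simp
    have h0 := hlin _ b b.linearIndependent (fun i => bt.repr z i) (hz'.symm.trans hz)
    rw [Submodule.mem_bot]
    exact bt.repr.injective (Finsupp.ext fun i => by simpa using congrFun h0 i)
  · intro a
    have := hgen μ.range (fun x => ⟨_, hμs x⟩) (fun x => ⟨_, hμt x⟩)
    exact (this ▸ Subring.mem_top a : a ∈ μ.range)

end Groth.Agent.AlgSpDecent
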