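import Groth.Agent.Lib.AlgSpDecent.FinDegAlg
import Mathlib.AlgebraicGeometry.Morphisms.FlatRank
import Mathlib.AlgebraicGeometry.Morphisms.Flat
import Mathlib.AlgebraicGeometry.Artinian
import Mathlib.RingTheory.Finiteness.Descent
import Mathlib.RingTheory.RingHom.FaithfullyFlat

/-!
# Schemes finite of bounded degree over a field
-/

universe u

set_option backward.isDefEq.respectTransparency.types false

open CategoryTheory CategoryTheory.Limits AlgebraicGeometry TensorProduct

namespace Groth.Agent.AlgSpDecent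

variable {K : Type u} [Field K] {n m : ℕ} {T : Scheme.{u}}

/-- A morphism to the spectrum of a field is finite of degree at most `n`. -/
def FinLE (n : ℕ) (c : T ⟶ Spec (CommRingCat.of K)) : Prop :=
  IsFinite c ∧ ∀ s, c.finrank s ≤ n

theorem finLE_spec_iff {B : Type u} [CommRing B] [Algebra K B] :
    FinLE n (Spec.map (CommRingCat.ofHom (algebraMap K B))) ↔
      Module.Finite K B ∧ Module.finrank K B ≤ n := by
  refine ⟨fun ⟨hf, hr⟩ => ?_, fun ⟨hf, hr⟩ => ⟨?_, fun s => ?_⟩⟩
  · have : Module.Finite K B := by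
      rwa [IsFinite.SpecMap_iff, CommRingCat.hom_ofHom, RingHom.finite_algebraMap] at hf
    refine ⟨this, ?_⟩
    have := hr (IsLocalRing.closedPoint K)
    rwa [Scheme.Hom.finrank_SpecMap_algebraMap, Module.rankAtStalk_eq_finrank_of_free] at this
  · rwa [IsFinite.SpecMap_iff, CommRingCat.hom_ofHom, RingHom.finite_algebraMap]
  · rw [Scheme.Hom.finrank_SpecMap_algebraMap, Module.rankAtStalk_eq_finrank_of_free]
    exact hr

theorem finLE_iso_comp_iff {T' : Scheme.{u}} (e : T' ≅ T) (c : T ⟶ Spec (CommRingCat.of K)) :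
    FinLE n (e.hom ≫ c) ↔ FinLE n c := by
  have key : ∀ {X Y : Scheme.{u}} (a : X ≅ Y) (b : Y ⟶ Spec (CommRingCat.of K)),
      FinLE n b → FinLE n (a.hom ≫ b) := by
    intro X Y a b h
    have := h.1
    exact ⟨inferInstance, by rw [Scheme.Hom.finrank_comp_left_of_isIso]; exact h.2⟩
  exact ⟨fun h => by simpa using key e.symm _ h, key e c⟩

theorem exists_spec_form {R : Type u} [CommRing R] [IsAffine T] (c : T ⟶ Spec (CommRingCat.of R)) :
    ∃ (B : Type u) (_ : CommRing B) (_ : Algebra R B) (e : T ≅ Spec (CommRingCat.of B)),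
      e.hom ≫ Spec.map (CommRingCat.ofHom (algebraMap R B)) = c := by
  let := (Spec.preimage (T.isoSpec.inv ≫ c)).hom.toAlgebra
  refine ⟨Γ(T, ⊤), inferInstance, this, T.isoSpec, ?_⟩
  have : Spec.map (CommRingCat.ofHom (algebraMap R Γ(T, ⊤))) = T.isoSpec.inv ≫ c :=
    Spec.map_preimage _
  exact (Iso.eq_inv_comp _).1 this

theorem exists_spec_form' [IsAffine T] {c : T ⟶ Spec (CommRingCat.of K)} (h : FinLE n c) :
    ∃ (B : Type u) (_ : CommRing B) (_ : Algebra K B) (e : T ≅ Spec (CommRingCat.of B)),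
      e.hom ≫ Spec.map (CommRingCat.ofHom (algebraMap K B)) = c ∧
      Module.Finite K B ∧ Module.finrank K B ≤ n := by
  obtain ⟨B, _, _, e, rfl⟩ := exists_spec_form c
  exact ⟨B, _, _, e, rfl, finLE_spec_iff.1 ((finLE_iso_comp_iff e _).1 h)⟩

theorem FinLE.isAffine {c : T ⟶ Spec (CommRingCat.of K)} (h : FinLE n c) : IsAffine T :=
  have := h.1
  isAffine_of_isAffineHom c

theorem FinLE.discrete {c : T ⟶ Spec (CommRingCat.of K)} (h : FinLE n c) :
    Finite T ∧ DiscreteTopology T := by
  have := h.isAffine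
  obtain ⟨B, _, _, e, -, hB, -⟩ := exists_spec_form' h
  have : IsArtinianRing B := IsArtinianRing.of_finite K B
  exact ⟨Finite.of_equiv _ e.hom.homeomorph.toEquiv.symm,
    e.hom.homeomorph.symm.discreteTopology⟩

theorem FinLE.card_le {c : T ⟶ Spec (CommRingCat.of K)} (h : FinLE n c) : Nat.card T ≤ n := by
  have := h.isAffine
  obtain ⟨B, _, _, e, -, hB, hle⟩ := exists_spec_form' h
  have : IsArtinianRing B := IsArtinianRing.of_finite K B
  have : Fintype (MaximalSpectrum B) := Fintype.ofFinite _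
  have hT : Nat.card T = Fintype.card (MaximalSpectrum B) := by
    rw [Nat.card_congr e.hom.homeomorph.toEquiv, ← Nat.card_eq_fintype_card]
    exact Nat.card_congr (IsArtinianRing.primeSpectrumEquivMaximalSpectrum (R := B))
  rw [hT]
  refine le_trans ?_ hle
  let f := RingHom.pi fun m : MaximalSpectrum B => Ideal.Quotient.mk m.asIdeal
  have hf : Function.Surjective f := by
    intro x
    choose y hy using fun m => Ideal.Quotient.mk_surjective (x m)
    obtain ⟨r, hr⟩ := Ideal.exists_forall_sub_mem_ideal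
      (I := fun m : MaximalSpectrum B => m.asIdeal)
      (fun i j hij => MaximalSpectrum.isCoprime_of_ne hij) y
    exact ⟨r, funext fun m => ((Ideal.Quotient.eq).2 (hr m)).trans (hy m)⟩
  let g : B →ₗ[K] ∀ m : MaximalSpectrum B, B ⧸ m.asIdeal :=
    { toFun := f, map_add' := map_add f, map_smul' := fun r x => by ext; rfl }
  refine le_trans ?_ (LinearMap.finrank_le_finrank_of_surjective (f := g) hf)
  rw [Module.finrank_pi_fintype K]
  calc Fintype.card (MaximalSpectrum B) = ∑ _m : MaximalSpectrum B, 1 := by simp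
    _ ≤ _ := Finset.sum_le_sum fun m _ => Nat.one_le_iff_ne_zero.2 fun h0 => by
      have : Nontrivial (B ⧸ m.asIdeal) := Ideal.Quotient.nontrivial_iff.2 m.isMaximal.ne_top
      exact absurd h0 Module.finrank_pos.ne'

theorem FinLE.openImmersion {c : T ⟶ Spec (CommRingCat.of K)} (h : FinLE n c) {W : Scheme.{u}}
    (j : W ⟶ T) [IsOpenImmersion j] : FinLE n (j ≫ c) := by
  obtain ⟨_, _⟩ := h.discrete
  have : DiscreteTopology W := j.isOpenEmbedding.isEmbedding.discreteTopology
  have : Finite W := Finite.of_injective _ j.isOpenEmbedding.injective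
  have : IsAffine W := inferInstance
  have : IsClosedImmersion j := .of_isPreimmersion j (isClosed_discrete _)
  have := h.isAffine
  obtain ⟨B, _, _, e, rfl, hB, hle⟩ := exists_spec_form' h
  obtain ⟨C, _, _, e', he'⟩ := exists_spec_form (j ≫ e.hom ≫ Spec.map (CommRingCat.ofHom (algebraMap K B)))
  rw [← he', finLE_iso_comp_iff, finLE_spec_iff]
  let ψ := Spec.preimage (e'.inv ≫ j ≫ e.hom)
  have hψ : Function.Surjective ψ.hom := by
    have : IsClosedImmersion (Spec.map ψ) := by rw [Spec.map_preimage]; infer_instance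
    have h := (IsClosedImmersion.isAffine_surjective_of_isAffine (Spec.map ψ)).2
    intro y
    obtain ⟨x, hx⟩ := h ((Scheme.ΓSpecIso _).inv y)
    refine ⟨(Scheme.ΓSpecIso _).hom x, ?_⟩
    have := congr($(Scheme.ΓSpecIso_naturality ψ) x)
    change (Scheme.ΓSpecIso _).hom ((Spec.map ψ).appTop x) = ψ ((Scheme.ΓSpecIso _).hom x) at this
    rw [hx] at this
    exact this.symm.trans ((Scheme.ΓSpecIso _).inv_hom_id_apply y)
  have hc : CommRingCat.ofHom (algebraMap K B) ≫ ψ = CommRingCat.ofHom (algebraMap K C) := by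
    apply Spec.map_injective
    rw [Spec.map_comp, Spec.map_preimage, ← cancel_epi e'.hom, he']
    simp
  let g : B →ₐ[K] C := { ψ.hom with commutes' := fun r => congr($hc r) }
  have : Function.Surjective g.toLinearMap := hψ
  exact ⟨Module.Finite.of_surjective g.toLinearMap this,
    (LinearMap.finrank_le_finrank_of_surjective this).trans hle⟩

/-- A finite set of points with finite affine opens is finite. -/
theorem finLE_of_forall_affine [Finite T] {c : T ⟶ Spec (CommRingCat.of K)}
    (h : ∀ W : T.Opens, IsAffineOpen W → FinLE n (W.ι ≫ c)) : FinLE n c := by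
  have : DiscreteTopology T := by
    refine discreteTopology_iff_isOpen_singleton.2 fun t => ?_
    obtain ⟨W, hW, htW, -⟩ := exists_isAffineOpen_mem_and_subset (X := T) (x := t) (U := ⊤) trivial
    obtain ⟨-, _⟩ := (h W hW).discrete
    have := W.ι.isOpenEmbedding.isOpenMap _ (isOpen_discrete ({⟨t, htW⟩} : Set W.toScheme))
    rwa [Set.image_singleton] at this
  exact (finLE_iso_comp_iff T.topIso c).1 (h ⊤ (isAffineOpen_top T))

theorem finLE_of_surjective_flat {P : Scheme.{u}} (π : P ⟶ T) [Flat π] [Surjective π]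
    {c : T ⟶ Spec (CommRingCat.of K)} (h : FinLE n (π ≫ c)) : FinLE n c := by
  obtain ⟨_, _⟩ := h.discrete
  have : Finite T := Finite.of_surjective _ π.surjective
  refine finLE_of_forall_affine fun W hW => ?_
  have : IsAffine W.toScheme := hW
  have hWU := h.openImmersion (π ⁻¹ᵁ W).ι
  have := hWU.isAffine
  have : Flat (π ∣_ W) := IsZariskiLocalAtTarget.restrict (P := @Flat) ‹_› W
  have : Surjective (π ∣_ W) := IsZariskiLocalAtTarget.restrict (P := @Surjective) ‹_› W
  obtain ⟨B, _, _, e, he, hB, hle⟩ := exists_spec_form' hWU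
  obtain ⟨C, _, _, e', he'⟩ := exists_spec_form (W.ι ≫ c)
  rw [← he', finLE_iso_comp_iff, finLE_spec_iff]
  let ψ := Spec.preimage (e.inv ≫ π ∣_ W ≫ e'.hom)
  have hψ : Function.Injective ψ.hom := by
    have h1 : Flat (Spec.map ψ) := by rw [Spec.map_preimage]; infer_instance
    have h2 : Surjective (Spec.map ψ) := by rw [Spec.map_preimage]; infer_instance
    exact (RingHom.FaithfullyFlat.iff_flat_and_comap_surjective.2
      ⟨Flat.SpecMap_iff.1 h1, h2.surj⟩).injective
  have hc : CommRingCat.ofHom (algebraMap K C) ≫ ψ = CommRingCat.ofHom (algebraMap K B) := by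
    apply Spec.map_injective
    rw [Spec.map_comp, Spec.map_preimage, ← cancel_epi e.hom, he]
    simp only [Category.assoc, Iso.hom_inv_id_assoc, he', morphismRestrict_ι_assoc]
  let g : C →ₐ[K] B := { ψ.hom with commutes' := fun r => congr($hc r) }
  have : Function.Injective g.toLinearMap := hψ
  exact ⟨Module.Finite.of_injective g.toLinearMap this,
    (LinearMap.finrank_le_finrank_of_injective this).trans hle⟩

theorem finLE_of_fieldExt {L : Type u} [Field L] {P : Scheme.{u}} {a : P ⟶ T}
    {b : P ⟶ Spec (CommRingCat.of L)} {c : T ⟶ Spec (CommRingCat.of K)}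
    {φ : Spec (CommRingCat.of L) ⟶ Spec (CommRingCat.of K)} (sq : IsPullback a b c φ)
    (h : FinLE n b) : FinLE n c := by
  obtain ⟨_, _⟩ := h.discrete
  let := (Spec.preimage φ).hom.toAlgebra
  have hφ : φ = Spec.map (CommRingCat.ofHom (algebraMap K L)) := (Spec.map_preimage φ).symm
  have : Surjective φ := ⟨fun x => ⟨IsLocalRing.closedPoint L,
    @Subsingleton.elim _ (inferInstanceAs (Subsingleton (PrimeSpectrum K))) _ _⟩⟩
  have : Surjective a := MorphismProperty.of_isPullback sq.flip ‹Surjective φ›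
  have : Finite T := Finite.of_surjective _ a.surjective
  refine finLE_of_forall_affine fun W hW => ?_
  have : IsAffine W.toScheme := hW
  obtain ⟨C, _, _, e', he'⟩ := exists_spec_form (W.ι ≫ c)
  rw [← he', finLE_iso_comp_iff, finLE_spec_iff]
  rw [hφ] at sq
  have s1 := (IsPullback.of_hasPullback W.ι a).flip
  have s2 : IsPullback (pullback.fst W.ι a) (pullback.snd W.ι a ≫ b) (W.ι ≫ c)
      (Spec.map (CommRingCat.ofHom (algebraMap K L))) :=
    (s1.flip.paste_vert sq)
  have s3 : IsPullback (pullback.fst W.ι a ≫ e'.hom) (pullback.snd W.ι a ≫ b)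
      (Spec.map (CommRingCat.ofHom (algebraMap K C))) (Spec.map (CommRingCat.ofHom (algebraMap K L))) :=
    s2.of_iso (Iso.refl _) e' (Iso.refl _) (Iso.refl _) (by simp) (by simp) (by simp [he']) (by simp)
  have hb : FinLE n (pullback.snd W.ι a ≫ b) := h.openImmersion _
  let ε : pullback W.ι a ≅ Spec (CommRingCat.of (L ⊗[K] C)) :=
    s3.flip.isoPullback ≪≫ pullbackSpecIso K L C
  have hε : ε.hom ≫ Spec.map (CommRingCat.ofHom (algebraMap L (L ⊗[K] C))) =
      pullback.snd W.ι a ≫ b := by
    simp [ε, ← pullbackSpecIso_inv_fst']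
  rw [← hε, finLE_iso_comp_iff, finLE_spec_iff, Module.finrank_baseChange] at hb
  have := hb.1
  exact ⟨Module.Finite.of_finite_tensorProduct_of_faithfullyFlat L, hb.2⟩

/-- Degrees multiply in towers. -/
theorem finLE_comp {T' : Scheme.{u}} {f : T' ⟶ Spec (CommRingCat.of K)} (hf : FinLE m f)
    (g : T ⟶ T')
    (hg : ∀ (L : Type u) [Field L] (x : Spec (CommRingCat.of L) ⟶ T'),
      FinLE n (pullback.snd g x)) : FinLE (n * m) (g ≫ f) := by
  have := hf.isAffine
  obtain ⟨A, _, _, e, rfl, hA, hAle⟩ := exists_spec_form' hf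
  have : IsArtinianRing A := IsArtinianRing.of_finite K A
  let x : ∀ p : MaximalSpectrum A, Spec (CommRingCat.of (A ⧸ p.asIdeal)) ⟶ T' := fun p =>
    Spec.map (CommRingCat.ofHom (algebraMap A (A ⧸ p.asIdeal))) ≫ e.inv
  have hfib : ∀ p : MaximalSpectrum A, @FinLE (A ⧸ p.asIdeal) (Ideal.Quotient.field _) (pullback g (x p)) n
      (pullback.snd g (x p)) := fun p =>
    @hg (A ⧸ p.asIdeal) (Ideal.Quotient.field _) (x p)
  have : Finite T := by
    have : ∀ p, Finite (pullback g (x p) : Scheme) := fun p =>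
      (@FinLE.discrete _ (Ideal.Quotient.field _) _ _ _ (hfib p)).1
    refine Finite.of_surjective (fun z : Σ p, (pullback g (x p) : Scheme) =>
      pullback.fst g (x z.1) z.2) fun t => ?_
    let p := IsArtinianRing.primeSpectrumEquivMaximalSpectrum (e.hom (g t))
    have hs : x p (⟨⊥, (Ideal.Quotient.field p.asIdeal |> fun _ => Ideal.isPrime_bot)⟩ :
        PrimeSpectrum (A ⧸ p.asIdeal)) = g t := by
      apply e.hom.homeomorph.injective
      change (x p ≫ e.hom) _ = e.hom (g t)
      rw [show x p ≫ e.hom = Spec.map (CommRingCat.ofHom (algebraMap A (A ⧸ p.asIdeal))) by simp [x]]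
      refine PrimeSpectrum.ext ?_
      change Ideal.comap _ (⊥ : Ideal (A ⧸ p.asIdeal)) = _
      rw [← RingHom.ker_eq_comap_bot]
      exact Ideal.mk_ker
    obtain ⟨z, hz, -⟩ := Scheme.Pullback.exists_preimage_pullback (f := g) (g := x p) t _ hs.symm
    exact ⟨⟨p, z⟩, hz⟩
  refine finLE_of_forall_affine fun W hW => ?_
  have : IsAffine W.toScheme := hW
  obtain ⟨B, _, _, e', he'⟩ := exists_spec_form (W.ι ≫ g ≫ e.hom)
  let algK : Algebra K B := ((algebraMap A B).comp (algebraMap K A)).toAlgebra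
  have : IsScalarTower K A B := IsScalarTower.of_algebraMap_eq fun _ => rfl
  have he'' : e'.hom ≫ Spec.map (CommRingCat.ofHom (algebraMap K B)) =
      W.ι ≫ g ≫ e.hom ≫ Spec.map (CommRingCat.ofHom (algebraMap K A)) := by
    rw [show CommRingCat.ofHom (algebraMap K B) =
      CommRingCat.ofHom (algebraMap K A) ≫ CommRingCat.ofHom (algebraMap A B) from rfl,
      Spec.map_comp, reassoc_of% he']
  rw [← he'', finLE_iso_comp_iff, finLE_spec_iff]
  suffices H : ∀ (p : Ideal A) [p.IsMaximal], Module.Finite (A ⧸ p) ((A ⧸ p) ⊗[A] B) ∧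
      Module.finrank (A ⧸ p) ((A ⧸ p) ⊗[A] B) ≤ n from
    have h := finrank_le_of_forall_fibre K (A := A) (M := B) n H
    ⟨h.1, h.2.trans (Nat.mul_le_mul_left n hAle)⟩
  intro p hp
  let pm : MaximalSpectrum A := ⟨p, hp⟩
  let : Field (A ⧸ p) := Ideal.Quotient.field p
  have hq := hfib pm
  have s1 := (IsPullback.of_hasPullback W.ι (pullback.fst g (x pm)))
  have s2 : IsPullback (pullback.fst W.ι (pullback.fst g (x pm)))
      (pullback.snd W.ι (pullback.fst g (x pm)) ≫ pullback.snd g (x pm)) (W.ι ≫ g) (x pm) :=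
    s1.paste_vert (IsPullback.of_hasPullback g (x pm))
  have s3 : IsPullback (pullback.fst W.ι (pullback.fst g (x pm)) ≫ e'.hom)
      (pullback.snd W.ι (pullback.fst g (x pm)) ≫ pullback.snd g (x pm))
      (Spec.map (CommRingCat.ofHom (algebraMap A B)))
      (Spec.map (CommRingCat.ofHom (algebraMap A (A ⧸ p)))) :=
    s2.of_iso (Iso.refl _) e' (Iso.refl _) e (by simp) (by simp)
      (by simp [he'])
      (by simp [x, pm])
  let ε : pullback W.ι (pullback.fst g (x pm)) ≅
      Spec (CommRingCat.of ((A ⧸ p) ⊗[A] B)) :=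
    s3.flip.isoPullback ≪≫ pullbackSpecIso A (A ⧸ p) B
  have hε : ε.hom ≫ Spec.map (CommRingCat.ofHom (algebraMap (A ⧸ p) ((A ⧸ p) ⊗[A] B))) =
      pullback.snd W.ι (pullback.fst g (x pm)) ≫ pullback.snd g (x pm) := by
    simp [ε, ← pullbackSpecIso_inv_fst']
  have hb := hq.openImmersion (pullback.snd W.ι (pullback.fst g (x pm)))
  rw [← hε, finLE_iso_comp_iff, finLE_spec_iff] at hb
  exact hb

end Groth.Agent.AlgSpDecent
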