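import Mathlib.RingTheory.TensorProduct.Quotient
import Mathlib.RingTheory.Artinian.Ring
import Mathlib.LinearAlgebra.Dimension.Free
import Mathlib.LinearAlgebra.Dimension.Constructions
import Mathlib.LinearAlgebra.Basis.VectorSpace

/-!
# Degrees of modules over finite algebras over a field
-/

universe u v w

open TensorProduct

namespace Groth.Agent.AlgSpDecent

/-- A module over an artinian ring whose reductions modulo all maximal ideals are generated by `n`
elements is generated by `n` elements. -/
theorem exists_surjective_pi_of_artinian {A : Type u} [CommRing A] [IsArtinianRing A] {M : Type v}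
    [AddCommGroup M] [Module A M] (n : ℕ)
    (h : ∀ m : MaximalSpectrum A, ∃ b : Fin n → M,
      Submodule.span A (Set.range b) ⊔ m.asIdeal • (⊤ : Submodule A M) = ⊤) :
    ∃ f : (Fin n → A) →ₗ[A] M, Function.Surjective f := by
  classical
  choose b hb using h
  have : Fintype (MaximalSpectrum A) := Fintype.ofFinite _
  have he : ∀ m : MaximalSpectrum A, ∃ e : A,
      e - 1 ∈ m.asIdeal ∧ ∀ m' : MaximalSpectrum A, m' ≠ m → e ∈ m'.asIdeal := by
    intro m
    obtain ⟨e, he⟩ := Ideal.exists_forall_sub_mem_ideal (I := fun m : MaximalSpectrum A => m.asIdeal)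
      (fun i j hij => MaximalSpectrum.isCoprime_of_ne hij) (fun m' => if m' = m then 1 else 0)
    exact ⟨e, by simpa using he m, fun m' hm' => by simpa [hm'] using he m'⟩
  choose e he1 he0 using he
  let c : Fin n → M := fun i => ∑ m, e m • b m i
  let N := Submodule.span A (Set.range c)
  have hN : ∀ m : MaximalSpectrum A, N ⊔ m.asIdeal • (⊤ : Submodule A M) = ⊤ := by
    intro m
    refine eq_top_iff.2 ((hb m).ge.trans (sup_le (Submodule.span_le.2 ?_) le_sup_right))
    rintro _ ⟨i, rfl⟩
    have : c i - b m i ∈ m.asIdeal • (⊤ : Submodule A M) := by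
      have : c i - b m i = (e m - 1) • b m i + ∑ m' ∈ Finset.univ.erase m, e m' • b m' i := by
        simp only [c, ← Finset.add_sum_erase _ _ (Finset.mem_univ m), sub_smul, one_smul]
        abel
      rw [this]
      refine add_mem (Submodule.smul_mem_smul (he1 m) trivial) (Submodule.sum_mem _ fun m' hm' =>
        Submodule.smul_mem_smul (he0 m' m (Finset.ne_of_mem_erase hm').symm) trivial)
    rw [show b m i = c i - (c i - b m i) by abel]
    exact Submodule.sub_mem_sup (Submodule.subset_span ⟨i, rfl⟩) this
  have hprod : ∀ s : Finset (MaximalSpectrum A),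
      N ⊔ (∏ m ∈ s, m.asIdeal) • (⊤ : Submodule A M) = ⊤ := by
    intro s
    induction s using Finset.induction_on with
    | empty => simp
    | @insert m s hm ih =>
      rw [Finset.prod_insert hm, Submodule.mul_smul]
      refine eq_top_iff.2 ((hN m).ge.trans (sup_le le_sup_left ?_))
      calc m.asIdeal • (⊤ : Submodule A M)
          = m.asIdeal • (N ⊔ (∏ m ∈ s, m.asIdeal) • (⊤ : Submodule A M)) := by rw [ih]
        _ ≤ _ := by
          rw [Submodule.smul_sup]
          exact sup_le_sup Submodule.smul_le_right le_rfl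
  let P : Ideal A := ∏ m : MaximalSpectrum A, m.asIdeal
  have hP : P ≤ Ideal.jacobson ⊥ := le_sInf fun I hI =>
    Ideal.prod_le_inf.trans (Finset.inf_le (Finset.mem_univ (⟨I, hI.2⟩ : MaximalSpectrum A)))
  obtain ⟨k, hk⟩ := IsArtinianRing.isNilpotent_jacobson_bot (R := A)
  have hpow : ∀ j : ℕ, N ⊔ P ^ j • (⊤ : Submodule A M) = ⊤ := by
    intro j
    induction j with
    | zero => simp
    | succ j ih =>
      rw [pow_succ', Submodule.mul_smul]
      refine eq_top_iff.2 ((hprod Finset.univ).ge.trans (sup_le le_sup_left ?_))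
      calc P • (⊤ : Submodule A M) = P • (N ⊔ P ^ j • (⊤ : Submodule A M)) := by rw [ih]
        _ ≤ _ := by
          rw [Submodule.smul_sup]
          exact sup_le_sup Submodule.smul_le_right le_rfl
  have hP0 : P ^ k = ⊥ := eq_bot_iff.2 ((Ideal.pow_right_mono hP k).trans hk.le)
  refine ⟨Fintype.linearCombination A c, LinearMap.range_eq_top.1 ?_⟩
  rw [Fintype.range_linearCombination]
  simpa [hP0] using hpow k

/-- The degree of an algebra over a finite algebra over a field is bounded by the product of the
degree of the base and the degrees of the fibres. -/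
theorem finrank_le_of_forall_fibre (K : Type u) [Field K] {A : Type v} [CommRing A] [Algebra K A]
    [Module.Finite K A] {M : Type w} [AddCommGroup M] [Module A M] [Module K M] [IsScalarTower K A M]
    (n : ℕ) (h : ∀ (m : Ideal A) [m.IsMaximal], Module.Finite (A ⧸ m) ((A ⧸ m) ⊗[A] M) ∧
      Module.finrank (A ⧸ m) ((A ⧸ m) ⊗[A] M) ≤ n) :
    Module.Finite K M ∧ Module.finrank K M ≤ n * Module.finrank K A := by
  have : IsArtinianRing A := IsArtinianRing.of_finite K A
  obtain ⟨f, hf⟩ := exists_surjective_pi_of_artinian (A := A) (M := M) n fun m => by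
    obtain ⟨hfin, hle⟩ := h m.asIdeal
    let : Field (A ⧸ m.asIdeal) := Ideal.Quotient.field _
    have : Module.Free (A ⧸ m.asIdeal) ((A ⧸ m.asIdeal) ⊗[A] M) :=
      @Module.Free.of_divisionRing (A ⧸ m.asIdeal) _ (Ideal.Quotient.field m.asIdeal).toDivisionRing _ _
    let B := Module.finBasis (A ⧸ m.asIdeal) ((A ⧸ m.asIdeal) ⊗[A] M)
    let g : M →ₗ[A] (A ⧸ m.asIdeal) ⊗[A] M := TensorProduct.mk A _ _ 1
    have hg : Function.Surjective g := TensorProduct.mk_surjective A M _ Ideal.Quotient.mk_surjective
    choose x hx using fun i => hg (B i)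
    refine ⟨fun i => if hi : (i : ℕ) < Module.finrank (A ⧸ m.asIdeal) ((A ⧸ m.asIdeal) ⊗[A] M) then
      x ⟨i, hi⟩ else 0, eq_top_iff.2 fun y _ => ?_⟩
    choose r hr using fun i => Ideal.Quotient.mk_surjective (B.repr (g y) i)
    have hy : g (y - ∑ i, r i • x i) = 0 := by
      rw [map_sub, map_sum, sub_eq_zero]
      conv_lhs => rw [← B.sum_repr (g y)]
      refine Finset.sum_congr rfl fun i _ => ?_
      rw [map_smul, hx, ← hr i]
      exact algebraMap_smul (A ⧸ m.asIdeal) (r i) (B i)
    have hy' : y - ∑ i, r i • x i ∈ m.asIdeal • (⊤ : Submodule A M) := by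
      have := congrArg (TensorProduct.quotTensorEquivQuotSMul M m.asIdeal) hy
      rw [map_zero] at this
      exact (Submodule.Quotient.mk_eq_zero _).1 (by simpa [g] using this)
    rw [← sub_add_cancel y (∑ i, r i • x i)]
    refine add_mem (Submodule.mem_sup_right hy') (Submodule.mem_sup_left
      (Submodule.sum_mem _ fun i _ => Submodule.smul_mem _ _ (Submodule.subset_span
        ⟨⟨i, lt_of_lt_of_le i.2 hle⟩, by simp⟩)))
  have : Module.Finite K (Fin n → A) := inferInstance
  refine ⟨Module.Finite.of_surjective (f.restrictScalars K) hf, ?_⟩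
  refine (LinearMap.finrank_le_finrank_of_surjective (f := f.restrictScalars K) hf).trans ?_
  rw [Module.finrank_pi_fintype K]
  simp

end Groth.Agent.AlgSpDecent
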