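import Groth.Agent.Lib.AlgSpDecent.FiniteMin
import Groth.Agent.Lib.AlgSpace.DiagChart
import Groth.Agent.Lib.AlgSpace.Affine
import Groth.Agent.Lib.AlgSpace.QC

/-!
# Finiteness over a neighbourhood of a minimal point

A quasi-separated finite type morphism from an algebraic space to an affine scheme which is
quasi-finite over a point without generalisations is finite over a neighbourhood of that point.
-/

universe u

set_option backward.isDefEq.respectTransparency.types false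

open CategoryTheory CategoryTheory.Limits AlgebraicGeometry AlgSp Opposite Topology
open Groth.Agent.AlgSpace

namespace Groth.Agent.AlgSpDecent

/-- The point is isolated in its fibre. -/
def IsoIn {X Y : Scheme.{u}} (f : X ⟶ Y) (x : X) : Prop :=
  ∃ O : Set X, IsOpen O ∧ x ∈ O ∧ ∀ x' ∈ O, f x' = f x → x' = x

theorem isoIn_of_lqf {X Y : Scheme.{u}} (f : X ⟶ Y) [LocallyQuasiFinite f] (x : X) : IsoIn f x := by
  have hd := f.isDiscrete_preimage_singleton (f x)
  obtain ⟨O, hO, hxO⟩ := isDiscrete_iff_forall_exists_isOpen.1 hd x rfl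
  refine ⟨O, hO, (hxO.ge rfl).1, fun x' h e => ?_⟩
  have : x' ∈ O ∩ f ⁻¹' {f x} := ⟨h, e⟩
  rw [hxO] at this
  exact this

theorem IsoIn.comp {X Y Z : Scheme.{u}} {f : X ⟶ Y} {g : Y ⟶ Z} {x : X} (hf : IsoIn f x)
    (hg : IsoIn g (f x)) : IsoIn (f ≫ g) x := by
  obtain ⟨O, hO, hx, h⟩ := hf
  obtain ⟨O', hO', hx', h'⟩ := hg
  refine ⟨O ∩ f ⁻¹' O', hO.inter (hO'.preimage f.continuous), ⟨hx, hx'⟩, fun x' hm e => ?_⟩
  exact h x' hm.1 (h' _ hm.2 e)

theorem IsoIn.of_comp {X Y Z : Scheme.{u}} {f : X ⟶ Y} {g : Y ⟶ Z} {x : X}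
    (h : IsoIn (f ≫ g) x) : IsoIn f x := by
  obtain ⟨O, hO, hx, h⟩ := h
  exact ⟨O, hO, hx, fun x' hm e => h x' hm (congrArg g e)⟩

theorem IsoIn.of_isOpenMap {X Y Z : Scheme.{u}} {f : X ⟶ Y} {g : Y ⟶ Z} {x : X} (hf : IsOpenMap f)
    (h : IsoIn (f ≫ g) x) : IsoIn g (f x) := by
  obtain ⟨O, hO, hx, h⟩ := h
  refine ⟨f '' O, hf O hO, ⟨x, hx, rfl⟩, ?_⟩
  rintro _ ⟨x', hm, rfl⟩ e
  rw [h x' hm e]

theorem quasiFiniteAt_of_isoIn {X Y : Scheme.{u}} (f : X ⟶ Y) [LocallyOfFiniteType f] {x : X}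
    (h : IsoIn f x) : f.QuasiFiniteAt x := by
  obtain ⟨O, hO, hx, h⟩ := h
  rw [Scheme.Hom.quasiFiniteAt_iff_isOpen_singleton_asFiber,
    ← (f.fiberHomeo (f x)).isOpen_image, Set.image_singleton]
  have : f.fiberHomeo (f x) (f.asFiber x) = ⟨x, rfl⟩ := by simp [Scheme.Hom.asFiber]
  rw [this]
  convert hO.preimage (continuous_subtype_val (p := fun z => z ∈ f ⁻¹' {f x})) using 1
  ext ⟨z, hz⟩
  constructor
  · intro e
    rw [Set.mem_singleton_iff, Subtype.mk.injEq] at e
    exact show z ∈ O from e ▸ hx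
  · intro hm
    exact Subtype.ext (h z hm hz)

/-- Restricting a finite morphism to a smaller open. -/
theorem isFinite_restrict_mono {X Y : Scheme.{u}} (f : X ⟶ Y) {N Q : Y.Opens} (h : IsFinite (f ∣_ N))
    (hQN : Q ≤ N) : IsFinite (f ∣_ Q) := by
  have h := IsZariskiLocalAtTarget.restrict (P := @IsFinite) h (N.ι ⁻¹ᵁ Q)
  rwa [MorphismProperty.arrow_mk_iso_iff @IsFinite (morphismRestrictRestrict f N (N.ι ⁻¹ᵁ Q)),
    show N.ι ''ᵁ (N.ι ⁻¹ᵁ Q) = Q by
      rw [Scheme.Hom.image_preimage_eq_opensRange_inf, Scheme.Opens.opensRange_ι,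
        inf_eq_right.2 hQN]] at h

/-- A separated finite type morphism which is quasi-finite over a minimal point is finite over an
affine neighbourhood of it inside any given neighbourhood. -/
theorem exists_affine_isFinite_restrict {W V : Scheme.{u}} (f : W ⟶ V) [LocallyOfFiniteType f]
    [IsSeparated f] [QuasiCompact f] {v : V} (hv : ∀ v', v' ⤳ v → v' = v) (N : V.Opens) (hvN : v ∈ N)
    (hqf : ∀ w, f w = v → IsoIn f w) :
    ∃ Q : V.Opens, IsAffineOpen Q ∧ v ∈ Q ∧ Q ≤ N ∧ IsFinite (f ∣_ Q) := by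
  let O := f.quasiFiniteLocus
  let K : Set W := (O : Set W)ᶜ
  have hvK : v ∉ closure (f '' K) := by
    intro hmem
    have hK : IsClosed K := O.isOpen.isClosed_compl
    let Z : Scheme.{u} := (Scheme.IdealSheafData.vanishingIdeal ⟨K, hK⟩).subscheme
    let i : Z ⟶ W := (Scheme.IdealSheafData.vanishingIdeal ⟨K, hK⟩).subschemeι
    have hrange : Set.range i = K := by
      rw [Scheme.IdealSheafData.range_subschemeι, Scheme.IdealSheafData.coe_support_vanishingIdeal]
      rfl
    have e : Set.range (i ≫ f) = f '' K := by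
      rw [← hrange, ← Set.range_comp]
      rfl
    obtain ⟨z, hz⟩ := exists_specializes_of_mem_closure_range (i ≫ f) (e ▸ hmem)
    have hfz : f (i z) = v := hv _ hz
    exact (hrange.le ⟨z, rfl⟩ : i z ∈ K) (quasiFiniteAt_of_isoIn f (hqf _ hfz))
  let N' : V.Opens := N ⊓ ⟨(closure (f '' K))ᶜ, isClosed_closure.isOpen_compl⟩
  have hvN' : v ∈ N' := ⟨hvN, hvK⟩
  have : LocallyQuasiFinite (f ∣_ N') := by
    rw [← Scheme.Hom.quasiFiniteLocus_eq_top_iff, eq_top_iff]
    intro w _
    have hw : w.1 ∈ O := by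
      by_contra h
      exact (w.2 : f w.1 ∈ N').2 (subset_closure ⟨w.1, h, rfl⟩)
    rw [Scheme.Hom.mem_quasiFiniteLocus, ← Scheme.Hom.quasiFiniteAt_comp_iff (g := N'.ι),
      morphismRestrict_ι]
    exact Scheme.Hom.quasiFiniteAt_comp_iff_of_isOpenImmersion.2 hw
  obtain ⟨M, hvM, hM⟩ := exists_isFinite_restrict_of_isMin (f ∣_ N') (u := ⟨v, hvN'⟩)
    fun u' hu' => Subtype.ext (hv _ (hu'.map continuous_subtype_val))
  have hfin : IsFinite (f ∣_ (N'.ι ''ᵁ M)) :=
    (MorphismProperty.arrow_mk_iso_iff @IsFinite (morphismRestrictRestrict f N' M)).1 hM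
  obtain ⟨Q, hQ, hvQ, hQM⟩ := exists_isAffineOpen_mem_and_subset (X := V) (x := v)
    (U := N'.ι ''ᵁ M) ⟨⟨v, hvN'⟩, hvM, rfl⟩
  refine ⟨Q, hQ, hvQ, fun x hx => ?_, isFinite_restrict_mono f hfin hQM⟩
  obtain ⟨⟨y, hy⟩, -, rfl⟩ := hQM hx
  exact hy.1

variable {S : Scheme.{u}}

theorem map_ofPt {F G : Sp S} (f : F ⟶ G) {U : Over S} (a : (yon S).obj U ⟶ F) (u : ↥U.left) :
    Points.map f (Points.ofPt a u) = Points.ofPt (a ≫ f) u := by
  rw [Points.ofPt_eq_map_ofScheme, Points.ofPt_eq_map_ofScheme, Points.map_comp]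

variable {P : Sp S} {V : Over S}

/-- A chart and relation finite over an affine open give a square with a finite side. -/
theorem exists_finite_square [IsAffine V.left] (q : P ⟶ (yon S).obj V)
    (hft : LocP @LocallyOfFiniteType q) {W R : Over S} [IsAffine W.left] {φ : (yon S).obj W ⟶ P}
    {k : W ⟶ V} {s t : R ⟶ W} (hφe : RepWith @Etale φ) (hφs : RepWith @Surjective φ)
    (hk : (yon S).map k = φ ≫ q) (sq : IsPullback ((yon S).map t) ((yon S).map s) φ φ)
    (Q : V.left.Opens) (hQ : IsAffineOpen Q) (hkQ : IsFinite (k.left ∣_ Q))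
    (hsO : IsFinite (s.left ∣_ (k.left ⁻¹ᵁ Q))) :
    ∃ (Pf : Sp S) (fst : Pf ⟶ P) (snd : Pf ⟶ (yon S).obj (Over.mk (Q.ι ≫ V.hom))),
      IsPullback fst snd q ((yon S).map (Over.homMk Q.ι rfl : Over.mk (Q.ι ≫ V.hom) ⟶ V)) ∧
      IsFiniteMor snd := by
  have : Etale s.left := hφe.2 φ _ _ sq
  let O : W.left.Opens := k.left ⁻¹ᵁ Q
  have : IsFinite (s.left ∣_ O) := hsO
  have : IsAffine Q.toScheme := hQ
  have hO : IsAffineOpen O := by
    have : IsAffineHom (k.left ∣_ Q) := inferInstance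
    exact isAffine_of_isAffineHom (k.left ∣_ Q)
  have hpt : ∀ w, Points.map q (Points.ofPt φ w) = Points.ofScheme V (k.left w) := fun w => by
    rw [map_ofPt, ← hk, ofPt_map_eq]
  have hinv : ∀ w w', Points.ofPt φ w' = Points.ofPt φ w → w ∈ O → w' ∈ O := fun w w' e hw => by
    have := congrArg (Points.map q) e
    rw [hpt, hpt] at this
    show k.left w' ∈ Q
    rw [(Points.schemeEquiv V).injective this]
    exact hw
  obtain ⟨Y, hY, ⟨e⟩⟩ := exists_affine_iso_openSub_of_invariant hφe sq O hO hinv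
  let G := Points.ofPt φ '' (O : Set W.left)
  have hG : IsOpen G := isOpenMap_ofPt φ hφe _ O.isOpen
  let VQ : Over S := Over.mk (Q.ι ≫ V.hom)
  let ιQ : VQ ⟶ V := Over.homMk Q.ι rfl
  have : IsOpenImmersion ιQ.left := inferInstanceAs (IsOpenImmersion Q.ι)
  have : Mono ιQ := (Over.forget S).mono_of_mono_map (inferInstanceAs (Mono Q.ι))
  let g := e.hom ≫ openSubι G
  have hgr : Set.range (Points.map g) = G := by
    rw [show Points.map g = Points.map (openSubι G) ∘ Points.map e.hom from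
      funext (Points.map_comp e.hom (openSubι G)), Set.range_comp,
      (bijective_map_iso e.hom).2.range_eq, Set.image_univ, range_openSubι]
  have : Mono g := inferInstance
  obtain ⟨m₀, hm₀⟩ := (yon S).map_surjective (g ≫ q)
  have hm₀Q : ∀ y, m₀.left y ∈ Q := fun y => by
    obtain ⟨w, hw, hwy⟩ : Points.map g (Points.ofScheme Y y) ∈ G := hgr.le ⟨_, rfl⟩
    have := congrArg (Points.map q) hwy
    rw [hpt, ← Points.map_comp, ← hm₀, ← Points.ofPt_eq_map_ofScheme, ofPt_map_eq] at this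
    rw [← (Points.schemeEquiv V).injective this]
    exact hw
  let m : Y ⟶ VQ := Over.homMk
    (IsOpenImmersion.lift Q.ι m₀.left (by rintro _ ⟨y, rfl⟩; rw [Q.range_ι]; exact hm₀Q y))
    (by
      change _ ≫ Q.ι ≫ V.hom = _
      rw [IsOpenImmersion.lift_fac_assoc, Over.w m₀])
  have hm : m ≫ ιQ = m₀ := Over.OverMorphism.ext (IsOpenImmersion.lift_fac _ _ _)
  have sqP : IsPullback g ((yon S).map m) q ((yon S).map ιQ) := by
    have lift : ∀ {T : Sp S} (a : T ⟶ P) (b : T ⟶ (yon S).obj VQ), a ≫ q = b ≫ (yon S).map ιQ →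
        ∃ l : T ⟶ (yon S).obj Y, l ≫ g = a := fun {T} a b w => by
      obtain ⟨l, hl⟩ := exists_factor_openSub (W := G) a (by
        rintro _ ⟨x, rfl⟩
        obtain ⟨z, hz⟩ := surjective_ofPt hφs (Points.map a x)
        refine ⟨z, ?_, hz⟩
        have h1 := congrArg (Points.map q) hz
        rw [hpt, ← Points.map_comp, w, Points.map_comp] at h1
        obtain ⟨z', hz'⟩ := (Points.schemeEquiv VQ).surjective (Points.map b x)
        rw [← hz'] at h1
        change _ = Points.map ((yon S).map ιQ) (Points.ofScheme VQ z') at h1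
        rw [← Points.ofPt_eq_map_ofScheme, ofPt_map_eq] at h1
        show k.left z ∈ Q
        rw [(Points.schemeEquiv V).injective h1]
        exact z'.2)
      exact ⟨l ≫ e.inv, by simp [g, hl]⟩
    choose l hl using fun (c : PullbackCone q ((yon S).map ιQ)) => lift c.fst c.snd c.condition
    refine ⟨⟨by rw [← hm₀, ← hm, Functor.map_comp]⟩, ⟨PullbackCone.IsLimit.mk _ l hl (fun c => ?_)
      fun c n h₁ h₂ => ?_⟩⟩
    · rw [← cancel_mono ((yon S).map ιQ), Category.assoc, ← Functor.map_comp, hm, hm₀,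
        ← c.condition, ← Category.assoc, hl]
    · rw [← cancel_mono g, h₁, hl]
  refine ⟨_, g, (yon S).map m, sqP, isFiniteMor_iff_repWith.2 ((repWith_yon_map_iff _ _).2 ?_)⟩
  -- the affine scheme `Y` is finite over `Q`
  let WO : Over S := Over.mk (O.ι ≫ W.hom)
  let ιO : WO ⟶ W := Over.homMk O.ι rfl
  obtain ⟨π', hπ'⟩ := exists_factor_openSub (W := G) ((yon S).map ιO ≫ φ) (by
    rintro _ ⟨x, rfl⟩
    obtain ⟨z, rfl⟩ := (Points.schemeEquiv WO).surjective x
    change Points.map _ (Points.ofScheme WO z) ∈ _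
    rw [← Points.ofPt_eq_map_ofScheme, ofPt_map_comp]
    exact ⟨_, z.2, rfl⟩)
  obtain ⟨π, hπ⟩ := (yon S).map_surjective (π' ≫ e.inv)
  have hπg : (yon S).map π ≫ g = (yon S).map ιO ≫ φ := by simp [hπ, g, hπ']
  have hπm : π ≫ m₀ = ιO ≫ k := (yon S).map_injective (by
    rw [Functor.map_comp, hm₀, ← Category.assoc, hπg, Category.assoc, ← hk, Functor.map_comp])
  have hginj : Function.Injective (Points.map g) := by
    rw [show Points.map g = Points.map (openSubι G) ∘ Points.map e.hom from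
      funext (Points.map_comp e.hom (openSubι G))]
    exact (injective_map_of_openImmersion (repWith_openSubι hG)).comp (bijective_map_iso e.hom).1
  have hsurj : Surjective π.left := ⟨fun y => by
    obtain ⟨w, hw, hwy⟩ : Points.map g (Points.ofScheme Y y) ∈ G := hgr.le ⟨_, rfl⟩
    refine ⟨⟨w, hw⟩, (Points.schemeEquiv Y).injective (hginj ?_)⟩
    refine Eq.trans ?_ hwy
    change Points.map g (Points.ofScheme Y (π.left ⟨w, hw⟩)) = _
    rw [← ofPt_map_eq π, map_ofPt, hπg, ofPt_map_comp]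
    rfl⟩
  have he : π.left ≫ m.left = k.left ∣_ Q := by
    rw [← cancel_mono Q.ι, morphismRestrict_ι, Category.assoc]
    show π.left ≫ m.left ≫ ιQ.left = ιO.left ≫ k.left
    rw [← Over.comp_left, hm, ← Over.comp_left, hπm, Over.comp_left]
  have hg : RepWith @Etale g := repWith_comp (MorphismProperty.of_isIso (RepWith (S := S) @Etale) e.hom)
    (repWith_mono (fun _ _ i (_ : IsOpenImmersion i) => inferInstanceAs (Etale i)) (repWith_openSubι hG))
  have : LocallyOfFiniteType m₀.left :=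
    hft g (𝟙 _) m₀ hg (repWith_id _ V) (by rw [hm₀, Category.comp_id])
  have : LocallyOfFiniteType (m.left ≫ ιQ.left) := by
    rw [← Over.comp_left, hm]; infer_instance
  have : LocallyOfFiniteType m.left := locallyOfFiniteType_of_comp m.left ιQ.left
  have : IsAffine VQ.left := hQ
  have : IsAffine Y.left := hY
  have : UniversallyClosed (π.left ≫ m.left) := by rw [he]; infer_instance
  have : UniversallyClosed m.left := UniversallyClosed.of_comp_surjective π.left m.left
  have : IsIntegralHom m.left :=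
    IsIntegralHom.iff_universallyClosed_and_isAffineHom.2 ⟨inferInstance, inferInstance⟩
  exact (IsFinite.iff_isIntegralHom_and_locallyOfFiniteType _).2 ⟨inferInstance, inferInstance⟩

/-- A quasi-separated finite type morphism onto an affine scheme is finite over a neighbourhood of a
minimal point over which it has finite fibres. -/
theorem exists_finite_over_min (hP : IsAlgSpace P) [IsAffine V.left] (q : P ⟶ (yon S).obj V)
    (hft : LocP @LocallyOfFiniteType q) (hqs : RepWith @QuasiCompact (pullback.diagonal q))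
    (hc : IsQuasiCompactSp P) {v : ↥V.left} (hv : ∀ v', v' ⤳ v → v' = v)
    (hqf : ∀ (W : Over S) (φ : (yon S).obj W ⟶ P) (k : W ⟶ V) (w : ↥W.left), RepWith @Etale φ →
      φ ≫ q = (yon S).map k → k.left w = v → IsoIn k.left w) :
    ∃ (Q : V.left.Opens) (Pf : Sp S) (fst : Pf ⟶ P)
      (snd : Pf ⟶ (yon S).obj (Over.mk (Q.ι ≫ V.hom))), v ∈ Q ∧
      IsPullback fst snd q ((yon S).map (Over.homMk Q.ι rfl : Over.mk (Q.ι ≫ V.hom) ⟶ V)) ∧
      IsFiniteMor snd := by
  obtain ⟨W, φ, hW, hφe, hφs⟩ := exists_affine_chart hc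
  obtain ⟨k, hk⟩ := (yon S).map_surjective (φ ≫ q)
  have hkl : LocallyOfFiniteType k.left := hft φ (𝟙 _) k hφe (repWith_id _ V) (by
    rw [hk, Category.comp_id])
  obtain ⟨Q₁, -, hvQ₁, -, hkfin⟩ := exists_affine_isFinite_restrict k.left hv ⊤ trivial
    fun w hw => hqf W φ k w hφe hk.symm hw
  obtain ⟨R, s, tf, sq⟩ := hφe.1 φ
  obtain ⟨t, rfl⟩ := (yon S).map_surjective tf
  have : Etale s.left := hφe.2 φ _ _ sq
  have := isSeparated_rel sq
  have := locallyQuasiFinite_of_etale s.left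
  have hts : t ≫ k = s ≫ k := (yon S).map_injective (by
    rw [Functor.map_comp, Functor.map_comp, hk, ← Category.assoc, sq.w, Category.assoc])
  -- quasi-compactness of the relation
  have : QuasiCompact s.left := by
    have hd := repWith_of_isPullback (isPullback_diagonal_chart q φ sq) hqs
    have sqk : IsPullback ((yon S).map (pullback.fst k k)) ((yon S).map (pullback.snd k k))
        (φ ≫ q) (φ ≫ q) := hk ▸ (IsPullback.of_hasPullback k k).map (yon S)
    have heq : pullback.lift ((yon S).map t) ((yon S).map s)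
          (by rw [← Category.assoc, sq.w, Category.assoc]) ≫ sqk.isoPullback.inv =
        (yon S).map (pullback.lift t s hts) := by
      rw [Iso.comp_inv_eq]
      apply pullback.hom_ext
      · rw [pullback.lift_fst, Category.assoc, IsPullback.isoPullback_hom_fst, ← Functor.map_comp,
          pullback.lift_fst]
      · rw [pullback.lift_snd, Category.assoc, IsPullback.isoPullback_hom_snd, ← Functor.map_comp,
          pullback.lift_snd]
    have h1 : QuasiCompact (pullback.lift t s hts).left := (repWith_yon_map_iff _ _).1 (by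
      rw [← heq]; exact (RepWith (S := S) @QuasiCompact).cancel_right_of_respectsIso _ _ |>.2 hd)
    have h2 : QuasiCompact (pullback.snd k k).left :=
      MorphismProperty.of_isPullback (P := @QuasiCompact)
        ((IsPullback.of_hasPullback k k).map (Over.forget S)) (inferInstanceAs (QuasiCompact k.left))
    rw [← pullback.lift_snd t s hts, Over.comp_left]
    infer_instance
  obtain ⟨Q, hQ, hvQ, hQQ₁, hrfin⟩ := exists_affine_isFinite_restrict (s.left ≫ k.left) hv Q₁ hvQ₁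
    fun r hr => (isoIn_of_lqf s.left r).comp (hqf W φ k _ hφe hk.symm hr)
  have hkQ : IsFinite (k.left ∣_ Q) := isFinite_restrict_mono _ hkfin hQQ₁
  let O : W.left.Opens := k.left ⁻¹ᵁ Q
  have : IsFinite (s.left ∣_ O) := by
    rw [morphismRestrict_comp] at hrfin
    have : IsFinite ((s.left ∣_ O) ≫ (k.left ∣_ Q)) := hrfin
    exact IsFinite.of_comp (s.left ∣_ O) (k.left ∣_ Q)
  obtain ⟨Pf, fst, snd, hsq, hfin⟩ := exists_finite_square q hft hφe hφs hk sq Q hQ hkQ inferInstance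
  exact ⟨Q, Pf, fst, snd, hvQ, hsq, hfin⟩

/-- A point isolated in its fibre on one etale diagram is isolated on every diagram. -/
theorem isoIn_of_diagram {X Y : Sp S} (hX : IsAlgSpace X) (hY : IsAlgSpace Y) {f : X ⟶ Y}
    {U₁ V₁ U₂ V₂ : Over S} {a₁ : (yon S).obj U₁ ⟶ X} {b₁ : (yon S).obj V₁ ⟶ Y} {h₁ : U₁ ⟶ V₁}
    {a₂ : (yon S).obj U₂ ⟶ X} {b₂ : (yon S).obj V₂ ⟶ Y} {h₂ : U₂ ⟶ V₂}
    (ha₁ : RepWith @Etale a₁) (hb₁ : RepWith @Etale b₁) (w₁ : a₁ ≫ f = (yon S).map h₁ ≫ b₁)
    (ha₂ : RepWith @Etale a₂) (hb₂ : RepWith @Etale b₂) (w₂ : a₂ ≫ f = (yon S).map h₂ ≫ b₂)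
    {u₁ : ↥U₁.left} {u₂ : ↥U₂.left} (e : Points.ofPt a₁ u₁ = Points.ofPt a₂ u₂)
    (h : IsoIn h₁.left u₁) : IsoIn h₂.left u₂ := by
  have sqU := ha₁.1.isPullback' a₂
  have sqV := hb₁.1.isPullback' b₂
  let e₁ := ha₁.1.fst' a₂
  let e₂ := ha₁.1.snd a₂
  let d₁ := hb₁.1.fst' b₂
  let d₂ := hb₁.1.snd b₂
  have : Etale e₂.left := ha₁.2 a₂ _ _ (ha₁.1.isPullback a₂)
  have : Etale e₁.left := ha₂.2 a₁ _ _ sqU.flip
  have : Etale d₂.left := hb₁.2 b₂ _ _ (hb₁.1.isPullback b₂)
  obtain ⟨z, hz₁, hz₂⟩ := exists_pt_of_isPullback sqU (x := Points.ofScheme U₁ u₁) (t := u₂)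
    (by rw [← Points.ofPt_eq_map_ofScheme]; exact e)
  rw [ofPt_map_eq] at hz₁
  obtain ⟨m, hm⟩ := (yon S).map_surjective (sqV.lift ((yon S).map (e₁ ≫ h₁))
    ((yon S).map (e₂ ≫ h₂)) (by
      rw [Functor.map_comp, Functor.map_comp, Category.assoc, Category.assoc, ← w₁, ← w₂,
        ← Category.assoc, sqU.w, Category.assoc]))
  have hm₁ : m ≫ d₁ = e₁ ≫ h₁ := (yon S).map_injective (by
    rw [Functor.map_comp, hm, sqV.lift_fst])
  have hm₂ : m ≫ d₂ = e₂ ≫ h₂ := (yon S).map_injective (by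
    rw [Functor.map_comp, hm, sqV.lift_snd])
  have := locallyQuasiFinite_of_etale e₁.left
  have := locallyQuasiFinite_of_etale d₂.left
  have h1 : IsoIn (m.left ≫ d₁.left) z := by
    rw [← Over.comp_left, hm₁, Over.comp_left]
    refine (isoIn_of_lqf e₁.left z).comp ?_
    rw [show e₁.left z = u₁ from (Points.schemeEquiv U₁).injective hz₁]
    exact h
  have h2 : IsoIn (m.left ≫ d₂.left) z := h1.of_comp.comp (isoIn_of_lqf d₂.left _)
  rw [← Over.comp_left, hm₂, Over.comp_left] at h2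
  rw [← hz₂]
  exact h2.of_isOpenMap e₂.left.isOpenMap

end Groth.Agent.AlgSpDecent
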