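import Groth.Agent.Lib.AlgSpDecent.Sober
import Groth.Agent.Lib.FpqcDesc.Basic
import Mathlib.AlgebraicGeometry.ZariskisMainTheorem

/-!
# Separated etale morphisms with finite fibres are finite over dense opens

Where the number of geometric points in the fibres of a separated etale morphism is locally
constant the morphism is finite: etale locally its source is a finite union of sections.
-/

universe u

set_option backward.isDefEq.respectTransparency.types false

open CategoryTheory CategoryTheory.Limits AlgebraicGeometry Topology Opposite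

namespace Groth.Agent.AlgSpDecent

/-- The fold map of finitely many copies of an affine scheme is finite. -/
theorem isFinite_sigma_desc_id {ι : Type u} [Finite ι] (A : CommRingCat.{u}) :
    IsFinite (Sigma.desc fun _ : ι => 𝟙 (Spec A)) := by
  let g : A ⟶ CommRingCat.of (ι → A) := CommRingCat.ofHom (Pi.ringHom fun _ => RingHom.id A)
  have h : (Sigma.desc fun _ : ι => 𝟙 (Spec A)) =
      sigmaSpec (fun _ : ι => A) ≫ Spec.map g := by
    refine Limits.Sigma.hom_ext _ _ fun i => ?_
    rw [Sigma.ι_desc, ι_sigmaSpec_assoc, ← Spec.map_comp,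
      show g ≫ CommRingCat.ofHom (Pi.evalRingHom _ i) = 𝟙 A from rfl, Spec.map_id]
  have : IsFinite (Spec.map g) := by
    rw [IsFinite.SpecMap_iff]
    have : Module.Finite A (ι → A) := inferInstance
    have hg : g.hom = algebraMap A (ι → A) := RingHom.ext fun _ => rfl
    rw [hg]
    exact RingHom.finite_algebraMap.2 this
  rw [h]
  infer_instance

/-- A tuple over an etale neighbourhood gives a tuple. -/
theorem mem_geLocus_of_baseChange {R U V : Scheme.{u}} {s : R ⟶ U} {g : V ⟶ U} [Etale g] {n : ℕ}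
    {v : V} (h : v ∈ geLocus (pullback.fst g s) n) : g v ∈ geLocus s n := by
  obtain ⟨T, w, rfl⟩ := h
  have := T.etale
  refine ⟨⟨T.V, T.v ≫ g, inferInstance, fun i => T.y i ≫ pullback.snd g s,
    fun i => by rw [Category.assoc, ← pullback.condition, reassoc_of% T.hy i], ?_⟩, w, rfl⟩
  intro i j hij Ω _ z hz
  refine T.distinct i j hij Ω z (pullback.hom_ext ?_ (by simpa using hz))
  rw [Category.assoc, Category.assoc, T.hy, T.hy]

/-- Where the number of geometric points is locally constant the morphism is finite. -/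
theorem isFinite_restrict_of_stratum {R U : Scheme.{u}} [U.IsSeparated] (s : R ⟶ U) [Etale s]
    [IsSeparated s] (n : ℕ) (Q : U.Opens) (hge : (Q : Set U) ⊆ geLocus s n)
    (hlt : Disjoint (Q : Set U) (geLocus s (n + 1))) : IsFinite (s ∣_ Q) := by
  have hloc : ∀ u : Q, ∃ N : U.Opens, u.1 ∈ N ∧ N ≤ Q ∧ IsFinite (s ∣_ N) := by
    rintro ⟨u, hu⟩
    obtain ⟨T, w, hw⟩ := hge hu
    obtain ⟨W, hW, hwW, -⟩ := exists_isAffineOpen_mem_and_subset (X := T.V) (x := w) (U := ⊤) trivial
    have := T.etale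
    obtain ⟨N, hN, huN, hNsub⟩ := exists_isAffineOpen_mem_and_subset (X := U) (x := u)
      (U := ⟨T.v '' W ∩ Q, (T.v.isOpenMap _ W.isOpen).inter Q.isOpen⟩) ⟨⟨w, hwW, hw⟩, hu⟩
    refine ⟨N, huN, fun x hx => (hNsub hx).2, ?_⟩
    -- the etale affine cover
    let g₀ : W.toScheme ⟶ U := W.ι ≫ T.v
    have : IsAffine W.toScheme := hW
    have : IsAffineHom (g₀ ≫ terminal.from U) := inferInstance
    have : IsAffineHom g₀ := IsAffineHom.of_comp g₀ (terminal.from U)
    let W' : W.toScheme.Opens := g₀ ⁻¹ᵁ N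
    have hW' : IsAffineOpen W' := hN.preimage g₀
    have : IsAffine W'.toScheme := hW'
    have : IsAffine N.toScheme := hN
    let π : W'.toScheme ⟶ N.toScheme := g₀ ∣_ N
    have : Surjective π := ⟨fun ⟨x, hx⟩ => by
      obtain ⟨⟨z, hz, hzx⟩, -⟩ := hNsub hx
      refine ⟨⟨⟨z, hz⟩, show g₀ ⟨z, hz⟩ ∈ N from (show g₀ ⟨z, hz⟩ = x from hzx) ▸ hx⟩, ?_⟩
      exact Subtype.ext ((morphismRestrict_base_coe g₀ N _).trans hzx)⟩
    let g : W'.toScheme ⟶ U := π ≫ N.ι
    have hg : g = W'.ι ≫ W.ι ≫ T.v := by simp [g, π, g₀, W']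
    have : Etale g := by rw [hg]; infer_instance
    let q : pullback g s ⟶ W'.toScheme := pullback.fst g s
    let σ : Fin n → (W'.toScheme ⟶ pullback g s) := fun i =>
      pullback.lift (𝟙 _) (W'.ι ≫ W.ι ≫ T.y i)
        (by rw [Category.id_comp, Category.assoc, Category.assoc, T.hy, hg])
    let T' : Tuple q n :=
      { V := W'.toScheme
        v := 𝟙 _
        etale := inferInstance
        y := σ
        hy := fun i => pullback.lift_fst _ _ _
        distinct := fun i j hij Ω _ z hz => T.distinct i j hij Ω (z ≫ W'.ι ≫ W.ι) (by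
          have := congrArg (· ≫ pullback.snd g s) hz
          simp only [σ, Category.assoc, pullback.lift_snd] at this
          simpa only [Category.assoc] using this) }
    have hσ : ∀ p, ∃ i, σ i (q p) = p := by
      intro p
      by_contra! h
      have hp := mem_geLocus_succ T' (w := q p) (r := p) rfl h
      refine Set.disjoint_left.1 hlt ?_ (mem_geLocus_of_baseChange hp)
      exact (hNsub (π (q p)).2).2
    let e : W'.toScheme ≅ Spec Γ(W'.toScheme, ⊤) := W'.toScheme.isoSpec
    let ψ : (∐ fun _ : ULift.{u} (Fin n) => Spec Γ(W'.toScheme, ⊤)) ⟶ pullback g s :=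
      Sigma.desc fun i => e.inv ≫ σ i.down
    have : Surjective ψ := ⟨fun p => by
      obtain ⟨i, hi⟩ := hσ p
      refine ⟨(Sigma.ι (fun _ : ULift.{u} (Fin n) => Spec Γ(W'.toScheme, ⊤)) ⟨i⟩) (e.hom (q p)), ?_⟩
      rw [← Scheme.Hom.comp_apply, ← Scheme.Hom.comp_apply, Sigma.ι_desc, e.hom_inv_id_assoc]
      exact hi⟩
    have hψ : ψ ≫ q = (Sigma.desc fun _ => 𝟙 _) ≫ e.inv := by
      refine Limits.Sigma.hom_ext _ _ fun i => ?_
      simp only [ψ, q, σ, Sigma.ι_desc_assoc, Category.assoc, pullback.lift_fst, Category.comp_id,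
        Category.id_comp]
    have := isFinite_sigma_desc_id (ι := ULift.{u} (Fin n)) Γ(W'.toScheme, ⊤)
    have : IsFinite (ψ ≫ q) := by rw [hψ]; infer_instance
    have : UniversallyClosed q := UniversallyClosed.of_comp_surjective ψ q
    have : CompactSpace ↥(pullback g s) := by
      rw [← isCompact_univ_iff, ← ψ.surjective.range_eq]
      exact isCompact_range ψ.continuous
    have : IsProper q := { }
    have := locallyQuasiFinite_of_etale q
    have hq : IsFinite q := IsFinite.of_isProper_of_locallyQuasiFinite q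
    have := FpqcDesc.descendsAlong_isFinite.{u}
    have hsq := IsPullback.of_hasPullback π (s ∣_ N)
    refine MorphismProperty.of_isPullback_of_descendsAlong
      (Q := (@Surjective ⊓ @Flat ⊓ @QuasiCompact : MorphismProperty Scheme.{u}))
      hsq ⟨⟨inferInstance, ?_⟩, inferInstance⟩ ?_
    · have : Flat g₀ := inferInstance
      exact IsZariskiLocalAtTarget.restrict (P := @Flat) this N
    · have h2 : IsPullback (pullback.fst π (s ∣_ N)) (pullback.snd π (s ∣_ N) ≫ (s ⁻¹ᵁ N).ι) g s :=
        (hsq.flip.paste_horiz (isPullback_morphismRestrict s N).flip).flip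
      rw [← h2.isoPullback_hom_fst]
      infer_instance
  choose N huN hNQ hfin using hloc
  refine IsZariskiLocalAtTarget.of_iSup_eq_top (P := @IsFinite) (fun u => Q.ι ⁻¹ᵁ N u) ?_ fun u => ?_
  · exact top_le_iff.1 fun x _ => TopologicalSpace.Opens.mem_iSup.2 ⟨x, huN x⟩
  · rw [(MorphismProperty.arrow_mk_iso_iff @IsFinite (morphismRestrictRestrict s Q (Q.ι ⁻¹ᵁ N u)))]
    rw [show Q.ι ''ᵁ (Q.ι ⁻¹ᵁ N u) = N u by
      rw [Scheme.Hom.image_preimage_eq_opensRange_inf, Scheme.Opens.opensRange_ι, inf_eq_right.2 (hNQ u)]]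
    exact hfin u

/-- A separated etale morphism with finite fibres onto an affine scheme is finite over an open
piece of every nonempty open. -/
theorem exists_isFinite_restrict {R U : Scheme.{u}} [IsAffine U] (s : R ⟶ U) [Etale s] [IsSeparated s]
    (hfin : ∀ u, (s ⁻¹' {u}).Finite) (O : U.Opens) (hne : (O : Set U).Nonempty) :
    ∃ Q : U.Opens, Q ≤ O ∧ (Q : Set U).Nonempty ∧ IsAffineOpen Q ∧ IsFinite (s ∣_ Q) := by
  obtain ⟨u, hu⟩ := hne
  obtain ⟨O₁, hO₁, huO₁, hsub⟩ := exists_isAffineOpen_mem_and_subset (X := U) (x := u) (U := O) hu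
  have : IsAffine O₁.toScheme := hO₁
  have hfin₁ : ∀ v ∈ (Set.univ : Set O₁.toScheme), ((s ∣_ O₁) ⁻¹' {v}).Finite := fun v _ => by
    refine ((hfin v.1).preimage ((s ⁻¹ᵁ O₁).ι.injective.injOn)).subset fun r hr => ?_
    have := congrArg Subtype.val (Set.mem_singleton_iff.1 hr)
    rwa [morphismRestrict_base_coe] at this
  obtain ⟨n, D, hD, -, ⟨x, hxD, -⟩, hge, hlt⟩ := exists_open_meeting_in_stratum isClosed_univ
    ⟨⟨u, huO₁⟩, trivial⟩ (geLocus (s ∣_ O₁)) (isOpen_geLocus _) (geLocus_zero _)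
    (fun v hv => exists_notMem_geLocus _ v (hfin₁ v hv))
  obtain ⟨Q', hQ', hxQ', hQ'D⟩ :=
    exists_isAffineOpen_mem_and_subset (X := O₁.toScheme) (x := x) (U := ⟨D, hD⟩) hxD
  rw [Set.inter_univ] at hge hlt
  refine ⟨O₁.ι ''ᵁ Q', ?_, ⟨_, x, hxQ', rfl⟩, hQ'.image_of_isOpenImmersion O₁.ι, ?_⟩
  · rintro _ ⟨y, -, rfl⟩; exact hsub y.2
  have := isFinite_restrict_of_stratum (s ∣_ O₁) n Q' (fun y hy => hge (hQ'D hy))
    (hlt.mono_left fun y hy => hQ'D hy)
  exact (MorphismProperty.arrow_mk_iso_iff @IsFinite (morphismRestrictRestrict s O₁ Q')).1 this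

end Groth.Agent.AlgSpDecent
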