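import Groth.Prelude.Def_AlgSpMor5
import Groth.Agent.Lib.AlgSpace.LocP
import Groth.Agent.Lib.AlgSpace.Points
import Groth.Agent.Lib.AlgSpDecent.Basic
import Groth.Agent.Lib.FlatH4.FibreCritScheme
import Groth.Agent.Lib.Descend.BaseChangeAt

/-!
# Flatness at a point on charts, and its base change
-/

universe u

set_option backward.isDefEq.respectTransparency.types false

open CategoryTheory CategoryTheory.Limits AlgebraicGeometry AlgSp Opposite Topology
open Groth.Agent.AlgSpace Groth.Agent.AlgSpDecent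

namespace Groth.Agent.AlgSpDecent.FlatAt

section Scheme

theorem flat_stalkMap_comp {A B C : Scheme.{u}} (e : A ⟶ B) (h : B ⟶ C) (z : A)
    (h₁ : (e.stalkMap z).hom.Flat) (h₂ : (h.stalkMap (e z)).hom.Flat) :
    ((e ≫ h).stalkMap z).hom.Flat := by
  rw [Scheme.Hom.stalkMap_comp]
  exact RingHom.Flat.comp h₂ h₁

/-- Cancellation of an etale morphism on the target, at a point. -/
theorem flat_stalkMap_of_comp_etale {A B C : Scheme.{u}} (m : A ⟶ B) (d : B ⟶ C) [Etale d] (z : A)
    (h : ((m ≫ d).stalkMap z).hom.Flat) : (m.stalkMap z).hom.Flat := by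
  let ι := A.fromSpecStalk z
  have h1 : Flat (Spec.map ((m ≫ d).stalkMap z)) := Flat.SpecMap_iff.2 h
  have h2 : Flat (ι ≫ m ≫ d) := by
    show Flat (A.fromSpecStalk z ≫ (m ≫ d))
    rw [← Scheme.SpecMap_stalkMap_fromSpecStalk]
    have := Descend.flat_fromSpecStalk (X := C) ((m ≫ d) z)
    infer_instance
  have h3 : Flat (ι ≫ m) := EtaleLocal.of_postcomp_etale (@Flat : MorphismProperty Scheme.{u}) (ι ≫ m) d
    inferInstance (by rw [Category.assoc]; exact h2)
  have : Flat ι := Descend.flat_fromSpecStalk z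
  have h4 := Descend.flat_stalkMap_of_comp ι m (IsLocalRing.closedPoint _) (Flat.stalkMap _ _)
    (Flat.stalkMap _ _)
  exact FlatH4.flat_stalkMap_of_eq m (Scheme.fromSpecStalk_closedPoint (x := z)) h4

/-- The map on fibres of a base change is the map on fibres. -/
theorem flat_map_of_isPullback {U V W U' V' W' T : Scheme.{u}} (m : U ⟶ V) (k : V ⟶ W)
    (γ : W' ⟶ W) (m' : U' ⟶ V') (k' : V' ⟶ W') (pU : U' ⟶ U) (pV : V' ⟶ V)
    (sV : IsPullback pV k' k γ) (sU : IsPullback pU m' m pV) (a : T ⟶ W')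
    (z : ↥(pullback (m' ≫ k') a))
    (h : ((pullback.map (m' ≫ k') a k' a m' (𝟙 _) (𝟙 _) (by simp) (by simp)).stalkMap z).hom.Flat) :
    ((pullback.map (m ≫ k) (a ≫ γ) k (a ≫ γ) m (𝟙 _) (𝟙 _) (by simp) (by simp)).stalkMap
      (((IsPullback.of_hasPullback (m' ≫ k') a).paste_horiz
        (sU.paste_vert sV)).isoPullback.hom z)).hom.Flat := by
  have eU := (IsPullback.of_hasPullback (m' ≫ k') a).paste_horiz (sU.paste_vert sV)
  have eV := (IsPullback.of_hasPullback k' a).paste_horiz sV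
  have he : eU.isoPullback.hom ≫ pullback.map (m ≫ k) (a ≫ γ) k (a ≫ γ) m (𝟙 _) (𝟙 _) (by simp) (by simp) =
      pullback.map (m' ≫ k') a k' a m' (𝟙 _) (𝟙 _) (by simp) (by simp) ≫ eV.isoPullback.hom := by
    apply pullback.hom_ext
    · simp only [Category.assoc, pullback.map, pullback.lift_fst, eV.isoPullback_hom_fst,
        eU.isoPullback_hom_fst_assoc, pullback.lift_fst_assoc]
      rw [sU.w]
    · simp only [Category.assoc, pullback.map, pullback.lift_snd, eV.isoPullback_hom_snd,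
        eU.isoPullback_hom_snd, Category.comp_id]
  rw [← FlatH4.flat_stalkMap_comp_right_iff _ eV.isoPullback.hom z, ← he,
    FlatH4.flat_stalkMap_comp_left_iff] at h
  exact h

/-- The flat points of a base change are the preimage of the flat points. -/
theorem flat_stalkMap_baseChange_iff {U V W U' V' W' : Scheme.{u}} (m : U ⟶ V) (k : V ⟶ W)
    (γ : W' ⟶ W) (m' : U' ⟶ V') (k' : V' ⟶ W') (pU : U' ⟶ U) (pV : V' ⟶ V)
    [LocallyOfFinitePresentation (m ≫ k)] [LocallyOfFiniteType k] [Flat (m ≫ k)]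
    (sV : IsPullback pV k' k γ) (sU : IsPullback pU m' m pV) (u' : U') :
    (m'.stalkMap u').hom.Flat ↔ (m.stalkMap (pU u')).hom.Flat := by
  have sUW : IsPullback pU (m' ≫ k') (m ≫ k) γ := sU.paste_vert sV
  have : LocallyOfFinitePresentation m := Groth.Agent.SchBasic.locallyOfFinitePresentation_of_comp m k
  refine ⟨fun h => ?_, fun h => ?_⟩
  · let w' := k' (m' u')
    let a := W'.fromSpecResidueField w'
    obtain ⟨z, hz, -⟩ := Scheme.Pullback.exists_preimage_pullback (f := m' ≫ k') (g := a) u'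
      (IsLocalRing.closedPoint _) (W'.fromSpecResidueField_apply w' _).symm
    have hflat : Flat (m' ≫ k') := MorphismProperty.of_isPullback (P := @Flat) sUW inferInstance
    have h1 := FlatH4.flat_fibreMapAt'_of_flat m' k' a z (FlatH4.flat_stalkMap_of_eq m' hz.symm h)
    have eU := (IsPullback.of_hasPullback (m' ≫ k') a).paste_horiz sUW
    have h1' : ((FlatH4.fibreMapAt' m k (a ≫ γ)).stalkMap (eU.isoPullback.hom z)).hom.Flat :=
      flat_map_of_isPullback m k γ m' k' pU pV sV sU a z h1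
    have h2 := FlatH4.flat_of_flat_fibreMapAt' m k (a ≫ γ) _ (Flat.stalkMap _ _) h1'
    refine FlatH4.flat_stalkMap_of_eq m ?_ h2
    refine Eq.trans ?_ (congrArg pU hz)
    exact congrArg (fun φ => φ z) eU.isoPullback_hom_fst
  · obtain ⟨O, hO, hflat⟩ := Descend.exists_open_flat m (pU u') h
    have sO : IsPullback (pU ∣_ O) ((pU ⁻¹ᵁ O).ι ≫ m') (O.ι ≫ m) pV :=
      (isPullback_morphismRestrict pU O).paste_vert sU
    have : Flat ((pU ⁻¹ᵁ O).ι ≫ m') := MorphismProperty.of_isPullback (P := @Flat) sO hflat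
    exact (FlatH4.flat_stalkMap_comp_left_iff (pU ⁻¹ᵁ O).ι m' ⟨u', hO⟩).1 (Flat.stalkMap _ _)

end Scheme

variable {S : Scheme.{u}}

/-- Flatness at a point can be read on any diagram through it. -/
theorem isFlatAtMor_iff {X Y : Sp S} {f : X ⟶ Y} {U V : Over S} {a : (yon S).obj U ⟶ X}
    {b : (yon S).obj V ⟶ Y} {h : U ⟶ V} (ha : RepWith @Etale a) (hb : RepWith @Etale b)
    (w : a ≫ f = (yon S).map h ≫ b) (u : ↥U.left) :
    IsFlatAtMor f (Points.ofPt a u) ↔ (h.left.stalkMap u).hom.Flat := by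
  refine ⟨fun H => H a b h u ha hb w rfl, fun H U' V' a' b' h' u' ha' hb' w' he => ?_⟩
  have sqU := ha.1.isPullback' a'
  have sqV := hb.1.isPullback' b'
  let e₁ := ha.1.fst' a'
  let e₂ := ha.1.snd a'
  let d₁ := hb.1.fst' b'
  let d₂ := hb.1.snd b'
  have : Etale e₂.left := ha.2 a' _ _ (ha.1.isPullback a')
  have : Etale e₁.left := ha'.2 a _ _ sqU.flip
  have : Etale d₂.left := hb.2 b' _ _ (hb.1.isPullback b')
  have : Etale d₁.left := hb'.2 b _ _ sqV.flip
  obtain ⟨z, hz₁, hz₂⟩ := exists_pt_of_isPullback sqU (x := Points.ofScheme U u) (t := u')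
    (by rw [← Points.ofPt_eq_map_ofScheme]; exact he.symm)
  rw [ofPt_map_eq] at hz₁
  obtain ⟨m, hm⟩ := (yon S).map_surjective (sqV.lift ((yon S).map (e₁ ≫ h))
    ((yon S).map (e₂ ≫ h')) (by
      rw [Functor.map_comp, Functor.map_comp, Category.assoc, Category.assoc, ← w, ← w',
        ← Category.assoc, sqU.w, Category.assoc]))
  have hm₁ : m ≫ d₁ = e₁ ≫ h := (yon S).map_injective (by
    rw [Functor.map_comp, hm, sqV.lift_fst])
  have hm₂ : m ≫ d₂ = e₂ ≫ h' := (yon S).map_injective (by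
    rw [Functor.map_comp, hm, sqV.lift_snd])
  have h1 : ((m.left ≫ d₁.left).stalkMap z).hom.Flat := by
    rw [← Over.comp_left, hm₁, Over.comp_left]
    refine flat_stalkMap_comp _ _ _ (Flat.stalkMap _ _) ?_
    exact FlatH4.flat_stalkMap_of_eq h.left ((Points.schemeEquiv U).injective hz₁).symm H
  have h2 : ((m.left ≫ d₂.left).stalkMap z).hom.Flat :=
    flat_stalkMap_comp _ _ _ (flat_stalkMap_of_comp_etale m.left d₁.left z h1) (Flat.stalkMap _ _)
  rw [← Over.comp_left, hm₂, Over.comp_left] at h2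
  exact FlatH4.flat_stalkMap_of_eq h'.left hz₂
    (Descend.flat_stalkMap_of_comp e₂.left h'.left z (Flat.stalkMap _ _) h2)

/-- Base change of a chart along a morphism. -/
theorem exists_bc_chart {X Z X' Z' N : Sp S} {F : X ⟶ Z} {g : Z' ⟶ Z} {p : X' ⟶ X} {q : X' ⟶ Z'}
    (sq : IsPullback p q F g) {U W W' : Over S} {a : (yon S).obj U ⟶ X} {c : (yon S).obj W ⟶ Z}
    (hae : RepWith @Etale a) (has : RepWith @Surjective a) {mk : U ⟶ W}
    (w : a ≫ F = (yon S).map mk ≫ c) {nZ : N ⟶ Z'} {nW : N ⟶ (yon S).obj W}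
    (sqN : IsPullback nZ nW g c) {r : (yon S).obj W' ⟶ N} (hre : RepWith @Etale r)
    (hrs : RepWith @Surjective r) {γ : W' ⟶ W} (hγ : (yon S).map γ = r ≫ nW) :
    ∃ a' : (yon S).obj (pullback mk γ) ⟶ X', RepWith @Etale a' ∧ RepWith @Surjective a' ∧
      a' ≫ p = (yon S).map (pullback.fst mk γ) ≫ a ∧
      a' ≫ q = (yon S).map (pullback.snd mk γ) ≫ r ≫ nZ := by
  let Qf := pullback.fst a p
  let Qs := pullback.snd a p
  have sqQ : IsPullback Qf Qs a p := IsPullback.of_hasPullback a p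
  have big : IsPullback Qf (Qs ≫ q) ((yon S).map mk ≫ c) g := by
    rw [← w]; exact sqQ.paste_vert sq
  let ν := sqN.lift (Qs ≫ q) (Qf ≫ (yon S).map mk) (by rw [Category.assoc]; exact big.w.symm)
  have sqν : IsPullback Qf ν ((yon S).map mk) nW :=
    IsPullback.of_bot (by rw [sqN.lift_fst]; exact big) (sqN.lift_snd _ _ _).symm sqN.flip
  have sqU := (IsPullback.of_hasPullback mk γ).map (yon S)
  let ρ := sqν.lift ((yon S).map (pullback.fst mk γ)) ((yon S).map (pullback.snd mk γ) ≫ r)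
    (by rw [Category.assoc, ← hγ]; exact sqU.w)
  have sqρ : IsPullback ((yon S).map (pullback.snd mk γ)) ρ r ν :=
    IsPullback.of_bot (by rw [sqν.lift_fst, ← hγ]; exact sqU.flip) (sqν.lift_snd _ _ _).symm
      sqν.flip
  refine ⟨ρ ≫ Qs, repWith_comp (repWith_of_isPullback sqρ hre) (repWith_of_isPullback sqQ hae),
    repWith_comp (repWith_of_isPullback sqρ hrs) (repWith_of_isPullback sqQ has), ?_, ?_⟩
  · rw [Category.assoc, ← sqQ.w, ← Category.assoc, sqν.lift_fst]
  · rw [Category.assoc, ← sqN.lift_fst (Qs ≫ q) (Qf ≫ (yon S).map mk)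
      (by rw [Category.assoc]; exact big.w.symm), ← Category.assoc, sqν.lift_snd, Category.assoc]

end Groth.Agent.AlgSpDecent.FlatAt
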