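import Groth.Agent.Lib.AlgSpDescent.LocSurj
import Groth.Agent.Lib.AlgSpace.LocP
import Groth.Agent.Lib.AlgSpace.QC
import Mathlib.AlgebraicGeometry.Morphisms.LocalFlatDescent
import Groth.Agent.Lib.AlgSpDecent.Basic

/-!
# Quasi-compact flat surjective monomorphisms are isomorphisms

An affine etale chart `W` of the base change to an affine `T` is faithfully flat over `T`, and as
the base change is a monomorphism `W ×_T W = W ×_P W` is etale over `W`; so `W → T` is etale by
descent and the identity of `T` lifts fppf locally, uniquely.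
-/

universe u

set_option backward.isDefEq.respectTransparency.types false

open CategoryTheory CategoryTheory.Limits AlgebraicGeometry AlgSp Opposite Topology
open Groth.Agent.AlgSpace Groth.Agent.AlgSpDescent

namespace Groth.Agent.AlgSpDecent

variable {S : Scheme.{u}} {X Y : Sp S}

theorem exists_lift_affine_of_flat_mono (hX : IsAlgSpace X) (hY : IsAlgSpace Y) {f : X ⟶ Y} [Mono f]
    (hqc : IsQuasiCompactMor f) (hflat : LocP @Flat f) (hsurj : IsSurjectiveMor f)
    {T : Over S} [IsAffine T.left] (g : (yon S).obj T ⟶ Y) :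
    ∃ l : (yon S).obj T ⟶ X, l ≫ f = g := by
  have sq := IsPullback.of_hasPullback f g
  have hT : IsQuasiCompactSp ((yon S).obj T) :=
    ⟨T, 𝟙 _, repWith_id _ T, repWith_id _ T, inferInstance⟩
  have hPalg := isAlgSpace_pullback hY hX (IsAlgSpace.yon_obj T) sq
  obtain ⟨W, p, hpe, hps, hWc⟩ := hqc (IsAlgSpace.yon_obj T) hT g _ _ sq
  obtain ⟨w, hw⟩ := (yon S).map_surjective (p ≫ pullback.snd f g)
  have hfl : LocP @Flat (pullback.snd f g) := locP_of_isPullback hX hY (IsAlgSpace.yon_obj T) sq hflat
  have : Flat w.left := hfl p (𝟙 _) w hpe (repWith_id _ T) (by rw [Category.comp_id, hw])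
  have : Surjective w.left := ⟨fun t => by
    obtain ⟨x, hx⟩ := hsurj (Points.ofPt g t)
    obtain ⟨z, -, hz⟩ := exists_point_lift sq x (Points.ofScheme T t)
      (by rw [← Points.ofPt_eq_map_ofScheme]; exact hx)
    obtain ⟨v, rfl⟩ := surjective_ofPt hps z
    refine ⟨v, (Points.schemeEquiv T).injective ?_⟩
    rw [Points.map_ofPt, ← hw, ofPt_map_eq] at hz
    exact hz⟩
  have : CompactSpace W.left := hWc
  have : QuasiCompact w.left := inferInstance
  have sqW := IsPullback.of_hasPullback w w
  have sqp : IsPullback ((yon S).map (pullback.fst w w)) ((yon S).map (pullback.snd w w)) p p := by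
    have h := sqW.map (yon S)
    rw [hw] at h
    exact ⟨⟨(cancel_mono (pullback.snd f g)).1 (by simpa only [Category.assoc] using h.w)⟩,
      ⟨PullbackCone.IsLimit.mk _ (fun c => h.lift c.fst c.snd (by rw [c.condition_assoc]))
        (fun c => h.lift_fst _ _ _) (fun c => h.lift_snd _ _ _)
        (fun c m h1 h2 => h.hom_ext (h1.trans (h.lift_fst _ _ _).symm)
          (h2.trans (h.lift_snd _ _ _).symm))⟩⟩
  have h1 : Etale (pullback.snd w w).left := hpe.2 p _ _ sqp
  have : Etale w.left := MorphismProperty.of_isPullback_of_descendsAlong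
    (Q := (@Surjective ⊓ @Flat ⊓ @QuasiCompact : MorphismProperty Scheme.{u}))
    (sqW.map (Over.forget S)).flip ⟨⟨‹Surjective w.left›, ‹Flat w.left›⟩, ‹QuasiCompact w.left›⟩ h1
  let 𝒰 : Scheme.Cover.{u} Scheme.fppfPrecoverage.{u} T.left :=
    Scheme.Hom.cover (P := (@Flat ⊓ @LocallyOfFinitePresentation : MorphismProperty Scheme.{u})) w.left
      ⟨inferInstance, inferInstance⟩
  let j : Over.mk (w.left ≫ T.hom) ⟶ W := Over.homMk (𝟙 _) (by simp)
  have hj : j ≫ w = overArrow w.left := Over.OverMorphism.ext (Category.id_comp _)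
  obtain ⟨l, hl, -⟩ := existsUnique_glue_fppf 𝒰 (fun _ => (yon S).map j ≫ p ≫ pullback.fst f g)
    (fun a b V c d e => by
      have h2 : ((yon S).map c ≫ (yon S).map j ≫ p) ≫ pullback.snd f g =
          ((yon S).map d ≫ (yon S).map j ≫ p) ≫ pullback.snd f g := by
        simp only [Category.assoc, ← hw, ← Functor.map_comp, hj]
        exact congrArg _ e
      have := congrArg (fun m => m ≫ pullback.fst f g) ((cancel_mono (pullback.snd f g)).1 h2)
      simpa only [Category.assoc] using this)
  refine ⟨l, hom_ext_fppf 𝒰 (fun k => ?_)⟩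
  rw [← Category.assoc, hl k, Category.assoc, Category.assoc, pullback.condition, ← Category.assoc p, ← hw]
  rw [← Category.assoc]
  refine congrArg (· ≫ g) ?_
  exact ((yon S).map_comp _ _).symm.trans (congrArg _ hj)

theorem isIso_of_flat_mono (hX : IsAlgSpace X) (hY : IsAlgSpace Y) {f : X ⟶ Y} [Mono f]
    (hqc : IsQuasiCompactMor f) (hflat : LocP @Flat f) (hsurj : IsSurjectiveMor f) : IsIso f := by
  refine isIso_of_bijective_maps f fun T g => ?_
  let 𝒱 := T.left.affineCover
  let 𝒰 : Scheme.Cover.{u} Scheme.fppfPrecoverage.{u} T.left :=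
    𝒱.changeProp fun i => ⟨inferInstance, inferInstance⟩
  have haff : ∀ i, IsAffine (Over.mk (𝒰.f i ≫ T.hom)).left := fun i =>
    inferInstanceAs (IsAffine (T.left.affineCover.X i))
  choose l hl using fun i => exists_lift_affine_of_flat_mono hX hY hqc hflat hsurj
    (T := Over.mk (𝒰.f i ≫ T.hom)) ((yon S).map (overArrow (𝒰.f i)) ≫ g)
  obtain ⟨s, hs, -⟩ := existsUnique_glue_fppf 𝒰 l (fun a b V c d e => (cancel_mono f).1 (by
    simp only [Category.assoc, hl, ← Functor.map_comp_assoc, e]))
  refine ⟨s, hom_ext_fppf 𝒰 (fun i => ?_), fun s' hs' => (cancel_mono f).1 ?_⟩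
  · rw [← Category.assoc, hs i, hl]
  · rw [hs']
    refine (hom_ext_fppf 𝒰 fun i => ?_).symm
    rw [← Category.assoc, hs i, hl]

end Groth.Agent.AlgSpDecent
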