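import Groth.Agent.Lib.AlgSpDecent.FlatMonoRing
import Groth.Agent.Lib.AlgSpDecent.FiniteNhd
import Groth.Agent.Lib.AlgSpace.AffineDescent
import Groth.Agent.Lib.AlgSpace.LqfScheme
import Groth.Agent.Lib.AlgSpace.Glue
import Groth.Agent.Lib.AlgSpace.ImmDescent

/-!
# Flat monomorphisms of algebraic spaces are representable

Near a point, a flat monomorphism to an affine scheme becomes affine after an etale surjective base
change, so by fppf descent of affine schemes the source is covered by affine open subspaces.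
-/

universe u

set_option backward.isDefEq.respectTransparency.types false

open CategoryTheory CategoryTheory.Limits AlgebraicGeometry AlgSp Topology Opposite TensorProduct
open Groth.Agent.AlgSpace Groth.Agent.AlgSpace.AffineDescent

namespace Groth.Agent.AlgSpDecent

/-- The double localization of a map which is bijective after self base change. -/
theorem bijective_map_map {A : Type u} [CommRing A] {B C L : Type u} [CommRing B] [CommRing C]
    [CommRing L] [Algebra A B] [Algebra A C] [Algebra A L] (φ : B →ₐ[A] C) (h : A)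
    (hu : IsUnit (algebraMap A L h)) (hs : Function.Surjective (φ.toLinearMap.lTensor C))
    (hk : ∀ z, φ.toLinearMap.lTensor C z = 0 → h • z = 0) :
    Function.Bijective (Algebra.TensorProduct.map (AlgHom.id A (L ⊗[A] C))
      (Algebra.TensorProduct.map (AlgHom.id A L) φ)) := by
  have hL : Function.Surjective (fun l : L ⊗[A] L => h • l) := fun l => by
    refine ⟨((↑hu.unit⁻¹ : L) ⊗ₜ[A] (1 : L)) * l, ?_⟩
    show h • _ = l
    rw [← smul_mul_assoc, TensorProduct.smul_tmul', Algebra.smul_def, IsUnit.mul_val_inv,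
      ← Algebra.TensorProduct.one_def, one_mul]
  have hb := FlatMonoRing.bijective_lTensor_of_smul (L := L ⊗[A] L) _ hs h hk hL
  let eB := TensorProduct.tensorTensorTensorComm A L C L B
  let eC := TensorProduct.tensorTensorTensorComm A L C L C
  have he : ∀ z, eC (Algebra.TensorProduct.map (AlgHom.id A (L ⊗[A] C))
      (Algebra.TensorProduct.map (AlgHom.id A L) φ) z) =
      (φ.toLinearMap.lTensor C).lTensor (L ⊗[A] L) (eB z) := by
    have : eC.toLinearMap ∘ₗ (Algebra.TensorProduct.map (AlgHom.id A (L ⊗[A] C))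
        (Algebra.TensorProduct.map (AlgHom.id A L) φ)).toLinearMap =
        (φ.toLinearMap.lTensor C).lTensor (L ⊗[A] L) ∘ₗ eB.toLinearMap := by
      ext l c l' b
      simp [eB, eC]
    exact fun z => LinearMap.congr_fun this z
  constructor
  · intro x y hxy
    refine eB.injective (hb.1 ?_)
    rw [← he, ← he, hxy]
  · intro y
    obtain ⟨w, hw⟩ := hb.2 (eC y)
    refine ⟨eB.symm w, eC.injective ?_⟩
    rw [he, LinearEquiv.apply_symm_apply, hw]

variable {S : Scheme.{u}} {P : Sp S}

/-- An affine open neighbourhood of the image of a point of a chart. -/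
theorem exists_affine_open {A : CommRingCat.{u}} (sT : Spec A ⟶ S) (hP : IsAlgSpace P)
    (q : P ⟶ (yon S).obj (Over.mk sT)) [Mono q] (C : Type u) [CommRing C] [Algebra A C]
    [Module.Flat A C] (φU : (yon S).obj (specOver sT C) ⟶ P) (hφ : RepWith @Etale φU)
    (hq : φU ≫ q = (yon S).map (toBase sT C)) (u : ↥(specOver sT C).left) :
    ∃ (W : Over S) (g : (yon S).obj W ⟶ P), RepWith @IsOpenImmersion g ∧
      Points.ofPt φU u ∈ Set.range (Points.map g) := by
  have sqR : IsPullback ((yon S).map (specMap sT (Algebra.TensorProduct.includeLeft : C →ₐ[A] C ⊗[A] C)))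
      ((yon S).map (specMap sT (Algebra.TensorProduct.includeRight : C →ₐ[A] C ⊗[A] C))) φU φU := by
    refine isPullback_of_comp_mono q ?_
    rw [hq]
    exact (isPullback_toBase sT C C).map (yon S)
  have : Algebra.Etale C (C ⊗[A] C) := by
    have h1 : Etale (specMap sT (Algebra.TensorProduct.includeLeft : C →ₐ[A] C ⊗[A] C)).left :=
      hφ.2 φU _ _ sqR.flip
    exact RingHom.etale_algebraMap.1 ((HasRingHomProperty.Spec_iff (P := @Etale)).1 h1)
  obtain ⟨h, B, _, _, φ, hhQ, hBet, hψs, hψk, hcov⟩ :=
    FlatMonoRing.exists_etale_model (A := A) (C := C) (u : PrimeSpectrum C).asIdeal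
  let L := Localization.Away h
  have hu : IsUnit (algebraMap A L h) := IsLocalization.map_units L (⟨h, Submonoid.mem_powers h⟩ : Submonoid.powers h)
  let φh := Algebra.TensorProduct.map (AlgHom.id A L) φ
  let χ := Algebra.TensorProduct.map (AlgHom.id A (L ⊗[A] C)) φh
  have hχ : Function.Bijective χ := bijective_map_map φ h hu hψs hψk
  let VO := specOver sT L
  let UO := specOver sT (L ⊗[A] C)
  let BO := specOver sT (L ⊗[A] B)
  let ιO : VO ⟶ Over.mk sT := toBase sT L
  let e : BO ⟶ VO := specMap sT (Algebra.TensorProduct.includeLeft : L →ₐ[A] L ⊗[A] B)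
  let pC : UO ⟶ specOver sT C := specMap sT (Algebra.TensorProduct.includeRight : C →ₐ[A] L ⊗[A] C)
  have : IsOpenImmersion ιO.left :=
    inferInstanceAs (IsOpenImmersion (Spec.map (CommRingCat.ofHom (algebraMap A L))))
  have : IsOpenImmersion pC.left := MorphismProperty.of_isPullback (P := @IsOpenImmersion)
    ((isPullback_toBase sT L C).map (Over.forget S)) ‹IsOpenImmersion ιO.left›
  let a : (yon S).obj UO ⟶ P := (yon S).map pC ≫ φU
  have ha : RepWith @Etale a :=
    repWith_comp ((repWith_yon_map_iff _ _).2 (inferInstanceAs (Etale pC.left))) hφ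
  have haq : a ≫ q = (yon S).map (toBase sT (L ⊗[A] C)) := by
    rw [Category.assoc, hq, ← Functor.map_comp]
    exact congrArg _ (specMap_toBase sT _)
  -- the open subspace
  let E := Set.range (Points.ofPt a)
  have hE : IsOpen E := by
    rw [show E = Points.ofPt a '' Set.univ by rw [Set.image_univ]]
    exact isOpenMap_ofPt a ha _ isOpen_univ
  have hι := repWith_openSubι hE
  obtain ⟨aG, haG⟩ := exists_factor_openSub (W := E) a (by
    rintro _ ⟨x, rfl⟩
    obtain ⟨z, rfl⟩ := (Points.schemeEquiv UO).surjective x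
    change Points.map _ (Points.ofScheme UO z) ∈ _
    rw [← Points.ofPt_eq_map_ofScheme]
    exact ⟨z, rfl⟩)
  have haGe : RepWith @Etale aG := repWith_of_isPullback (isPullback_of_mono aG (openSubι E))
    (by rw [haG]; exact ha)
  have haGs : RepWith @Surjective aG := repWith_surjective_of_ofPt haGe.1 fun x => by
    obtain ⟨z, hz⟩ : Points.map (openSubι E) x ∈ E := (range_openSubι E).le ⟨x, rfl⟩
    refine ⟨z, injective_map_of_openImmersion hι ?_⟩
    rw [Points.map_ofPt, haG]
    exact hz
  let f := openSubι E ≫ q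
  have hf : Mono f := inferInstance
  have haf : aG ≫ f = (yon S).map (toBase sT (L ⊗[A] C)) := by
    rw [reassoc_of% haG, haq]
  -- the comparison after base change to the etale model
  let p : UO ⟶ BO := specMap sT φh
  have hpe : p ≫ e = specMap sT (Algebra.TensorProduct.includeLeft : L →ₐ[A] L ⊗[A] C) := by
    rw [← specMap_comp]
    congr 1
    ext z

  have hpt : p ≫ toBase sT (L ⊗[A] B) = toBase sT (L ⊗[A] C) := specMap_toBase sT φh
  have hev : (yon S).map e ≫ (yon S).map ιO = (yon S).map (toBase sT (L ⊗[A] B)) := by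
    rw [← Functor.map_comp]
    exact congrArg _ (specMap_toBase sT _)
  have sqB := isPullback_toBase sT (L ⊗[A] C) (L ⊗[A] B)
  have sqC := isPullback_toBase sT (L ⊗[A] C) (L ⊗[A] C)
  let M : specOver sT ((L ⊗[A] C) ⊗[A] (L ⊗[A] C)) ⟶ specOver sT ((L ⊗[A] C) ⊗[A] (L ⊗[A] B)) :=
    specMap sT χ
  let χe : (L ⊗[A] C) ⊗[A] (L ⊗[A] B) ≃ₐ[A] (L ⊗[A] C) ⊗[A] (L ⊗[A] C) := AlgEquiv.ofBijective χ hχ
  let M' : specOver sT ((L ⊗[A] C) ⊗[A] (L ⊗[A] B)) ⟶ specOver sT ((L ⊗[A] C) ⊗[A] (L ⊗[A] C)) :=
    specMap sT χe.symm.toAlgHom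
  have hMM' : M' ≫ M = 𝟙 _ := by
    rw [← specMap_comp, ← specMap_id]
    congr 1
    exact AlgHom.ext fun z => χe.symm_apply_apply z
  have hM'M : M ≫ M' = 𝟙 _ := by
    rw [← specMap_comp, ← specMap_id]
    congr 1
    exact AlgHom.ext fun z => χe.apply_symm_apply z
  have hM₁ : M ≫ specMap sT Algebra.TensorProduct.includeLeft =
      specMap sT Algebra.TensorProduct.includeLeft := by
    rw [← specMap_comp]
    congr 1
    ext z <;> simp [χ]
  have hM₂ : M ≫ specMap sT Algebra.TensorProduct.includeRight =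
      specMap sT Algebra.TensorProduct.includeRight ≫ p := by
    rw [← specMap_comp, ← specMap_comp]
    congr 1
  let Q := pullback f ((yon S).map (toBase sT (L ⊗[A] B)))
  let j : (yon S).obj UO ⟶ Q := pullback.lift aG ((yon S).map p) (by
    rw [haf, ← Functor.map_comp, hpt])
  have : Mono j := mono_of_yon j fun T x y hxy => by
    obtain ⟨x, rfl⟩ := (yon S).map_surjective x
    obtain ⟨y, rfl⟩ := (yon S).map_surjective y
    have h1 : x ≫ toBase sT (L ⊗[A] C) = y ≫ toBase sT (L ⊗[A] C) := (yon S).map_injective (by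
      rw [Functor.map_comp, Functor.map_comp, ← haf, ← Category.assoc, ← Category.assoc]
      have := congrArg (fun k => k ≫ pullback.fst f _) hxy
      simp only [j, Category.assoc, pullback.lift_fst] at this
      rw [this]; simp only [f, Category.assoc])
    have h2 : x ≫ p = y ≫ p := (yon S).map_injective (by
      have := congrArg (fun k => k ≫ pullback.snd f _) hxy
      simpa [j, pullback.lift_snd] using this)
    have h3 : sqC.lift x y h1 ≫ M = sqC.lift x x rfl ≫ M := sqB.hom_ext
      (by rw [Category.assoc, Category.assoc, hM₁, sqC.lift_fst, sqC.lift_fst])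
      (by rw [Category.assoc, Category.assoc, hM₂, ← Category.assoc, ← Category.assoc,
        sqC.lift_snd, sqC.lift_snd, h2])
    have := congrArg (fun k => k ≫ M') h3
    simp only [Category.assoc, hM'M, Category.comp_id] at this
    have := congrArg (fun k => k ≫ specMap sT Algebra.TensorProduct.includeRight) this
    simp only [sqC.lift_snd] at this
    rw [this]
  have : Epi j := by
    have sqP := IsPullback.of_hasPullback (pullback.fst f ((yon S).map (toBase sT (L ⊗[A] B)))) aG
    have := isLocallySurjective_of_etale (repWith_of_isPullback sqP.flip haGe)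
      (repWith_of_isPullback sqP.flip haGs)
    have : Epi (pullback.fst (pullback.fst f ((yon S).map (toBase sT (L ⊗[A] B)))) aG) := inferInstance
    have w : pullback.snd (pullback.fst f ((yon S).map (toBase sT (L ⊗[A] B)))) aG ≫
        (yon S).map (toBase sT (L ⊗[A] C)) =
        (pullback.fst (pullback.fst f ((yon S).map (toBase sT (L ⊗[A] B)))) aG ≫ pullback.snd _ _) ≫
          (yon S).map (toBase sT (L ⊗[A] B)) := by
      rw [← haf, ← reassoc_of% pullback.condition, pullback.condition, Category.assoc]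
    let z := (sqB.map (yon S)).lift _ _ w ≫ (yon S).map M' ≫
      (yon S).map (specMap sT (Algebra.TensorProduct.includeRight : _ →ₐ[A] (L ⊗[A] C) ⊗[A] (L ⊗[A] C)))
    refine epi_of_epi_fac (f := z) (h := pullback.fst _ aG) (pullback.hom_ext ?_ ?_)
    · rw [Category.assoc, pullback.lift_fst, pullback.condition, ← cancel_mono f, Category.assoc,
        Category.assoc, haf]
      simp only [z, Category.assoc, ← Functor.map_comp]
      rw [← sqC.w, ← hM₁, Category.assoc, reassoc_of% hMM', Functor.map_comp, ← Category.assoc,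
        (sqB.map (yon S)).lift_fst, haf]
    · rw [Category.assoc, pullback.lift_snd]
      simp only [z, Category.assoc, ← Functor.map_comp]
      rw [← hM₂, reassoc_of% hMM', (sqB.map (yon S)).lift_snd]
  have : IsIso j := isIso_of_mono_of_epi j
  have sqAff : IsPullback aG ((yon S).map p) f ((yon S).map (toBase sT (L ⊗[A] B))) :=
    IsPullback.of_iso_pullback ⟨by rw [haf, ← Functor.map_comp, hpt]⟩ (asIso j)
      (pullback.lift_fst _ _ _) (pullback.lift_snd _ _ _)
  -- descend affineness along the model
  have : Etale e.left := by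
    have : Algebra.Etale A (L ⊗[A] B) := by
      letI : Algebra B (L ⊗[A] B) := Algebra.TensorProduct.rightAlgebra
      exact Algebra.Etale.of_equiv ((IsLocalization.algEquiv (Submonoid.powers (algebraMap A B h))
        (Localization.Away (algebraMap A B h)) (L ⊗[A] B)).restrictScalars A)
    have : Etale (e.left ≫ ιO.left) := by
      rw [← Over.comp_left, show e ≫ ιO = toBase sT (L ⊗[A] B) from specMap_toBase sT _]
      exact (HasRingHomProperty.Spec_iff (P := @Etale)).2 (RingHom.etale_algebraMap.2 this)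
    exact Etale.of_comp e.left ιO.left
  have : Surjective e.left := ⟨fun x => by
    obtain ⟨P', hP'⟩ := hcov (ιO.left x) fun hm =>
      ((x : PrimeSpectrum L).isPrime.ne_top) (Ideal.eq_top_of_isUnit_mem _ hm hu)
    obtain ⟨z, hz, -⟩ := Scheme.exists_preimage_of_isPullback
      ((isPullback_toBase sT L B).map (Over.forget S)) x P' hP'.symm
    exact ⟨z, hz⟩⟩
  obtain ⟨W, i, fst, _, -, sqW, -⟩ := exists_affine_of_cover f ((yon S).map ιO) e p aG (hev.symm ▸ sqAff)
  have hfst : RepWith @IsOpenImmersion fst :=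
    repWith_of_isPullback sqW.flip ((repWith_yon_map_iff _ _).2 ‹IsOpenImmersion ιO.left›)
  have hfs : Function.Surjective (Points.map fst) := fun x => by
    obtain ⟨z, rfl⟩ := surjective_ofPt haGs x
    refine ⟨Points.ofPt (sqW.lift aG ((yon S).map (p ≫ e)) (by
      rw [haf, ← Functor.map_comp, Category.assoc, show e ≫ ιO = _ from specMap_toBase sT _, hpt])) z, ?_⟩
    rw [Points.map_ofPt, sqW.lift_fst]
  have : IsIso fst := isIso_of_isOpenImmersion_of_surjective hfst hfs
  refine ⟨W, fst ≫ openSubι E, repWith_comp hfst hι, ?_⟩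
  rw [map_comp_eq, Set.range_comp, hfs.range_eq, Set.image_univ, range_openSubι]
  have hu' : (u : PrimeSpectrum C).comap (algebraMap A C) ∈
      Set.range (PrimeSpectrum.comap (algebraMap A L)) := by
    rw [PrimeSpectrum.localization_away_comap_range L h]
    exact hhQ
  obtain ⟨x, hx⟩ := hu'
  obtain ⟨z, -, hz⟩ := Scheme.exists_preimage_of_isPullback
    ((isPullback_toBase sT L C).map (Over.forget S)) x u hx
  exact ⟨z, by rw [ofPt_map_comp]; exact congrArg _ hz⟩

/-- A flat monomorphism to an affine scheme has a scheme as source. -/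
theorem exists_iso_yon_of_flat_mono {T : Over S} [IsAffine T.left] (hP : IsAlgSpace P)
    (q : P ⟶ (yon S).obj T) [Mono q] (hflat : LocP @Flat q) :
    ∃ G : Over S, Nonempty ((yon S).obj G ≅ P) := by
  let sT : Spec Γ(T.left, ⊤) ⟶ S := T.left.isoSpec.inv ≫ T.hom
  let eT : T ≅ Over.mk sT := Over.isoMk T.left.isoSpec (by simp [sT])
  have key : ∀ z : Points P, ∃ (W : Over S) (g : (yon S).obj W ⟶ P),
      RepWith @IsOpenImmersion g ∧ z ∈ Set.range (Points.map g) := fun z => by
    obtain ⟨U, φ, hU, hφ, u, rfl⟩ := exists_affine_chart_at hP z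
    have := hU
    obtain ⟨k, hk⟩ := (yon S).map_surjective (φ ≫ q)
    have : Flat k.left := hflat φ (𝟙 _) k hφ (repWith_id _ T) (by rw [hk, Category.comp_id])
    letI algC : Algebra Γ(T.left, ⊤) Γ(U.left, ⊤) := k.left.appTop.hom.toAlgebra
    have : Module.Flat Γ(T.left, ⊤) Γ(U.left, ⊤) :=
      (HasRingHomProperty.iff_of_isAffine (P := @Flat) (f := k.left)).1 ‹_›
    have hA : U.left.isoSpec.hom ≫ Spec.map k.left.appTop = k.left ≫ T.left.isoSpec.hom :=
      Scheme.isoSpec_hom_naturality _
    let eU : U ≅ specOver sT Γ(U.left, ⊤) := Over.isoMk U.left.isoSpec (by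
      change U.left.isoSpec.hom ≫ Spec.map k.left.appTop ≫ T.left.isoSpec.inv ≫ T.hom = U.hom
      rw [reassoc_of% hA, Iso.hom_inv_id_assoc, Over.w k])
    have hv : eU.hom ≫ toBase sT Γ(U.left, ⊤) = k ≫ eT.hom := Over.OverMorphism.ext hA
    obtain ⟨W, g, hg, hgu⟩ := exists_affine_open sT hP (q ≫ (yon S).map eT.hom) Γ(U.left, ⊤)
      ((yon S).map eU.inv ≫ φ) ((repWith_respectsIso_left _).2 hφ)
      (by rw [Category.assoc, ← Category.assoc φ, ← hk, ← Functor.map_comp, ← Functor.map_comp,
        ← hv, Iso.inv_hom_id_assoc]) (eU.hom.left u)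
    refine ⟨W, g, hg, ?_⟩
    rwa [ofPt_map_comp, show eU.inv.left (eU.hom.left u) = u from
      congrArg (fun k : U ⟶ U => k.left u) eU.hom_inv_id] at hgu
  choose W g hg hgz using key
  obtain ⟨U₀, p₀, -, hps⟩ := hP.atlas
  refine exists_iso_yon_of_openCover (F := P) (κ := ↥U₀.left) (w := fun k => g (Points.ofPt p₀ k))
    (fun k => hg _) fun R gR t => ?_
  obtain ⟨k, hk⟩ := surjective_ofPt hps (Points.ofPt gR t)
  obtain ⟨z, hz⟩ : Points.ofPt gR t ∈ Set.range (Points.map (g (Points.ofPt p₀ k))) := hk ▸ hgz _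
  obtain ⟨v, -, hv⟩ := exists_pt_of_isPullback ((hg (Points.ofPt p₀ k)).1.isPullback gR) hz
  exact ⟨k, v, hv⟩

/-- Flat monomorphisms of algebraic spaces are representable by schemes. -/
theorem representable_of_flat_mono {X Y : Sp S} (hX : IsAlgSpace X) (hY : IsAlgSpace Y) (f : X ⟶ Y)
    [Mono f] (hflat : LocP @Flat f) : Representable f := by
  refine representable_of_zariski f fun T g t => ?_
  obtain ⟨O, hO, htO, -⟩ := exists_isAffineOpen_mem_and_subset (X := T.left) (x := t) (U := ⊤) trivial
  let TO : Over S := Over.mk (O.ι ≫ T.hom)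
  have : IsAffine TO.left := hO
  have sq := IsPullback.of_hasPullback f ((yon S).map (overArrow O.ι) ≫ g)
  have hP := isAlgSpace_pullback hY hX (IsAlgSpace.yon_obj TO) sq
  obtain ⟨G, ⟨e⟩⟩ := exists_iso_yon_of_flat_mono hP (pullback.snd f _)
    (locP_of_isPullback hX hY (IsAlgSpace.yon_obj TO) sq hflat)
  refine ⟨O, htO, G, (yon S).preimage (e.hom ≫ pullback.snd _ _), e.hom ≫ pullback.fst _ _, ?_⟩
  rw [(yon S).map_preimage]
  exact IsPullback.of_iso sq e.symm (Iso.refl _) (Iso.refl _) (Iso.refl _)
    (by simp) (by simp) (by simp) (by simp)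

end Groth.Agent.AlgSpDecent
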