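import Mathlib.RingTheory.Etale.Descent
import Mathlib.RingTheory.Etale.Locus
import Mathlib.RingTheory.Flat.Equalizer
import Mathlib.RingTheory.MvPolynomial.Localization
import Mathlib.RingTheory.Spectrum.Prime.Chevalley

/-!
# Flat algebras with etale self tensor product are locally etale up to self base change

If `C` is flat over `A` and `C ⊗_A C` is etale over `C`, then near the image of every prime of `C`
there is an etale algebra `B` with a map to `C` which becomes bijective after tensoring with `C`.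
-/

universe u

open TensorProduct

namespace Groth.Agent.AlgSpDecent.FlatMonoRing

variable {A : Type u} [CommRing A]

/-- Killing torsion of finitely many elements by one element of the submonoid. -/
theorem exists_smul_eq_zero {N : Type*} [AddCommGroup N] [Module A N] (S : Submonoid A)
    (s : Finset N) (h : ∀ x ∈ s, ∃ a ∈ S, a • x = 0) : ∃ a ∈ S, ∀ x ∈ s, a • x = 0 := by
  classical
  induction s using Finset.induction_on with
  | empty => exact ⟨1, S.one_mem, by simp⟩
  | insert x s _ ih =>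
    obtain ⟨a, ha, hax⟩ := h x (Finset.mem_insert_self x s)
    obtain ⟨b, hb, hbs⟩ := ih fun y hy => h y (Finset.mem_insert_of_mem hy)
    refine ⟨a * b, S.mul_mem ha hb, fun y hy => ?_⟩
    rcases Finset.mem_insert.1 hy with rfl | hy
    · rw [mul_comm, mul_smul, hax, smul_zero]
    · rw [mul_smul, hbs y hy, smul_zero]

/-- Kernels with torsion stay torsion after flat base change. -/
theorem torsion_ker_lTensor {C M N : Type*} [AddCommGroup C] [Module A C] [AddCommGroup M]
    [Module A M] [AddCommGroup N] [Module A N] [Module.Flat A C] (S : Submonoid A) (f : M →ₗ[A] N)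
    (h : ∀ x, f x = 0 → ∃ a ∈ S, a • x = 0) (z : C ⊗[A] M) (hz : f.lTensor C z = 0) :
    ∃ a ∈ S, a • z = 0 := by
  obtain ⟨w, rfl⟩ := (Module.Flat.lTensor_exact C (LinearMap.exact_subtype_ker_map f) z).1 hz
  clear hz
  induction w with
  | zero => exact ⟨1, S.one_mem, by simp⟩
  | tmul c k =>
    obtain ⟨a, ha, hak⟩ := h k.1 k.2
    exact ⟨a, ha, by rw [LinearMap.lTensor_tmul, ← tmul_smul]; simp [hak]⟩
  | add x y hx hy =>
    obtain ⟨a, ha, hax⟩ := hx
    obtain ⟨b, hb, hby⟩ := hy
    refine ⟨a * b, S.mul_mem ha hb, ?_⟩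
    rw [map_add, smul_add, mul_comm a b, mul_smul, hax, smul_zero, zero_add, mul_comm b a,
      mul_smul, hby, smul_zero]

/-- Tensoring with a module on which the torsion annihilators are invertible gives a bijection. -/
theorem bijective_lTensor_of_smul {L M N : Type*} [AddCommGroup L] [Module A L] [AddCommGroup M]
    [Module A M] [AddCommGroup N] [Module A N] (f : M →ₗ[A] N) (hf : Function.Surjective f) (a : A)
    (hker : ∀ x, f x = 0 → a • x = 0) (hL : Function.Surjective (fun l : L => a • l)) :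
    Function.Bijective (f.lTensor L) := by
  refine ⟨(injective_iff_map_eq_zero _).2 fun z hz => ?_, f.lTensor_surjective L hf⟩
  obtain ⟨w, rfl⟩ := (lTensor_exact L (LinearMap.exact_subtype_ker_map f) hf z).1 hz
  clear hz
  induction w with
  | zero => simp
  | tmul l k =>
    obtain ⟨l', rfl⟩ := hL l
    rw [LinearMap.lTensor_tmul, smul_tmul]
    simp [hker k.1 k.2]
  | add x y hx hy => rw [map_add, hx, hy, add_zero]

theorem exists_etale_model {C : Type u} [CommRing C] [Algebra A C] [Module.Flat A C]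
    [Algebra.Etale C (C ⊗[A] C)] (Q : Ideal C) [Q.IsPrime] :
    ∃ (h : A) (B : Type u) (_ : CommRing B) (_ : Algebra A B) (φ : B →ₐ[A] C),
      algebraMap A C h ∉ Q ∧ Algebra.Etale A (Localization.Away (algebraMap A B h)) ∧
      Function.Surjective (φ.toLinearMap.lTensor C) ∧
      (∀ z, φ.toLinearMap.lTensor C z = 0 → h • z = 0) ∧
      ∀ q : PrimeSpectrum A, h ∉ q.asIdeal → q ∈ Set.range (PrimeSpectrum.comap (algebraMap A B)) := by
  classical
  let p := Q.comap (algebraMap A C)
  let S := p.primeCompl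
  let Ap := Localization.AtPrime p
  let Cp := Localization (Algebra.algebraMapSubmonoid C S)
  letI : Algebra Ap Cp := localizationAlgebra S C
  have : IsScalarTower A Ap Cp := IsScalarTower.of_algebraMap_eq' (IsLocalization.map_comp _).symm
  have hpush : Algebra.IsPushout A Ap C Cp := (Algebra.isPushout_of_isLocalization S Ap C Cp).symm
  have : Module.Flat Ap Cp := Module.Flat.isBaseChange A Ap C Cp hpush.out
  -- faithful flatness over the local ring
  have hff : Module.FaithfullyFlat Ap Cp := by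
    refine ⟨fun m hm => ?_⟩
    rw [Ideal.smul_top_eq_map, IsLocalRing.eq_maximalIdeal hm, ne_eq,
      Submodule.restrictScalars_eq_top_iff]
    intro htop
    let QS : Ideal Cp := Q.map (algebraMap C Cp)
    have hd : Disjoint (Algebra.algebraMapSubmonoid C S : Set C) (Q : Set C) :=
      Set.disjoint_left.2 fun c ⟨a, ha, e⟩ hc => ha (show algebraMap A C a ∈ Q from e ▸ hc)
    have hQS := IsLocalization.isPrime_of_isPrime_disjoint (Algebra.algebraMapSubmonoid C S) Cp Q
      inferInstance hd
    refine hQS.ne_top (top_le_iff.1 (htop.ge.trans ?_))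
    rw [← Localization.AtPrime.map_eq_maximalIdeal, Ideal.map_map, ← IsScalarTower.algebraMap_eq,
      IsScalarTower.algebraMap_eq A C Cp, ← Ideal.map_map]
    exact Ideal.map_mono Ideal.map_comap_le
  -- etaleness at `p` by descent
  letI : Algebra C (Cp ⊗[A] C) := Algebra.TensorProduct.rightAlgebra
  have e : Cp ⊗[C] (C ⊗[A] C) ≃ₐ[Cp] Cp ⊗[Ap] Cp :=
    (Algebra.TensorProduct.cancelBaseChange A C Cp Cp C).trans
      ((Algebra.TensorProduct.cancelBaseChange A Ap Cp Cp C).symm.trans
        (Algebra.TensorProduct.congr AlgEquiv.refl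
          (Algebra.IsPushout.equiv A Ap C Cp)))
  have : Algebra.Etale Cp (Cp ⊗[Ap] Cp) := Algebra.Etale.of_equiv e
  have hCp : Algebra.Etale Ap Cp := Algebra.Etale.of_etale_tensorProduct_of_faithfullyFlat Cp
  -- generators
  obtain ⟨sT, hsT⟩ : (⊤ : Subalgebra C (C ⊗[A] C)).FG := Algebra.FiniteType.out
  have hrep : ∀ z : C ⊗[A] C, ∃ F : Finset C, z ∈ Algebra.adjoin C
      ((fun c => (1 : C) ⊗ₜ[A] c) '' (F : Set C)) := fun z => by
    induction z with
    | zero => exact ⟨∅, zero_mem _⟩
    | tmul a b =>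
      refine ⟨{b}, ?_⟩
      have e : a ⊗ₜ[A] b = a • ((1 : C) ⊗ₜ[A] b) := by rw [TensorProduct.smul_tmul', smul_eq_mul, mul_one]
      rw [e]
      exact Subalgebra.smul_mem _ (Algebra.subset_adjoin (Set.mem_image_of_mem _ (by simp))) a
    | add x y hx hy =>
      obtain ⟨F, hF⟩ := hx
      obtain ⟨G, hG⟩ := hy
      exact ⟨F ∪ G, add_mem (Algebra.adjoin_mono (Set.image_mono (by simp)) hF)
        (Algebra.adjoin_mono (Set.image_mono (by simp)) hG)⟩
  choose Fz hFz using hrep
  obtain ⟨sP, hsP⟩ : (⊤ : Subalgebra Ap Cp).FG := Algebra.FiniteType.out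
  choose num den hnd using fun x : Cp =>
    (IsLocalization.exists_mk'_eq (Algebra.algebraMapSubmonoid C S) x)
  let gens : Finset C := sT.biUnion Fz ∪ sP.image num
  let π : MvPolynomial gens A →ₐ[A] C := MvPolynomial.aeval Subtype.val
  let πp : MvPolynomial gens Ap →ₐ[Ap] Cp :=
    MvPolynomial.aeval fun c => algebraMap C Cp c.1
  have hππ : ∀ r, πp (MvPolynomial.map (algebraMap A Ap) r) = algebraMap C Cp (π r) := fun r => by
    have : (πp.toRingHom.comp (MvPolynomial.map (algebraMap A Ap))) =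
        (algebraMap C Cp).comp π.toRingHom := by
      refine MvPolynomial.ringHom_ext (fun a => ?_) fun i => by simp [π, πp]
      simp [π, πp, ← IsScalarTower.algebraMap_apply]
    exact RingHom.congr_fun this r
  have hπp : Function.Surjective πp := by
    rw [← AlgHom.range_eq_top, eq_top_iff, ← hsP, Algebra.adjoin_le_iff]
    intro x hx
    have hn : algebraMap C Cp (num x) ∈ πp.range :=
      ⟨MvPolynomial.X ⟨num x, Finset.mem_union_right _ (Finset.mem_image_of_mem _ hx)⟩, by simp [πp]⟩
    obtain ⟨a, ha, hax⟩ := (den x).2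
    have hu := IsLocalization.map_units Ap (⟨a, ha⟩ : S)
    rw [SetLike.mem_coe, show x = (↑hu.unit⁻¹ : Ap) • algebraMap C Cp (num x) from ?_]
    · exact Subalgebra.smul_mem _ hn _
    have hau : algebraMap Ap Cp (algebraMap A Ap a) = algebraMap C Cp (den x).1 := by
      rw [← IsScalarTower.algebraMap_apply, IsScalarTower.algebraMap_apply A C Cp, hax]
    rw [Algebra.smul_def]
    calc x = algebraMap Ap Cp (↑hu.unit⁻¹ * algebraMap A Ap a) * x := by simp
      _ = algebraMap Ap Cp ↑hu.unit⁻¹ * (algebraMap C Cp (den x).1 * x) := by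
        rw [map_mul, hau, mul_assoc]
      _ = _ := by rw [mul_comm (algebraMap C Cp _) x, (IsLocalization.eq_mk'_iff_mul_eq).1 (hnd x).symm]
  have : Algebra.FinitePresentation Ap Cp := inferInstance
  obtain ⟨G, hG⟩ : (RingHom.ker πp.toRingHom).FG :=
    Algebra.FinitePresentation.ker_fG_of_surjective πp hπp
  -- integral relations
  letI : Algebra (MvPolynomial gens A) (MvPolynomial gens Ap) := (MvPolynomial.map (algebraMap A Ap)).toAlgebra
  have hloc : IsLocalization (S.map (MvPolynomial.C (σ := gens))) (MvPolynomial gens Ap) :=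
    MvPolynomial.isLocalization S Ap
  have hclear : ∀ g ∈ G, ∃ r : MvPolynomial gens A, π r = 0 ∧ ∃ v : MvPolynomial gens Ap,
      g = MvPolynomial.map (algebraMap A Ap) r * v := fun g hg => by
    obtain ⟨⟨r, s⟩, hrs⟩ := IsLocalization.surj (S.map (MvPolynomial.C (σ := gens))) g
    change g * MvPolynomial.map (algebraMap A Ap) s.1 = MvPolynomial.map (algebraMap A Ap) r at hrs
    have h0 : algebraMap C Cp (π r) = 0 := by
      rw [← hππ, ← hrs, map_mul, show πp g = 0 from hG.le (Ideal.subset_span hg), zero_mul]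
    obtain ⟨⟨_, a, ha, rfl⟩, hma⟩ := (IsLocalization.map_eq_zero_iff (Algebra.algebraMapSubmonoid C S) Cp _).1 h0
    obtain ⟨b, hb, hbs⟩ := s.2
    refine ⟨MvPolynomial.C a * r, by simp [π, Algebra.smul_def] at hma ⊢; simpa using hma, ?_⟩
    have hua := (IsLocalization.map_units Ap (⟨a * b, S.mul_mem ha hb⟩ : S)).map (MvPolynomial.C (σ := gens))
    refine ⟨↑hua.unit⁻¹, ?_⟩
    rw [Units.eq_mul_inv_iff_mul_eq, IsUnit.unit_spec, map_mul (MvPolynomial.map _), MvPolynomial.map_C,
      ← hrs, ← hbs, MvPolynomial.map_C, map_mul, map_mul]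
    ring
  choose r hr0 v hv using fun g : ↥G => hclear g g.2
  let J : Ideal (MvPolynomial gens A) := Ideal.span (Set.range r)
  have hJ : J ≤ RingHom.ker π.toRingHom := Ideal.span_le.2 (Set.range_subset_iff.2 hr0)
  let B := MvPolynomial gens A ⧸ J
  have : Algebra.FinitePresentation A B :=
    Algebra.FinitePresentation.quotient (Submodule.fg_span (Set.finite_range r))
  let φ : B →ₐ[A] C := Ideal.Quotient.liftₐ J π fun x hx => hJ hx
  have hφπ : ∀ x, φ (Ideal.Quotient.mk J x) = π x := fun x => Ideal.Quotient.lift_mk _ _ _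
  have hφk : ∀ b, φ b = 0 → ∃ a ∈ S, a • b = 0 := fun b hb => by
    obtain ⟨x, rfl⟩ := Ideal.Quotient.mk_surjective b
    rw [hφπ] at hb
    have hx : MvPolynomial.map (algebraMap A Ap) x ∈ J.map (MvPolynomial.map (algebraMap A Ap)) := by
      have : MvPolynomial.map (algebraMap A Ap) x ∈ RingHom.ker πp.toRingHom := by
        show πp _ = 0
        rw [hππ, hb, map_zero]
      rw [← hG] at this
      refine Ideal.span_le.2 (fun g hg => ?_) this
      rw [SetLike.mem_coe, show g = _ from hv ⟨g, hg⟩]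
      exact Ideal.mul_mem_right _ _ (Ideal.mem_map_of_mem _ (Ideal.subset_span ⟨_, rfl⟩))
    obtain ⟨⟨⟨j, hj⟩, ⟨_, a, ha, rfl⟩⟩, hjs⟩ :=
      (IsLocalization.mem_map_algebraMap_iff (S.map (MvPolynomial.C (σ := gens))) (MvPolynomial gens Ap)).1 hx
    obtain ⟨⟨_, b, hb', rfl⟩, hbe⟩ := (IsLocalization.eq_iff_exists (S.map (MvPolynomial.C (σ := gens)))
      (MvPolynomial gens Ap)).1 (show algebraMap _ _ (x * MvPolynomial.C a) = algebraMap _ _ j by
        rw [map_mul]; exact hjs)
    refine ⟨b * a, S.mul_mem hb' ha, ?_⟩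
    have e : (b * a) • x = MvPolynomial.C b * (x * MvPolynomial.C a) := by
      rw [MvPolynomial.smul_eq_C_mul, map_mul]; ring
    change Ideal.Quotient.mk J ((b * a) • x) = 0
    rw [Ideal.Quotient.eq_zero_iff_mem, e]
    exact hbe ▸ J.mul_mem_left _ hj
  have hφs : ∀ c : C, ∃ a ∈ S, ∃ b : B, φ b = a • c := fun c => by
    obtain ⟨g, hg⟩ := hπp (algebraMap C Cp c)
    obtain ⟨⟨x, ⟨_, a, ha, rfl⟩⟩, hrs⟩ := IsLocalization.surj (S.map (MvPolynomial.C (σ := gens))) g
    change g * MvPolynomial.map (algebraMap A Ap) (MvPolynomial.C a) = MvPolynomial.map (algebraMap A Ap) x at hrs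
    have he : algebraMap C Cp (π x) = algebraMap C Cp (a • c) := by
      rw [← hππ, ← hrs, map_mul, hg, hππ, Algebra.smul_def, map_mul, mul_comm]
      simp [π]
    obtain ⟨⟨_, b, hb, rfl⟩, hbe⟩ := (IsLocalization.eq_iff_exists (Algebra.algebraMapSubmonoid C S) Cp).1 he
    refine ⟨b * a, S.mul_mem hb ha, Ideal.Quotient.mk J (MvPolynomial.C b * x), ?_⟩
    rw [hφπ, mul_smul, map_mul, Algebra.smul_def, ← hbe]
    simp [π]
  -- surjectivity and kernel of the self base change
  let ψ : C ⊗[A] B →ₐ[C] C ⊗[A] C := Algebra.TensorProduct.map (AlgHom.id C C) φ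
  have hψl : ∀ z, ψ z = φ.toLinearMap.lTensor C z := fun z => by
    induction z with
    | zero => simp
    | tmul a b => simp [ψ]
    | add x y hx hy => simp [map_add, hx, hy]
  have hψs : Function.Surjective ψ := by
    rw [← AlgHom.range_eq_top, eq_top_iff, ← hsT, Algebra.adjoin_le_iff]
    intro z hz
    refine (Algebra.adjoin_le_iff.2 ?_ : Algebra.adjoin C _ ≤ ψ.range) (hFz z)
    rintro _ ⟨c, hc, rfl⟩
    refine ⟨1 ⊗ₜ Ideal.Quotient.mk J
      (MvPolynomial.X ⟨c, Finset.mem_union_left _ (Finset.mem_biUnion.2 ⟨z, hz, hc⟩)⟩), ?_⟩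
    simp [ψ, hφπ, π]
  haveI hfC : Algebra.FinitePresentation C (C ⊗[A] C) := Algebra.Etale.finitePresentation
  obtain ⟨K, hK⟩ : (RingHom.ker ψ.toRingHom).FG :=
    Algebra.FinitePresentation.ker_fG_of_surjective (R := C) (A := C ⊗[A] B) (B := C ⊗[A] C) ψ hψs
  obtain ⟨a₁, ha₁, hK₁⟩ := exists_smul_eq_zero S K fun z hz =>
    torsion_ker_lTensor S φ.toLinearMap hφk z ((hψl z).symm.trans (hK.le (Ideal.subset_span hz)))
  -- etaleness of `B` near the fibre
  let φp : B →+* Cp := (algebraMap C Cp).comp φ.toRingHom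
  letI : Algebra B Cp := φp.toAlgebra
  have : IsScalarTower A B Cp := IsScalarTower.of_algebraMap_eq (R := A) (S := B) (A := Cp) fun a => by
    show _ = algebraMap C Cp (φ (algebraMap A B a))
    rw [φ.commutes, ← IsScalarTower.algebraMap_apply]
  have hBC : ∀ x : B, algebraMap B Cp x = algebraMap C Cp (φ x) := fun _ => rfl
  have hlocB : IsLocalization (Algebra.algebraMapSubmonoid B S) Cp := by
    rw [isLocalization_iff]
    refine ⟨?_, fun z => ?_, fun {x y} hxy => ?_⟩
    · rintro ⟨_, a, ha, rfl⟩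
      rw [← IsScalarTower.algebraMap_apply, IsScalarTower.algebraMap_apply A C Cp]
      exact IsLocalization.map_units Cp (⟨_, a, ha, rfl⟩ : Algebra.algebraMapSubmonoid C S)
    · obtain ⟨⟨c, ⟨_, a, ha, rfl⟩⟩, hz⟩ := IsLocalization.surj (Algebra.algebraMapSubmonoid C S) z
      obtain ⟨b, hb, y, hy⟩ := hφs c
      refine ⟨⟨y, ⟨_, b * a, S.mul_mem hb ha, rfl⟩⟩, ?_⟩
      simp only [hBC, hy, AlgHom.commutes, Algebra.smul_def, map_mul, ← hz]
      ring
    · rw [hBC, hBC] at hxy
      obtain ⟨⟨_, a, ha, rfl⟩, he⟩ :=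
        (IsLocalization.eq_iff_exists (Algebra.algebraMapSubmonoid C S) Cp).1 hxy
      obtain ⟨b, hb, hb0⟩ := hφk (algebraMap A B a * (x - y)) (by
        rw [map_mul, map_sub, φ.commutes, mul_sub, sub_eq_zero]; exact he)
      refine ⟨⟨_, b * a, S.mul_mem hb ha, rfl⟩, ?_⟩
      show algebraMap A B (b * a) * x = algebraMap A B (b * a) * y
      rw [← sub_eq_zero, ← mul_sub, map_mul, mul_assoc, ← Algebra.smul_def]
      exact hb0
  haveI : Algebra.FormallyEtale A Ap := Algebra.FormallyEtale.of_isLocalization S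
  haveI : Algebra.FormallyEtale A Cp := Algebra.FormallyEtale.comp A Ap Cp
  have hloc' : ∀ P : PrimeSpectrum B, (∀ a ∈ S, algebraMap A B a ∉ P.asIdeal) →
      Algebra.IsEtaleAt A P.asIdeal := fun P hP => by
    have hle : Algebra.algebraMapSubmonoid B S ≤ P.asIdeal.primeCompl := by
      rintro _ ⟨a, ha, rfl⟩; exact hP a ha
    letI : Algebra Cp (Localization.AtPrime P.asIdeal) :=
      IsLocalization.localizationAlgebraOfSubmonoidLe Cp _ _ _ hle
    haveI := IsLocalization.localization_isScalarTower_of_submonoid_le Cp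
      (Localization.AtPrime P.asIdeal) _ _ hle
    haveI : IsScalarTower A Cp (Localization.AtPrime P.asIdeal) := IsScalarTower.of_algebraMap_eq fun a => by
      rw [IsScalarTower.algebraMap_apply A B Cp, ← IsScalarTower.algebraMap_apply B Cp (Localization.AtPrime P.asIdeal),
        IsScalarTower.algebraMap_apply A B (Localization.AtPrime P.asIdeal)]
    haveI : IsLocalization (P.asIdeal.primeCompl.map (algebraMap B Cp)) (Localization.AtPrime P.asIdeal) :=
      IsLocalization.isLocalization_of_submonoid_le Cp _ _ _ hle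
    haveI : Algebra.FormallyEtale Cp (Localization.AtPrime P.asIdeal) :=
      Algebra.FormallyEtale.of_isLocalization (P.asIdeal.primeCompl.map (algebraMap B Cp))
    exact Algebra.FormallyEtale.comp A Cp _
  obtain ⟨I, hI⟩ := (PrimeSpectrum.isClosed_iff_zeroLocus_ideal _).1
    (Algebra.isOpen_etaleLocus (R := A) (A := B)).isClosed_compl
  have hIS : ¬ Disjoint (Algebra.algebraMapSubmonoid B S : Set B) (I : Set B) := fun hd => by
    obtain ⟨P, hP, hIP, hPd⟩ := Ideal.exists_le_prime_disjoint I (Algebra.algebraMapSubmonoid B S)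
      hd.symm
    have h1 := hloc' ⟨P, hP⟩ fun a ha hm => Set.disjoint_left.1 hPd hm ⟨a, ha, rfl⟩
    exact (hI.ge (show (⟨P, hP⟩ : PrimeSpectrum B) ∈ PrimeSpectrum.zeroLocus (I : Set B) from hIP)) h1
  obtain ⟨_, ⟨a₂, ha₂, rfl⟩, ha₂I⟩ := Set.not_disjoint_iff.1 hIS
  have hbasic : ∀ a, algebraMap A B a₂ ∣ algebraMap A B a →
      (PrimeSpectrum.basicOpen (algebraMap A B a) : Set (PrimeSpectrum B)) ⊆ Algebra.etaleLocus A B :=
    fun a hdvd P hP => by
      by_contra h
      exact hP (P.asIdeal.mem_of_dvd hdvd ((hI.le h) ha₂I))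
  haveI het₂ := Algebra.basicOpen_subset_etaleLocus_iff_etale.1 (hbasic a₂ dvd_rfl)
  -- the image of the etale locus
  let q : Ideal B := Q.comap φ.toRingHom
  have hqp : q.comap (algebraMap A B) = p := by
    rw [Ideal.comap_comap]
    exact congrArg (fun f => Ideal.comap f Q) φ.comp_algebraMap
  have ha₂q : algebraMap A B a₂ ∉ q := fun h => ha₂ (hqp.le h)
  haveI : Algebra.FinitePresentation A (Localization.Away (algebraMap A B a₂)) := inferInstance
  haveI : Module.Flat A (Localization.Away (algebraMap A B a₂)) := inferInstance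
  have hopen := PrimeSpectrum.isOpenMap_comap_of_hasGoingDown_of_finitePresentation
    (R := A) (S := Localization.Away (algebraMap A B a₂))
  obtain ⟨_, ⟨a₃, rfl⟩, ha₃p, ha₃⟩ := PrimeSpectrum.isTopologicalBasis_basic_opens.exists_subset_of_mem_open
    (a := (⟨p, inferInstance⟩ : PrimeSpectrum A)) (u := Set.range (PrimeSpectrum.comap (algebraMap A (Localization.Away (algebraMap A B a₂)))))
    (by
      have hq : (⟨q, inferInstance⟩ : PrimeSpectrum B) ∈
          Set.range (PrimeSpectrum.comap (algebraMap B (Localization.Away (algebraMap A B a₂)))) := by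
        rw [PrimeSpectrum.localization_away_comap_range _ (algebraMap A B a₂)]
        exact ha₂q
      obtain ⟨P, hP⟩ := hq
      refine ⟨P, ?_⟩
      rw [IsScalarTower.algebraMap_eq A B (Localization.Away (algebraMap A B a₂)), PrimeSpectrum.comap_comp_apply, hP]
      exact PrimeSpectrum.ext hqp)
    hopen.isOpen_range
  have hh : a₁ * a₂ * a₃ ∈ S := S.mul_mem (S.mul_mem ha₁ ha₂) ha₃p
  refine ⟨a₁ * a₂ * a₃, B, inferInstance, inferInstance, φ, hh, ?_, ?_, fun z hz => ?_, fun P hP => ?_⟩
  · exact Algebra.basicOpen_subset_etaleLocus_iff_etale.1 (hbasic _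
      (map_dvd _ ⟨a₁ * a₃, by ring⟩))
  · exact fun z => (hψs z).imp fun y hy => (hψl y).symm.trans hy
  · have hzK : z ∈ Ideal.span (K : Set (C ⊗[A] B)) := hK.ge ((hψl z).trans hz)
    have hz₁ : a₁ • z = 0 := by
      clear hz
      induction hzK using Submodule.span_induction with
      | mem x hx => exact hK₁ x hx
      | zero => exact smul_zero _
      | add x y _ _ hx hy => rw [smul_add, hx, hy, add_zero]
      | smul c x _ hx => rw [smul_comm, hx, smul_zero]
    rw [show a₁ * a₂ * a₃ = a₂ * a₃ * a₁ by ring, mul_smul, hz₁, smul_zero]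
  · obtain ⟨P', hP'⟩ := ha₃ (show P ∈ PrimeSpectrum.basicOpen a₃ from fun h =>
      hP (P.asIdeal.mul_mem_left _ h))
    refine ⟨PrimeSpectrum.comap (algebraMap B _) P', ?_⟩
    rw [← PrimeSpectrum.comap_comp_apply, ← IsScalarTower.algebraMap_eq A B (Localization.Away (algebraMap A B a₂)), hP']

end Groth.Agent.AlgSpDecent.FlatMonoRing
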