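import Groth.Agent.Lib.AlgSpDecent.FlatAt
import Groth.Agent.Lib.AlgSpDecent.LocNoeth
import Groth.Agent.Lib.Goren15.Scheme
import Groth.Agent.Lib.Weight4.Mult
import Groth.Prelude.Def_AlgSpDec
import Mathlib.AlgebraicGeometry.Morphisms.FlatMono

/-!
# The Gorenstein property at a point, read on charts
-/

universe u

set_option backward.isDefEq.respectTransparency.types false

open CategoryTheory CategoryTheory.Limits AlgebraicGeometry AlgSp Opposite Topology
open Groth.Agent.AlgSpace Groth.Agent.AlgSpDecent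

namespace Groth.Agent.AlgSpDecent.GorAt

open Goren15 IsLocalRing

section Scheme

/-- An etale morphism on the target does not change the closed fibre. -/
theorem nonempty_fibQuot_comp_etale {A B C : Scheme.{u}} (m : A ⟶ B) (d : B ⟶ C) [Etale d] (z : A) :
    Nonempty (FibQuot (m ≫ d) z ≃+* FibQuot m z) := by
  refine ⟨Ideal.quotEquivOfEq ?_⟩
  have h : ((m ≫ d).stalkMap z).hom = (m.stalkMap z).hom.comp (d.stalkMap (m z)).hom := by
    rw [Scheme.Hom.stalkMap_comp]; rfl
  rw [h]
  have key := Groth.Agent.Weight.map_maximalIdeal_eq (d.stalkMap (m z)).hom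
      (FormallyUnramified.stalkMap d (m z)) (LocallyOfFiniteType.stalkMap d (m z))
  exact (Ideal.map_map _ _).symm.trans (congrArg (Ideal.map _) key)

/-- An etale morphism on the source does not change whether the closed fibre is Gorenstein. -/
theorem gorenstein_fibQuot_etale_comp {A B C : Scheme.{u}} (e : A ⟶ B) (h : B ⟶ C) [Etale e] (z : A)
    (hA : IsNoetherianRing (FibQuot (e ≫ h) z)) (hB : IsNoetherianRing (FibQuot h (e z))) :
    LocCoh.IsGorensteinLocalRing (FibQuot (e ≫ h) z) ↔ LocCoh.IsGorensteinLocalRing (FibQuot h (e z)) := by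
  let φ := (h.stalkMap (e z)).hom
  let ψ := (e.stalkMap z).hom
  have hcomp : ((e ≫ h).stalkMap z).hom = ψ.comp φ := by rw [Scheme.Hom.stalkMap_comp]; rfl
  let E : FibQuot (e ≫ h) z ≃+* (A.presheaf.stalk z ⧸ (maximalIdeal _).map (ψ.comp φ)) :=
    Ideal.quotEquivOfEq (by rw [hcomp]; rfl)
  have hC := isNoetherianRing_of_ringEquiv _ E
  rw [isGorensteinLocalRing_iff_of_ringEquiv E,
    gorenstein_fibre_comp φ ψ (Flat.stalkMap e z) hB hC, and_iff_left_iff_imp]
  intro _
  have hm : (maximalIdeal (B.presheaf.stalk (e z))).map ψ = maximalIdeal (A.presheaf.stalk z) :=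
    Groth.Agent.Weight.map_maximalIdeal_eq _
      (FormallyUnramified.stalkMap e z) (LocallyOfFiniteType.stalkMap e z)
  haveI : Nontrivial (A.presheaf.stalk z ⧸ maximalIdeal (A.presheaf.stalk z)) :=
    Ideal.Quotient.nontrivial_iff.2 (maximalIdeal.isMaximal _).ne_top
  letI : Field (A.presheaf.stalk z ⧸ maximalIdeal (A.presheaf.stalk z)) := Ideal.Quotient.field _
  refine (isGorensteinLocalRing_iff_of_ringEquiv (Ideal.quotEquivOfEq hm)).2 ?_
  exact gorenstein_of_injective _ (Module.injective_of_isSemisimpleRing _ _)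

end Scheme

variable {S : Scheme.{u}} {X Y : Sp S} {f : X ⟶ Y}

variable (f) in
/-- All fibres over field points are locally Noetherian. -/
def NoethFibres : Prop :=
  ∀ (k : FieldPt Y) (Xk : Sp S) (a : Xk ⟶ X) (b : Xk ⟶ (yon S).obj k.pt),
    IsPullback a b f k.toHom → IsLocNoethSp Xk

variable {U V : Over S} {a : (yon S).obj U ⟶ X} {b : (yon S).obj V ⟶ Y} {h : U ⟶ V}

/-- Fibres of chart diagrams are locally Noetherian. -/
theorem isLocallyNoetherian_fiber (hf : NoethFibres f) (ha : RepWith @Etale a) (hb : RepWith @Etale b)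
    (w : a ≫ f = (yon S).map h ≫ b) (v : ↥V.left) : IsLocallyNoetherian (h.left.fiber v) := by
  let k := FieldPt.ofPt b v
  let res : k.pt ⟶ V := Over.homMk (V.left.fromSpecResidueField v) rfl
  have hk : k.toHom = (yon S).map res ≫ b := FieldPt.toHom_ofPt b v
  have sqW := hb.1.isPullback' k.toHom
  let d₁ := hb.1.fst' k.toHom
  let d₂ := hb.1.snd k.toHom
  haveI : Etale d₂.left := hb.2 k.toHom _ _ (hb.1.isPullback k.toHom)
  let P : Over S := pullback h d₁
  have sqP := (IsPullback.of_hasPullback h d₁).map (yon S)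
  have big : IsPullback ((yon S).map (pullback.fst h d₁)) ((yon S).map (pullback.snd h d₁ ≫ d₂))
      (a ≫ f) k.toHom := by
    rw [w, Functor.map_comp]
    exact sqP.paste_vert sqW
  let Xk := pullback f k.toHom
  have sqX : IsPullback (pullback.fst f k.toHom) (pullback.snd f k.toHom) f k.toHom :=
    IsPullback.of_hasPullback _ _
  let r : (yon S).obj P ⟶ Xk := sqX.lift ((yon S).map (pullback.fst h d₁) ≫ a)
    ((yon S).map (pullback.snd h d₁ ≫ d₂)) (by rw [Category.assoc]; exact big.w)
  have sqr : IsPullback ((yon S).map (pullback.fst h d₁)) r a (pullback.fst f k.toHom) :=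
    IsPullback.of_bot (by rw [sqX.lift_snd]; exact big) (sqX.lift_fst _ _ _).symm sqX
  haveI hPn : IsLocallyNoetherian P.left :=
    isLocallyNoetherian_of_etale_chart (hf k Xk _ _ sqX) (repWith_of_isPullback sqr ha)
  obtain ⟨s, hs⟩ := (yon S).map_surjective (sqW.lift ((yon S).map res) (𝟙 _) (by rw [Category.id_comp, hk]))
  have hs₁ : s ≫ d₁ = res := (yon S).map_injective (by rw [Functor.map_comp, hs, sqW.lift_fst])
  have hs₂ : s ≫ d₂ = 𝟙 _ := (yon S).map_injective (by
    rw [Functor.map_comp, hs, sqW.lift_snd]; simp)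
  have hs₂' : s.left ≫ d₂.left = 𝟙 _ := congrArg CommaMorphism.left hs₂
  have hs₁' : s.left ≫ d₁.left = V.left.fromSpecResidueField v := congrArg CommaMorphism.left hs₁
  haveI : Mono s.left := mono_of_mono_fac hs₂'
  haveI : Etale (s.left ≫ d₂.left) := by rw [hs₂']; infer_instance
  haveI : Etale s.left := Etale.of_comp s.left d₂.left
  have hso : IsOpenImmersion s.left := IsOpenImmersion.of_flat_of_mono s.left
  have sqL := (IsPullback.of_hasPullback h d₁).map (Over.forget S)
  change IsLocallyNoetherian (pullback h.left (V.left.fromSpecResidueField v))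
  let t : pullback h.left (V.left.fromSpecResidueField v) ⟶ P.left :=
    sqL.lift (pullback.fst _ _) (pullback.snd _ _ ≫ s.left) (by
      show pullback.fst _ _ ≫ h.left = (pullback.snd _ _ ≫ s.left) ≫ d₁.left
      rw [Category.assoc, hs₁', pullback.condition])
  have sqt : IsPullback t (pullback.snd h.left (V.left.fromSpecResidueField v)) (pullback.snd h d₁).left s.left := by
    refine IsPullback.of_right ?_ (sqL.lift_snd _ _ _) sqL
    have e1 : t ≫ (Over.forget S).map (pullback.fst h d₁) = pullback.fst _ _ := sqL.lift_fst _ _ _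
    rw [e1]
    show IsPullback (pullback.fst _ _) (pullback.snd _ _) h.left (s.left ≫ d₁.left)
    rw [hs₁']
    exact IsPullback.of_hasPullback _ _
  haveI : IsOpenImmersion t := MorphismProperty.of_isPullback (P := @IsOpenImmersion) sqt.flip hso
  exact isLocallyNoetherian_of_isOpenImmersion t

theorem isNoetherianRing_fibQuot (hf : NoethFibres f) (ha : RepWith @Etale a) (hb : RepWith @Etale b)
    (w : a ≫ f = (yon S).map h ≫ b) (u : ↥U.left) : IsNoetherianRing (FibQuot h.left u) :=
  Goren15.isNoetherianRing_fibQuot h.left u (isLocallyNoetherian_fiber hf ha hb w _)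

theorem isGorensteinAt_congr {A B : Scheme.{u}} (m : A ⟶ B) {x y : A} (h : x = y)
    (hx : Dual3.IsGorensteinAt m x) : Dual3.IsGorensteinAt m y := h ▸ hx

/-- Gorenstein at a point can be read on any chart diagram through it. -/
theorem locPAt_gorenstein_iff (hf : NoethFibres f) (ha : RepWith @Etale a) (hb : RepWith @Etale b)
    (w : a ≫ f = (yon S).map h ≫ b) (u : ↥U.left) :
    LocPAt (fun h u => Dual3.IsGorensteinAt h u) f (Points.ofPt a u) ↔ Dual3.IsGorensteinAt h.left u := by
  refine ⟨fun H => H a b h u ha hb w rfl, fun H U' V' a' b' h' u' ha' hb' w' he => ?_⟩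
  have hflat' : (h'.left.stalkMap u').hom.Flat :=
    ((FlatAt.isFlatAtMor_iff ha hb w u).2 H.1) a' b' h' u' ha' hb' w' he
  refine (isGorensteinAt_iff _ _).2 ⟨hflat', ?_⟩
  have sqU := ha.1.isPullback' a'
  have sqV := hb.1.isPullback' b'
  let e₁ := ha.1.fst' a'
  let e₂ := ha.1.snd a'
  let d₁ := hb.1.fst' b'
  let d₂ := hb.1.snd b'
  have : Etale e₂.left := ha.2 a' _ _ (ha.1.isPullback a')
  have : Etale e₁.left := ha'.2 a _ _ sqU.flip
  have : Etale d₂.left := hb.2 b' _ _ (hb.1.isPullback b')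
  have : Etale d₁.left := hb'.2 b _ _ sqV.flip
  obtain ⟨z, hz₁, hz₂⟩ := exists_pt_of_isPullback sqU (x := Points.ofScheme U u) (t := u')
    (by rw [← Points.ofPt_eq_map_ofScheme]; exact he.symm)
  rw [ofPt_map_eq] at hz₁
  replace hz₁ : e₁.left z = u := (Points.schemeEquiv U).injective hz₁
  obtain ⟨m, hm⟩ := (yon S).map_surjective (sqV.lift ((yon S).map (e₁ ≫ h))
    ((yon S).map (e₂ ≫ h')) (by
      rw [Functor.map_comp, Functor.map_comp, Category.assoc, Category.assoc, ← w, ← w',
        ← Category.assoc, sqU.w, Category.assoc]))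
  have hm₁ : m ≫ d₁ = e₁ ≫ h := (yon S).map_injective (by
    rw [Functor.map_comp, hm, sqV.lift_fst])
  have hm₂ : m ≫ d₂ = e₂ ≫ h' := (yon S).map_injective (by
    rw [Functor.map_comp, hm, sqV.lift_snd])
  have haP : RepWith @Etale ((yon S).map e₁ ≫ a) := repWith_comp (repWith_of_isPullback sqU.flip ha') ha
  have hbQ : RepWith @Etale ((yon S).map d₁ ≫ b) := repWith_comp (repWith_of_isPullback sqV.flip hb') hb
  have hwP : ((yon S).map e₁ ≫ a) ≫ f = (yon S).map m ≫ (yon S).map d₁ ≫ b := by
    rw [Category.assoc, w, ← Functor.map_comp_assoc, ← hm₁, Functor.map_comp_assoc]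
  have nP : IsNoetherianRing (FibQuot m.left z) := isNoetherianRing_fibQuot hf haP hbQ hwP z
  obtain ⟨E1⟩ := nonempty_fibQuot_comp_etale m.left d₁.left z
  obtain ⟨E2⟩ := nonempty_fibQuot_comp_etale m.left d₂.left z
  have hm₁' : m.left ≫ d₁.left = e₁.left ≫ h.left := congrArg CommaMorphism.left hm₁
  have hm₂' : m.left ≫ d₂.left = e₂.left ≫ h'.left := congrArg CommaMorphism.left hm₂
  rw [hm₁'] at E1
  rw [hm₂'] at E2
  have n1 : IsNoetherianRing (FibQuot (e₁.left ≫ h.left) z) := isNoetherianRing_of_ringEquiv _ E1.symm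
  have n2 : IsNoetherianRing (FibQuot (e₂.left ≫ h'.left) z) := isNoetherianRing_of_ringEquiv _ E2.symm
  have g1 : LocCoh.IsGorensteinLocalRing (FibQuot (e₁.left ≫ h.left) z) :=
    (gorenstein_fibQuot_etale_comp e₁.left h.left z n1 (isNoetherianRing_fibQuot hf ha hb w _)).2
      ((isGorensteinAt_iff _ _).1 (isGorensteinAt_congr h.left hz₁.symm H)).2
  have g2 := (isGorensteinLocalRing_iff_of_ringEquiv (E1.trans E2.symm)).1 g1
  have g3 := (gorenstein_fibQuot_etale_comp e₂.left h'.left z n2
    (isNoetherianRing_fibQuot hf ha' hb' w' _)).1 g2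
  have key : ∀ y, e₂.left z = y → LocCoh.IsGorensteinLocalRing (FibQuot h'.left y) := by
    rintro _ rfl
    exact g3
  exact key u' hz₂

end Groth.Agent.AlgSpDecent.GorAt
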