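import Groth.Agent.Lib.AlgSpDecent.GorensteinSpace
import Mathlib.CategoryTheory.Limits.Constructions.Over.Connected

/-!
# Fibres of a chart adapted to a chart of the target
-/

universe u

set_option backward.isDefEq.respectTransparency.types false

open CategoryTheory CategoryTheory.Limits AlgebraicGeometry AlgSp Opposite Topology
open Groth.Agent.AlgSpace Groth.Agent.AlgSpDecent

namespace Groth.Agent.AlgSpDecent.GorAt

variable {S : Scheme.{u}} {X Y : Sp S}

/-- A chart of the source over a chart of the target whose fibres cover the fibres. -/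
theorem exists_chart_fibres (hX : IsAlgSpace X) (hY : IsAlgSpace Y) (f : X ⟶ Y) {V : Over S}
    {b : (yon S).obj V ⟶ Y} (hb : RepWith @Etale b) :
    ∃ (U : Over S) (a : (yon S).obj U ⟶ X) (h : U ⟶ V), RepWith @Etale a ∧
      (RepWith @Surjective b → RepWith @Surjective a) ∧ a ≫ f = (yon S).map h ≫ b ∧
      ∀ (v : V.left) (Xv : Sp S) (a' : Xv ⟶ X)
        (c : Xv ⟶ (yon S).obj (Over.mk (V.left.fromSpecResidueField v ≫ V.hom))),
        IsPullback a' c f ((yon S).map (Over.homMk (V.left.fromSpecResidueField v) rfl :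
          Over.mk (V.left.fromSpecResidueField v ≫ V.hom) ⟶ V) ≫ b) →
        ∃ (T : Over S) (p : (yon S).obj T ⟶ Xv), RepWith @Etale p ∧ RepWith @Surjective p ∧
          Nonempty (T.left ≅ h.left.fiber v) := by
  have sq := IsPullback.of_hasPullback f b
  obtain ⟨U, r, hre, hrs⟩ := (isAlgSpace_pullback hY hX (IsAlgSpace.yon_obj V) sq).atlas
  let h : U ⟶ V := (yon S).preimage (r ≫ pullback.snd f b)
  refine ⟨U, r ≫ pullback.fst f b, h, repWith_comp hre (repWith_of_isPullback sq.flip hb),
    fun hbs => repWith_comp hrs (repWith_of_isPullback sq.flip hbs), by simp [h, pullback.condition],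
    fun v Xv a' c sqc => ?_⟩
  let res : Over.mk (V.left.fromSpecResidueField v ≫ V.hom) ⟶ V :=
    Over.homMk (V.left.fromSpecResidueField v) rfl
  let T := pullback h res
  let ν : Xv ⟶ pullback f b := sq.lift a' (c ≫ (yon S).map res) (by rw [Category.assoc]; exact sqc.w)
  have sqν : IsPullback ν c (pullback.snd f b) ((yon S).map res) :=
    IsPullback.of_right (by rw [sq.lift_fst]; exact sqc) (sq.lift_snd _ _ _) sq
  have sqT : IsPullback ((yon S).map (pullback.fst h res)) ((yon S).map (pullback.snd h res))
      (r ≫ pullback.snd f b) ((yon S).map res) := by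
    have := (IsPullback.of_hasPullback h res).map (yon S)
    rwa [(yon S).map_preimage] at this
  let p : (yon S).obj T ⟶ Xv := sqν.lift ((yon S).map (pullback.fst h res) ≫ r)
    ((yon S).map (pullback.snd h res)) (by rw [Category.assoc]; exact sqT.w)
  have sqp : IsPullback ((yon S).map (pullback.fst h res)) p r ν :=
    IsPullback.of_bot (by rw [sqν.lift_snd]; exact sqT) (sqν.lift_fst _ _ _).symm sqν
  refine ⟨T, p, repWith_of_isPullback sqp hre, repWith_of_isPullback sqp hrs, ⟨?_⟩⟩
  exact ((IsPullback.of_hasPullback h res).map (Over.forget S)).isoPullback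

/-- Flatness of a chart map follows from flatness at all its points. -/
theorem locP_flat_of_gorensteinAt {f : X ⟶ Y}
    (H : ∀ x, LocPAt (fun h u => Dual3.IsGorensteinAt h u) f x) : LocP @Flat f := by
  intro U V a b h ha hb w
  exact (Flat.iff_flat_stalkMap h.left).2 fun u => (H (Points.ofPt a u) a b h u ha hb w rfl).1

/-- The fibres of a chart map with Gorenstein points are Gorenstein schemes. -/
theorem isGorenstein_fiber {f : X ⟶ Y} (hf : NoethFibres f) {U V : Over S} {a : (yon S).obj U ⟶ X}
    {b : (yon S).obj V ⟶ Y} {h : U ⟶ V} (ha : RepWith @Etale a) (hb : RepWith @Etale b)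
    (w : a ≫ f = (yon S).map h ≫ b) (H : ∀ u, Dual3.IsGorensteinAt h.left u) (v : V.left) :
    Dual3.IsGorenstein (h.left.fiber v) := by
  refine ⟨isLocallyNoetherian_fiber hf ha hb w v, fun z => ?_⟩
  obtain ⟨e⟩ := Goren15.nonempty_fibreStalkEquiv h.left z
  exact (Goren15.isGorensteinLocalRing_iff_of_ringEquiv e).1 ((Goren15.isGorensteinAt_iff _ _).1 (H _)).2

/-- Transport of the Gorenstein property along an isomorphism. -/
theorem gorenstein_stalk_of_iso {A B : Scheme.{u}} (e : A ≅ B)
    (h : ∀ a : A, LocCoh.IsGorensteinLocalRing (A.presheaf.stalk a)) (b : B) :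
    LocCoh.IsGorensteinLocalRing (B.presheaf.stalk b) :=
  (Goren15.isGorensteinLocalRing_iff_of_ringEquiv (asIso (e.inv.stalkMap b)).commRingCatIsoToRingEquiv).1
    (h (e.inv b))

end Groth.Agent.AlgSpDecent.GorAt
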