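import Groth.Agent.Lib.AlgSpDecent.GorensteinAt
import Groth.Agent.Lib.AlgSpDecent.HasAtChart
import Groth.Agent.Lib.Goren15.Scheme
import Groth.Agent.Lib.AlgSpace.LocP

/-!
# Gorenstein algebraic spaces, read on charts
-/

universe u

set_option backward.isDefEq.respectTransparency.types false

open CategoryTheory CategoryTheory.Limits AlgebraicGeometry AlgSp Opposite Topology IsLocalRing
open Groth.Agent.AlgSpace Groth.Agent.AlgSpDecent

namespace Groth.Agent.AlgSpDecent.GorAt

/-- A flat local map whose closed fibre is a field neither creates nor destroys Gorensteinness. -/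
theorem gorenstein_iff_of_map_maximalIdeal (A : Type u) [CommRing A] [IsLocalRing A] [IsNoetherianRing A]
    (B : Type u) [CommRing B] [IsLocalRing B] [IsNoetherianRing B] [Algebra A B]
    [IsLocalHom (algebraMap A B)] [Module.Flat A B]
    (hm : (maximalIdeal A).map (algebraMap A B) = maximalIdeal B) :
    LocCoh.IsGorensteinLocalRing B ↔ LocCoh.IsGorensteinLocalRing A := by
  rw [Goren15.gorenstein_flat_local_iff A B, and_iff_left_iff_imp]
  intro _
  haveI : Nontrivial (B ⧸ maximalIdeal B) :=
    Ideal.Quotient.nontrivial_iff.2 (maximalIdeal.isMaximal _).ne_top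
  letI : Field (B ⧸ maximalIdeal B) := Ideal.Quotient.field _
  refine (Goren15.isGorensteinLocalRing_iff_of_ringEquiv (Ideal.quotEquivOfEq hm)).2 ?_
  exact Goren15.gorenstein_of_injective _ (Module.injective_of_isSemisimpleRing _ _)

/-- Gorensteinness of local rings is etale local. -/
theorem gorenstein_stalk_etale {A B : Scheme.{u}} [IsLocallyNoetherian B] (e : A ⟶ B) [Etale e] (a : A) :
    LocCoh.IsGorensteinLocalRing (A.presheaf.stalk a) ↔
      LocCoh.IsGorensteinLocalRing (B.presheaf.stalk (e a)) := by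
  haveI : IsLocallyNoetherian A := LocallyOfFiniteType.isLocallyNoetherian e
  algebraize [(e.stalkMap a).hom]
  haveI : IsLocalHom (algebraMap (B.presheaf.stalk (e a)) (A.presheaf.stalk a)) :=
    inferInstanceAs (IsLocalHom (e.stalkMap a).hom)
  haveI : Module.Flat (B.presheaf.stalk (e a)) (A.presheaf.stalk a) := Flat.stalkMap e a
  exact gorenstein_iff_of_map_maximalIdeal _ _
    (Groth.Agent.Weight.map_maximalIdeal_eq (e.stalkMap a).hom
      (FormallyUnramified.stalkMap e a) (LocallyOfFiniteType.stalkMap e a))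

variable {S : Scheme.{u}} {X : Sp S}

/-- On a Gorenstein algebraic space every chart has Gorenstein local rings. -/
theorem gorenstein_stalk_of_chart (hX : EtaleLocally Dual3.IsGorenstein X) {U : Over S}
    {a : (yon S).obj U ⟶ X} (ha : RepWith @Etale a) (u : U.left) :
    LocCoh.IsGorensteinLocalRing (U.left.presheaf.stalk u) := by
  obtain ⟨U₀, a₀, ha₀, has₀, hn, hg⟩ := hX
  obtain ⟨u₀, hu₀⟩ := surjective_ofPt has₀ (Points.ofPt a u)
  obtain ⟨Z, p, q, z, hp, hq, hpz, hqz⟩ := exists_common_chart ha₀ ha hu₀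
  haveI := hn
  haveI : IsLocallyNoetherian U.left := isLocallyNoetherian_of_etale_chart ⟨U₀, a₀, ha₀, has₀, hn⟩ ha
  rw [← hqz, ← gorenstein_stalk_etale q.left z, gorenstein_stalk_etale p.left z]
  exact hg _

/-- Charts of a map over a prescribed chart of the target, through a prescribed pair of points. -/
theorem exists_chart_pt {X Y : Sp S} (hX : IsAlgSpace X) (hY : IsAlgSpace Y) (f : X ⟶ Y) (x : Points X)
    {V : Over S} {b : (yon S).obj V ⟶ Y} (hb : RepWith @Etale b) (v : V.left)
    (hv : Points.ofPt b v = Points.map f x) :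
    ∃ (U : Over S) (a : (yon S).obj U ⟶ X) (h : U ⟶ V) (u : U.left), RepWith @Etale a ∧
      a ≫ f = (yon S).map h ≫ b ∧ Points.ofPt a u = x ∧ h.left u = v := by
  have sq := IsPullback.of_hasPullback f b
  obtain ⟨w, hw₁, hw₂⟩ := exists_point_lift sq x (Points.ofScheme V v)
    (by rw [← Points.ofPt_eq_map_ofScheme]; exact hv.symm)
  obtain ⟨U, r, hre, hrs⟩ := (isAlgSpace_pullback hY hX (IsAlgSpace.yon_obj V) sq).atlas
  obtain ⟨u, rfl⟩ := surjective_ofPt hrs w
  refine ⟨U, r ≫ pullback.fst f b, (yon S).preimage (r ≫ pullback.snd f b), u,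
    repWith_comp hre (repWith_of_isPullback sq.flip hb), by simp [pullback.condition], ?_, ?_⟩
  · rw [← hw₁, Points.map_ofPt]
  · rw [Points.map_ofPt, ← (yon S).map_preimage (r ≫ pullback.snd f b), ofPt_map_eq] at hw₂
    exact (Points.schemeEquiv V).injective hw₂

end Groth.Agent.AlgSpDecent.GorAt
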