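import Groth.Agent.Lib.AlgSpDecent.Basic2
import Mathlib.AlgebraicGeometry.Morphisms.Immersion
import Mathlib.AlgebraicGeometry.Fiber
import Mathlib.AlgebraicGeometry.Morphisms.FlatMono
import Mathlib.LinearAlgebra.TensorProduct.Finiteness
import Mathlib.FieldTheory.IsAlgClosed.AlgebraicClosure

/-!
# Locally separated spaces are decent

A function on `U ×_ℤ U` of tensor rank `k` which is nonzero on the diagonal at every member of a
finite family of geometric points and zero on the pairs of distinct members bounds the family by `k`.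
As the relation of a chart of a locally separated space minus its identity is closed in a
neighbourhood of the diagonal, this bounds the geometric fibres of the chart.
-/

universe u

set_option backward.isDefEq.respectTransparency.types false

open CategoryTheory CategoryTheory.Limits AlgebraicGeometry AlgSp Opposite Topology TensorProduct
open Groth.Agent.AlgSpace

namespace Groth.Agent.AlgSpDecent

/-- The rank bound. -/
theorem card_le_of_diagonal_evaluation {k A Ω : Type u} [CommRing k] [CommRing A] [Algebra k A] [Field Ω] {ι : Type*} [Fintype ι]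
    (fs : Finset (A × A)) (p : ι → (A →+* Ω)) (ψ : ι → ι → (A ⊗[k] A →+* Ω))
    (hl : ∀ j l a, ψ j l (a ⊗ₜ 1) = p j a) (hr : ∀ j l a, ψ j l (1 ⊗ₜ a) = p l a)
    (hoff : ∀ j l, j ≠ l → ψ j l (∑ x ∈ fs, x.1 ⊗ₜ x.2) = 0)
    (hdiag : ∀ j, ψ j j (∑ x ∈ fs, x.1 ⊗ₜ x.2) ≠ 0) : Fintype.card ι ≤ fs.card := by
  classical
  have hψ : ∀ j l a b, ψ j l (a ⊗ₜ b) = p j a * p l b := fun j l a b => by
    rw [← hl j l, ← hr j l, ← map_mul, Algebra.TensorProduct.tmul_mul_tmul, mul_one, one_mul]
  let v : ι → (fs → Ω) := fun j i => p j i.1.1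
  have hv : LinearIndependent Ω v := by
    rw [Fintype.linearIndependent_iff]
    intro g hg l
    have h1 : ∑ i : fs, (∑ j, g j • v j) i * p l i.1.2 = 0 := by
      simp only [hg, Pi.zero_apply, zero_mul, Finset.sum_const_zero]
    have h2 : ∑ i : fs, (∑ j, g j • v j) i * p l i.1.2 =
        ∑ j, g j * ψ j l (∑ x ∈ fs, x.1 ⊗ₜ x.2) := by
      simp only [Finset.sum_apply, Pi.smul_apply, smul_eq_mul, Finset.sum_mul, map_sum, hψ,
        Finset.mul_sum]
      rw [Finset.sum_comm]
      refine Finset.sum_congr rfl fun j _ => ?_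
      rw [← Finset.sum_coe_sort fs (fun x => g j * (p j x.1 * p l x.2))]
      exact Finset.sum_congr rfl fun i _ => mul_assoc _ _ _
    rw [h1, Finset.sum_eq_single l (fun j _ hj => by rw [hoff j l hj, mul_zero]) (by simp)] at h2
    exact (mul_eq_zero.1 h2.symm).resolve_right (hdiag l)
  simpa using hv.fintype_card_le_finrank

/-- Points of an algebraic field valued family in distinct points of a finite-type étale fibre. -/
theorem exists_geometric_lift {K Ω : Type u} [Field K] [Field Ω] [IsAlgClosed Ω] [Algebra K Ω]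
    {T : Scheme.{u}} (c : T ⟶ Spec (CommRingCat.of K)) [Etale c] (x : T) :
    ∃ z : Spec (CommRingCat.of Ω) ⟶ T,
      z ≫ c = Spec.map (CommRingCat.ofHom (algebraMap K Ω)) ∧
      z (IsLocalRing.closedPoint Ω) = x := by
  let O : T.Opens := ⟨{x}, isOpen_singleton_of_etale_field c x⟩
  have : Subsingleton O := ⟨fun a b => Subtype.ext ((a.2 : a.1 = x).trans (b.2 : b.1 = x).symm)⟩
  have hfin := isFinite_open_subsingleton c O
  have : IsAffine O.toScheme := isAffine_of_isAffineHom (O.ι ≫ c)
  obtain ⟨B, _, _, e, he⟩ := exists_spec_form (O.ι ≫ c)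
  have : Nonempty (PrimeSpectrum B) := ⟨e.hom ⟨x, rfl⟩⟩
  have : Nontrivial B := PrimeSpectrum.nonempty_iff_nontrivial.1 this
  have hB : Module.Finite K B := by
    have h : IsFinite (Spec.map (CommRingCat.ofHom (algebraMap K B))) :=
      (MorphismProperty.cancel_left_of_respectsIso @IsFinite e.hom _).1 (he ▸ hfin)
    rwa [IsFinite.SpecMap_iff, CommRingCat.hom_ofHom, RingHom.finite_algebraMap] at h
  obtain ⟨M, hM⟩ := Ideal.exists_maximal B
  have : Field (B ⧸ M) := Ideal.Quotient.field M
  have : Algebra.IsAlgebraic K (B ⧸ M) := Algebra.IsAlgebraic.of_finite K (B ⧸ M)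
  let g : B →ₐ[K] Ω := (IsAlgClosed.lift (M := Ω) (R := K) (S := B ⧸ M)).comp (Ideal.Quotient.mkₐ K M)
  refine ⟨Spec.map (CommRingCat.ofHom g.toRingHom) ≫ e.inv ≫ O.ι, ?_, ?_⟩
  · rw [Category.assoc, Category.assoc, ← he, e.inv_hom_id_assoc, ← Spec.map_comp]
    congr 2
    exact CommRingCat.hom_ext g.comp_algebraMap
  · have := ((Spec.map (CommRingCat.ofHom g.toRingHom) ≫ e.inv) (IsLocalRing.closedPoint Ω)).2
    rw [← Category.assoc, Scheme.Hom.comp_apply]
    exact this

variable {S : Scheme.{u}} {F : Sp S}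

/-- In a locally separated space the relations of affine charts have finite fibres. -/
theorem finite_fibre_of_isLocallySeparatedSp (h : IsLocallySeparatedSp F) {U R : Over S}
    [IsAffine U.left] {φ : (yon S).obj U ⟶ F} (hφ : RepWith @Etale φ) {s t : R ⟶ U}
    (sqR : IsPullback ((yon S).map t) ((yon S).map s) φ φ) (u : U.left) :
    (s.left ⁻¹' {u}).Finite := by
  have : Etale s.left := hφ.2 φ _ _ sqR
  have : U.left.IsSeparated := inferInstance
  have hm : IsImmersion (prod.lift t s).left := prop_lift_of_repWith_diag h sqR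
  let A : Type u := Γ(U.left, ⊤)
  let : CommRing A := inferInstanceAs (CommRing Γ(U.left, ⊤))
  let e : U.left ⟶ Spec (CommRingCat.of A) := U.left.isoSpec.hom
  obtain ⟨k, _, _, ⟨hk⟩⟩ : ∃ (k : Type u) (_ : CommRing k) (_ : Algebra k A),
      Nonempty (IsTerminal (Spec (CommRingCat.of k))) :=
    ⟨ULift.{u} ℤ, inferInstance, ((algebraMap ℤ A).comp ULift.ringEquiv.toRingHom).toAlgebra,
      ⟨specULiftZIsTerminal⟩⟩
  -- the map to `Spec (A ⊗ A)`
  let sA := Spec.map (CommRingCat.ofHom (algebraMap k A))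
  let i : S ⟶ Spec (CommRingCat.of k) := hk.from S
  let G₀ : pullback U.hom U.hom ⟶ pullback sA sA :=
    pullback.mapDesc U.hom U.hom i ≫
      pullback.map (U.hom ≫ i) (U.hom ≫ i) sA sA e e (𝟙 _) (hk.hom_ext _ _)
        (hk.hom_ext _ _)
  have : IsImmersion G₀ := inferInstance
  let J : R.left ⟶ Spec (CommRingCat.of (A ⊗[k] A)) :=
    pullback.lift (t.left ≫ e) (s.left ≫ e) (hk.hom_ext _ _) ≫ (pullbackSpecIso k A A).hom
  have hJ : IsImmersion J := by
    have h1 : J = (prod.lift t s).left ≫ (isPullback_fst_left U U).isoPullback.hom ≫ G₀ ≫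
        (pullbackSpecIso k A A).hom := by
      rw [show (prod.lift t s).left ≫ (isPullback_fst_left U U).isoPullback.hom ≫ G₀ ≫
        (pullbackSpecIso k A A).hom = ((prod.lift t s).left ≫
          (isPullback_fst_left U U).isoPullback.hom ≫ G₀) ≫ (pullbackSpecIso k A A).hom by
        simp only [Category.assoc]]
      refine congrArg (· ≫ _) ?_
      apply pullback.hom_ext
      · have hG : G₀ ≫ pullback.fst sA sA = pullback.fst U.hom U.hom ≫ e :=
          (Category.assoc _ _ _).trans ((congrArg (_ ≫ ·) (pullback.lift_fst _ _ _)).trans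
            (pullback.lift_fst_assoc _ _ _ _))
        refine (pullback.lift_fst _ _ _).trans ?_
        change _ = ((prod.lift t s).left ≫ _ ≫ G₀) ≫ pullback.fst sA sA
        rw [Category.assoc, Category.assoc, hG, IsPullback.isoPullback_hom_fst_assoc,
          reassoc_of% (lift_left_fst t s)]
      · have hG : G₀ ≫ pullback.snd sA sA = pullback.snd U.hom U.hom ≫ e :=
          (Category.assoc _ _ _).trans ((congrArg (_ ≫ ·) (pullback.lift_snd _ _ _)).trans
            (pullback.lift_snd_assoc _ _ _ _))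
        refine (pullback.lift_snd _ _ _).trans ?_
        change _ = ((prod.lift t s).left ≫ _ ≫ G₀) ≫ pullback.snd sA sA
        rw [Category.assoc, Category.assoc, hG, IsPullback.isoPullback_hom_snd_assoc,
          reassoc_of% (lift_left_snd t s)]
    rw [h1]; infer_instance
  -- the identity section
  obtain ⟨e₀, he₀⟩ := (yon S).map_surjective (sqR.lift (𝟙 _) (𝟙 _) (by simp))
  have he₀t : e₀ ≫ t = 𝟙 U := (yon S).map_injective (by rw [Functor.map_comp, he₀, IsPullback.lift_fst, CategoryTheory.Functor.map_id])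
  have he₀s : e₀ ≫ s = 𝟙 U := (yon S).map_injective (by rw [Functor.map_comp, he₀, IsPullback.lift_snd, CategoryTheory.Functor.map_id])
  have he₀s' : e₀.left ≫ s.left = 𝟙 U.left := by rw [← Over.comp_left, he₀s]; rfl
  have hopen : IsOpen (Set.range e₀.left) := by
    have : Etale (e₀.left ≫ s.left) := by rw [he₀s']; infer_instance
    have : Etale e₀.left := Etale.of_comp e₀.left s.left
    exact e₀.left.isOpenMap.isOpen_range
  let W : Set ↥(Spec (CommRingCat.of (A ⊗[k] A))) := (closure (J '' (Set.range e₀.left)ᶜ))ᶜ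
  have hKW : Set.range (e₀.left ≫ J) ⊆ W := by
    rintro _ ⟨w, rfl⟩ hw
    rw [Scheme.Hom.comp_apply] at hw
    have : e₀.left w ∈ closure (Set.range e₀.left)ᶜ :=
      J.isEmbedding.isInducing.closure_eq_preimage_closure_image _ ▸ hw
    rw [hopen.isClosed_compl.closure_eq] at this
    exact this ⟨w, rfl⟩
  choose! hf hfW hfmem using fun q (hq : q ∈ Set.range (e₀.left ≫ J)) =>
    (show ∃ f : A ⊗[k] A, (PrimeSpectrum.basicOpen f : Set (PrimeSpectrum (A ⊗[k] A))) ⊆ W ∧
        (q : PrimeSpectrum (A ⊗[k] A)) ∈ PrimeSpectrum.basicOpen f from by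
      obtain ⟨_, ⟨f, rfl⟩, hqf, hfW⟩ := PrimeSpectrum.isTopologicalBasis_basic_opens.exists_subset_of_mem_open
        (hKW hq) isClosed_closure.isOpen_compl
      exact ⟨f, hfW, hqf⟩)
  obtain ⟨cov, hcov⟩ := (isCompact_range (e₀.left ≫ J).continuous).elim_finite_subcover
    (fun q : Set.range (e₀.left ≫ J) => (PrimeSpectrum.basicOpen (hf q.1) : Set (PrimeSpectrum (A ⊗[k] A))))
    (fun q => PrimeSpectrum.isOpen_basicOpen) (fun q hq => Set.mem_iUnion.2 ⟨⟨q, hq⟩, hfmem q hq⟩)
  choose fs hfs using fun q : Set.range (e₀.left ≫ J) => TensorProduct.exists_finset (hf q.1)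
  classical
  by_contra hinf
  let K := U.left.residueField u
  let Ω := AlgebraicClosure K
  let c : s.left.fiber u ⟶ Spec (CommRingCat.of K) := s.left.fiberToSpecResidueField u
  have : Etale c := inferInstanceAs (Etale (pullback.snd _ _))
  have : Infinite ↥(s.left ⁻¹' {u}) := Set.infinite_coe_iff.2 hinf
  have : Infinite ↥(s.left.fiber u) := Infinite.of_injective _ (s.left.fiberHomeo u).symm.injective
  obtain ⟨D, hD⟩ := Infinite.exists_subset_card_eq ↥(s.left.fiber u) (∑ q ∈ cov, (fs q).card + 1)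
  let κ := Spec.map (CommRingCat.ofHom (algebraMap K Ω))
  choose z hzc hzx using fun x : D => exists_geometric_lift (Ω := Ω) c x.1
  let T : Over S := Over.mk (κ ≫ U.left.fromSpecResidueField u ≫ U.hom)
  let a₀ : T ⟶ U := Over.homMk (κ ≫ U.left.fromSpecResidueField u) (by simp [T])
  have hzs : ∀ x, (z x ≫ s.left.fiberι u) ≫ s.left = κ ≫ U.left.fromSpecResidueField u := fun x => by
    rw [Category.assoc, Scheme.Hom.fiber_fac, ← Category.assoc, hzc]
  let a : D → (T ⟶ R) := fun x => Over.homMk (z x ≫ s.left.fiberι u) (by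
    rw [← Over.w s, ← Category.assoc, hzs]; simp [T])
  have has : ∀ x, a x ≫ s = a₀ := fun x => Over.OverMorphism.ext (hzs x)
  have hinj : Function.Injective fun x => a x ≫ t := fun x y h => by
    have h1 : (a x).left ≫ (prod.lift t s).left = (a y).left ≫ (prod.lift t s).left := by
      rw [← Over.comp_left, ← Over.comp_left, prod.comp_lift, prod.comp_lift, has, has,
        show a x ≫ t = a y ≫ t from h]
    have h2 : z x ≫ s.left.fiberι u = z y ≫ s.left.fiberι u := (cancel_mono (prod.lift t s).left).1 h1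
    refine Subtype.ext (s.left.fiberι u |>.isEmbedding.injective ?_)
    have h3 := congr($h2 (IsLocalRing.closedPoint Ω))
    rwa [Scheme.Hom.comp_apply, Scheme.Hom.comp_apply, hzx, hzx] at h3
  -- the points of pairs
  have hall : ∀ x, (yon S).map (a x ≫ t) ≫ φ = (yon S).map a₀ ≫ φ := fun x => by
    rw [Functor.map_comp, Category.assoc, sqR.w, ← Category.assoc, ← Functor.map_comp, has]
  choose y hy using fun x x' : D => (yon S).map_surjective
    (sqR.lift ((yon S).map (a x ≫ t)) ((yon S).map (a x' ≫ t)) (by rw [hall, hall]))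
  have hyt : ∀ x x', y x x' ≫ t = a x ≫ t := fun x x' =>
    (yon S).map_injective (by rw [Functor.map_comp, hy, IsPullback.lift_fst])
  have hys : ∀ x x', y x x' ≫ s = a x' ≫ t := fun x x' =>
    (yon S).map_injective (by rw [Functor.map_comp, hy, IsPullback.lift_snd])
  let ψ : D → D → (A ⊗[k] A →+* Ω) := fun x x' => (Spec.preimage ((y x x').left ≫ J)).hom
  let p : D → (A →+* Ω) := fun x => (Spec.preimage ((a x ≫ t).left ≫ e)).hom
  have hψl : ∀ x x' (b : A), ψ x x' (b ⊗ₜ 1) = p x b := by
    intro x x' b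
    have : Spec.preimage ((a x ≫ t).left ≫ e) =
        CommRingCat.ofHom Algebra.TensorProduct.includeLeftRingHom ≫
          Spec.preimage ((y x x').left ≫ J) := Spec.map_injective (by
      rw [Spec.map_comp, Spec.map_preimage, Spec.map_preimage, ← pullbackSpecIso_inv_fst]
      simp only [J, Category.assoc, Iso.hom_inv_id_assoc, pullback.lift_fst]
      rw [← hyt x x', Over.comp_left, Category.assoc])
    exact congr($(this.symm).hom b)
  have hψr : ∀ x x' (b : A), ψ x x' (1 ⊗ₜ b) = p x' b := by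
    intro x x' b
    have : Spec.preimage ((a x' ≫ t).left ≫ e) =
        CommRingCat.ofHom (Algebra.TensorProduct.includeRight (R := k) (A := A) (B := A) : A →+* A ⊗[k] A) ≫
          Spec.preimage ((y x x').left ≫ J) := Spec.map_injective (by
      rw [Spec.map_comp, Spec.map_preimage, Spec.map_preimage, ← pullbackSpecIso_inv_snd]
      simp only [J, Category.assoc, Iso.hom_inv_id_assoc, pullback.lift_snd]
      rw [← hys x x', Over.comp_left, Category.assoc])
    exact congr($(this.symm).hom b)
  have hval : ∀ x x' (f : A ⊗[k] A),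
      (((y x x').left ≫ J) (IsLocalRing.closedPoint Ω) : PrimeSpectrum (A ⊗[k] A)) ∈
        PrimeSpectrum.basicOpen f ↔ ψ x x' f ≠ 0 := by
    intro x x' f
    have h1 : ((y x x').left ≫ J) (IsLocalRing.closedPoint Ω) =
        PrimeSpectrum.comap (ψ x x') (IsLocalRing.closedPoint Ω) := by
      conv_lhs => rw [← Spec.map_preimage ((y x x').left ≫ J)]
      rfl
    rw [h1]
    show f ∉ (PrimeSpectrum.comap (ψ x x') (IsLocalRing.closedPoint Ω)).asIdeal ↔ _
    simp [IsLocalRing.closedPoint]
    exact isUnit_iff_ne_zero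
  have hoff : ∀ x x', x ≠ x' → ∀ q : Set.range (e₀.left ≫ J), ψ x x' (hf q.1) = 0 := by
    intro x x' hne q
    by_contra h
    refine hfW q.1 q.2 ((hval x x' _).2 h) (subset_closure ⟨_, ?_, rfl⟩)
    rintro ⟨w, hw⟩
    have : Etale (e₀.left ≫ s.left) := by rw [he₀s']; infer_instance
    have : Etale e₀.left := Etale.of_comp e₀.left s.left
    have : Mono e₀.left := ⟨fun g g' hg => by
      simpa [he₀s'] using congrArg (· ≫ s.left) hg⟩
    have : IsOpenImmersion e₀.left := IsOpenImmersion.of_flat_of_mono e₀.left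
    have hrange : Set.range (y x x').left ⊆ Set.range e₀.left := by
      rintro _ ⟨c', rfl⟩
      rw [show c' = IsLocalRing.closedPoint Ω from
        @Subsingleton.elim _ (inferInstanceAs (Subsingleton (PrimeSpectrum Ω))) _ _]
      exact ⟨w, hw⟩
    let l : T ⟶ U := Over.homMk (IsOpenImmersion.lift e₀.left (y x x').left hrange) (by
      rw [← Over.w e₀, IsOpenImmersion.lift_fac_assoc, Over.w])
    have hl : l ≫ e₀ = y x x' := Over.OverMorphism.ext (IsOpenImmersion.lift_fac _ _ _)
    refine hne (hinj ?_)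
    change a x ≫ t = a x' ≫ t
    rw [← hyt x x', ← hys x x', ← hl, Category.assoc, Category.assoc, he₀t, he₀s]
  have hdiag : ∀ x, ∃ q ∈ cov, ψ x x (hf q.1) ≠ 0 := by
    intro x
    have hyy : y x x = (a x ≫ t) ≫ e₀ := (yon S).map_injective (sqR.hom_ext
      (by rw [← Functor.map_comp, ← Functor.map_comp, hyt, Category.assoc, he₀t, Category.comp_id])
      (by rw [← Functor.map_comp, ← Functor.map_comp, hys, Category.assoc, he₀s, Category.comp_id]))
    have hm' : ((y x x).left ≫ J) (IsLocalRing.closedPoint Ω) ∈ Set.range (e₀.left ≫ J) :=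
      ⟨(a x ≫ t).left (IsLocalRing.closedPoint Ω), by
        rw [hyy, Over.comp_left, Category.assoc]; rfl⟩
    obtain ⟨q, hq, hxq⟩ := Set.mem_iUnion₂.1 (hcov hm')
    exact ⟨q, hq, (hval x x _).1 hxq⟩
  choose Q hQ hQne using hdiag
  have hle : ∀ q ∈ cov, (Finset.univ.filter fun x => Q x = q).card ≤ (fs q).card := by
    intro q hq
    rw [← Fintype.card_coe]
    refine card_le_of_diagonal_evaluation (fs q) (fun x => p x.1) (fun x x' => ψ x.1 x'.1)
      (fun x x' => hψl _ _) (fun x x' => hψr _ _) (fun x x' hne => ?_) (fun x => ?_)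
    · rw [← hfs q]; exact hoff _ _ (fun h => hne (Subtype.ext h)) q
    · rw [← hfs q]
      have := hQne x.1
      rwa [(Finset.mem_filter.1 x.2).2] at this
  have hcard : Fintype.card D ≤ ∑ q ∈ cov, (fs q).card := by
    rw [← Finset.card_univ, Finset.card_eq_sum_card_fiberwise (t := cov) (f := Q) (fun x _ => hQ x)]
    exact Finset.sum_le_sum hle
  simp [hD] at hcard

theorem isDecent_of_isLocallySeparatedSp (hX : IsAlgSpace F) (h : IsLocallySeparatedSp F) :
    IsDecent F := by
  intro x
  have key : ∀ (B : Over S) (ψ : (yon S).obj B ⟶ F), IsAffine B.left → RepWith @Etale ψ →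
      (Points.ofPt ψ ⁻¹' {x}).Finite ∧ ∀ (R : Over S) (s t : R ⟶ B),
        IsPullback ((yon S).map t) ((yon S).map s) ψ ψ →
          (Points.ofPt ((yon S).map t ≫ ψ) ⁻¹' {x}).Finite := by
    intro B ψ hB hψ
    obtain ⟨R, s, fst, sqR⟩ := hψ.1 ψ
    obtain ⟨t, rfl⟩ := (yon S).map_surjective fst
    have hfin : (Points.ofPt ψ ⁻¹' {x}).Finite := by
      rcases (Points.ofPt ψ ⁻¹' {x}).eq_empty_or_nonempty with h' | ⟨b, hb⟩
      · rw [h']; exact Set.finite_empty
      refine ((finite_fibre_of_isLocallySeparatedSp h hψ sqR b).image t.left).subset fun b' hb' => ?_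
      obtain ⟨r, hr, hr'⟩ := exists_pt_of_isPullback sqR (x := Points.ofScheme B b') (t := b)
        (by rw [← Points.ofPt_eq_map_ofScheme]; exact hb'.trans hb.symm)
      exact ⟨r, hr', (Points.schemeEquiv B).injective ((ofPt_map_eq t r).symm.trans hr)⟩
    refine ⟨hfin, fun R' s' t' sq' => ?_⟩
    refine (hfin.biUnion fun b _ => finite_fibre_of_isLocallySeparatedSp h hψ sq' b).subset
      fun r hr => Set.mem_biUnion (x := s'.left r) ?_ rfl
    rw [Set.mem_preimage, Set.mem_singleton_iff, sq'.w, ofPt_map_comp] at hr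
    exact hr
  obtain ⟨U, φ, hU, hφ, hx⟩ := exists_affine_chart_at hX x
  exact hasMonoQC_of_finFibres hX (fun B ψ hB hψ => (key B ψ hB hψ).1) hU hφ hx (key U φ hU hφ).2

end Groth.Agent.AlgSpDecent
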