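import Groth.Agent.Lib.AlgSpDecent.Descend
import Groth.Agent.Lib.AlgSpDecent.MonoPointApps

/-!
# Images of monomorphic points under quasi-compact etale morphisms
-/

universe u

set_option backward.isDefEq.respectTransparency.types false

open CategoryTheory CategoryTheory.Limits AlgebraicGeometry Opposite MorphismProperty

namespace Groth.Agent.AlgSpDecent

open AlgSp Groth.Agent.AlgSpace

variable {S : Scheme.{u}} {X Y : Sp S} {f : X ⟶ Y}

/-- A space with an etale cover by a discrete scheme and compact points has finitely many points. -/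
theorem finite_points_of_discrete {T : Over S} [DiscreteTopology T.left] {Z : Sp S}
    [CompactSpace (Points Z)] {l : (yon S).obj T ⟶ Z} (hl : RepWith @Etale l)
    (hs : Function.Surjective (Points.ofPt l)) : Finite (Points Z) := by
  have : DiscreteTopology (Points Z) := discreteTopology_iff_isOpen_singleton.2 fun z => by
    obtain ⟨τ, rfl⟩ := hs z
    rw [← Set.image_singleton]
    exact isOpenMap_ofPt l hl _ (isOpen_discrete _)
  exact finite_of_compact_of_discrete

/-- Images of monomorphic points under quasi-compact etale morphisms are monomorphic. -/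
theorem exists_mono_map_of_qc_etale (hX : IsAlgSpace X) (hY : IsAlgSpace Y)
    (hq : IsQuasiCompactMor f) (he : IsEtaleMor f) (p : FieldPt X) [Mono p.toHom] :
    ∃ q : FieldPt Y, Points.mk q = Points.map f (Points.mk p) ∧ Mono q.toHom := by
  obtain ⟨V, ψ, hV, hψ, v, hv⟩ := exists_affine_chart_at hX (Points.mk p)
  obtain ⟨T, c, fst, sqT'⟩ := (Functor.relativelyRepresentable.of_diag hX.diag ψ) p.toHom
  obtain ⟨a, rfl⟩ := (yon S).map_surjective fst
  have hc : Etale c.left := hψ.2 _ _ _ sqT'
  obtain ⟨w, hw⟩ : v ∈ Set.range a.left := preimage_mk_eq_range sqT'.flip ▸ hv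
  let O : T.left.Opens := ⟨{w}, isOpen_singleton_of_etale_field (K := p.K) c.left w⟩
  have hOs : Subsingleton O := ⟨fun a b => Subtype.ext (a.2.trans b.2.symm)⟩
  let A : Over S := Over.mk (O.ι ≫ T.hom)
  let i : A ⟶ T := Over.homMk O.ι rfl
  have hOfin : Finite A.left := @Finite.of_subsingleton O hOs
  have hOd : DiscreteTopology A.left := @Subsingleton.discreteTopology _ _ hOs
  have hcA : IsFinite (i ≫ c).left := isFinite_open_subsingleton (K := p.K) c.left O
  let g : (yon S).obj A ⟶ X := (yon S).map (i ≫ a) ≫ ψ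
  have hg : g = (yon S).map (i ≫ c) ≫ p.toHom := by
    simp only [g, Functor.map_comp, Category.assoc, sqT'.w]
  -- the self product of the point over `Y`
  obtain ⟨G, s, fst, sqG⟩ := (Functor.relativelyRepresentable.of_diag hY.diag (g ≫ f)) (g ≫ f)
  obtain ⟨t, rfl⟩ := (yon S).map_surjective fst
  have sqZ := IsPullback.of_hasPullback f (g ≫ f)
  have hG : Finite G.left := by
    obtain ⟨A', q', hq'e, hq's⟩ := hX.atlas
    obtain ⟨T', b, fst', sq1⟩ := (he q' hq'e).1 (g ≫ f)
    obtain ⟨c', rfl⟩ := (yon S).map_surjective fst'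
    let l := sqZ.lift ((yon S).map c' ≫ q') ((yon S).map b) (by
      rw [Category.assoc]; exact sq1.w)
    have sqL : IsPullback ((yon S).map c') l q' (pullback.fst f (g ≫ f)) :=
      IsPullback.of_bot (by rw [IsPullback.lift_snd]; exact sq1) (IsPullback.lift_fst _ _ _ _).symm sqZ
    have hl : RepWith @Etale l := (RepWith (S := S) @Etale).of_isPullback sqL hq'e
    have hls : Function.Surjective (Points.ofPt l) :=
      surjective_ofPt ((RepWith (S := S) @Surjective).of_isPullback sqL hq's)
    have : Etale b.left := (he q' hq'e).2 _ _ _ sq1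
    have : DiscreteTopology T'.left := by
      refine discreteTopology_iff_isOpen_singleton.2 fun τ => ?_
      have hbc : Etale (b ≫ i ≫ c).left := by
        rw [Over.comp_left]
        exact MorphismProperty.comp_mem _ _ _ ‹Etale b.left› (MorphismProperty.comp_mem _ _ _
          (inferInstanceAs (Etale O.ι)) hc)
      exact isOpen_singleton_of_etale_field (K := p.K) (b ≫ i ≫ c).left τ
    have : CompactSpace (Points (pullback f (g ≫ f))) := by
      have : CompactSpace (Points ((yon S).obj A)) := (compactSpace_yon_iff A).2 Finite.compactSpace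
      exact compactSpace_of_isQuasiCompactMor hX hY hq (IsAlgSpace.yon_obj A) sqZ
    have := finite_points_of_discrete hl hls
    choose τ hτ using hls
    let m := sqZ.lift ((yon S).map t ≫ g) ((yon S).map s) (by rw [Category.assoc]; exact sqG.w)
    have sqm : IsPullback ((yon S).map t) m g (pullback.fst f (g ≫ f)) :=
      IsPullback.of_bot (by rw [IsPullback.lift_snd]; exact sqG) (IsPullback.lift_fst _ _ _ _).symm sqZ
    obtain ⟨W, e, fstW, sqW'⟩ := hl.1 m
    obtain ⟨d, rfl⟩ := (yon S).map_surjective fstW
    -- `e : W ⟶ G`, `d : W ⟶ T'`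
    have sqW : IsPullback ((yon S).map (e ≫ t)) ((yon S).map d) g ((yon S).map c' ≫ q') := by
      have := sqW'.flip.paste_horiz sqm
      rwa [IsPullback.lift_fst, ← Functor.map_comp] at this
    obtain ⟨Q, k₁, fstQ, sqQ⟩ :=
      (Functor.relativelyRepresentable.of_diag hX.diag ((yon S).map c' ≫ q')) p.toHom
    obtain ⟨k₂, rfl⟩ := (yon S).map_surjective fstQ
    have hk₂ : Function.Injective k₂.left := injective_of_mono_point sqQ.flip
    let j' := sqQ.lift ((yon S).map d) ((yon S).map (e ≫ t) ≫ (yon S).map (i ≫ c)) (by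
      rw [← sqW.w, hg, Category.assoc])
    obtain ⟨j, hj⟩ := (yon S).map_surjective j'
    have hjd : j ≫ k₂ = d := (yon S).map_injective (by
      rw [Functor.map_comp, hj, IsPullback.lift_fst])
    have hjk : j ≫ k₁ = (e ≫ t) ≫ (i ≫ c) := (yon S).map_injective (by
      rw [Functor.map_comp, hj, IsPullback.lift_snd, Functor.map_comp (yon S) (e ≫ t) (i ≫ c)])
    have sqj : IsPullback (e ≫ t) j (i ≫ c) k₁ := by
      refine IsPullback.of_map (yon S) hjk.symm (IsPullback.of_bot ?_
        (by rw [← Functor.map_comp, ← Functor.map_comp, hjk]) sqQ.flip)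
      rw [← Functor.map_comp (yon S) j k₂, hjd, ← hg]
      exact sqW
    have hjf : IsFinite j.left := MorphismProperty.of_isPullback (P := @IsFinite) (sqj.map (Over.forget S)) hcA
    have hdfin : ∀ τ' : T'.left, (d.left ⁻¹' {τ'}).Finite := fun τ' => by
      rw [← hjd, Over.comp_left]
      change ((k₂.left ∘ j.left) ⁻¹' {τ'}).Finite
      rw [Set.preimage_comp]
      exact j.left.finite_preimage ((Set.finite_singleton τ').preimage hk₂.injOn)
    refine Set.finite_univ_iff.1 ((Set.finite_iUnion fun z : Points (pullback f (g ≫ f)) =>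
      (hdfin (τ z)).image e.left).subset fun γ _ => Set.mem_iUnion.2 ?_)
    refine ⟨Points.ofPt m γ, ?_⟩
    obtain ⟨ω, hω₁, hω₂⟩ := exists_pt_of_isPullback sqW'.flip
      (x := Points.ofScheme G γ) (t := τ (Points.ofPt m γ))
      (by rw [← Points.ofPt_eq_map_ofScheme, hτ])
    exact ⟨ω, hω₂, (Points.schemeEquiv G).injective ((ofPt_map_eq e ω).symm.trans hω₁)⟩
  -- the relation of the chart over `Y`
  have hφ := he ψ hψ
  obtain ⟨R, s', fst, sqR⟩ := hφ.1 (ψ ≫ f)
  obtain ⟨t', rfl⟩ := (yon S).map_surjective fst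
  have hav : ∀ r : A.left, (i ≫ a).left r = v := fun r => by
    rw [← hw, show r = (⟨w, rfl⟩ : O) from @Subsingleton.elim _ hOs _ _]; rfl
  have hfin : {r : ↥R.left | t'.left r = v ∧ s'.left r = v}.Finite := by
    let P₁ := pullback (i ≫ a) t'
    let P₂ := pullback (pullback.snd (i ≫ a) t' ≫ s') (i ≫ a)
    let π : P₂ ⟶ R := pullback.fst _ _ ≫ pullback.snd (i ≫ a) t'
    let α : P₂ ⟶ A := pullback.fst _ _ ≫ pullback.fst (i ≫ a) t'
    let β : P₂ ⟶ A := pullback.snd _ _
    have hα : α ≫ i ≫ a = π ≫ t' := by
      simp only [α, π, Category.assoc, pullback.condition]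
    have hβ : β ≫ i ≫ a = π ≫ s' := by
      simp only [β, π, Category.assoc]; exact pullback.condition.symm
    let ρ' := sqG.lift ((yon S).map α) ((yon S).map β) (by
      have e₁ : (yon S).map α ≫ g = (yon S).map (π ≫ t') ≫ ψ := by
        change (yon S).map α ≫ (yon S).map (i ≫ a) ≫ ψ = _
        rw [← Functor.map_comp_assoc, hα]
      have e₂ : (yon S).map β ≫ g = (yon S).map (π ≫ s') ≫ ψ := by
        change (yon S).map β ≫ (yon S).map (i ≫ a) ≫ ψ = _
        rw [← Functor.map_comp_assoc, hβ]
      rw [reassoc_of% e₁, reassoc_of% e₂]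
      simp only [π, Functor.map_comp, Category.assoc, sqR.w])
    obtain ⟨ρ, hρ⟩ := (yon S).map_surjective ρ'
    let θ' := sqR.lift ((yon S).map (t ≫ i ≫ a)) ((yon S).map (s ≫ i ≫ a)) (by
      have := sqG.w
      simp only [g, Category.assoc] at this
      simpa only [Functor.map_comp, Category.assoc] using this)
    obtain ⟨θ, hθ⟩ := (yon S).map_surjective θ'
    have hπ : ρ ≫ θ = π := (yon S).map_injective (sqR.hom_ext
      (by
        rw [← Functor.map_comp, ← Functor.map_comp, ← hα, Category.assoc, Functor.map_comp,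
          Functor.map_comp (yon S) θ t', hθ, IsPullback.lift_fst, ← Functor.map_comp]
        congr 1
        rw [← Category.assoc]
        congr 1
        exact (yon S).map_injective (by rw [Functor.map_comp, hρ, IsPullback.lift_fst]))
      (by
        rw [← Functor.map_comp, ← Functor.map_comp, ← hβ, Category.assoc, Functor.map_comp,
          Functor.map_comp (yon S) θ s', hθ, IsPullback.lift_snd, ← Functor.map_comp]
        congr 1
        rw [← Category.assoc]
        congr 1
        exact (yon S).map_injective (by rw [Functor.map_comp, hρ, IsPullback.lift_snd])))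
    refine (Set.finite_range θ.left).subset fun r ⟨h1, h2⟩ => ?_
    obtain ⟨w₁, hw₁, hw₁'⟩ := Scheme.exists_preimage_of_isPullback
      ((IsPullback.of_hasPullback (i ≫ a) t').map (Over.forget S))
      (⟨w, rfl⟩ : O) r (by exact (hav _).trans h1.symm)
    obtain ⟨w₂, hw₂, -⟩ := Scheme.exists_preimage_of_isPullback
      ((IsPullback.of_hasPullback (pullback.snd (i ≫ a) t' ≫ s') (i ≫ a)).map (Over.forget S))
      w₁ (⟨w, rfl⟩ : O) (by
        change s'.left ((pullback.snd (i ≫ a) t').left w₁) = _
        exact ((congrArg s'.left hw₁').trans h2).trans (hav _).symm)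
    exact ⟨ρ.left w₂, by
      rw [← Scheme.Hom.comp_apply, ← Over.comp_left, hπ]
      exact (congrArg _ hw₂).trans hw₁'⟩
  obtain ⟨q, hq', hm⟩ := exists_mono_of_finite_fibre hY.diag hφ sqR v v rfl hfin
  exact ⟨q, hq'.trans (by rw [← Points.map_ofPt, hv]), hm⟩

end Groth.Agent.AlgSpDecent
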