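import Groth.Agent.Lib.AlgSpDecent.LocNoeth
import Groth.Agent.Lib.PtSet.Components
import Mathlib.AlgebraicGeometry.Noetherian

/-!
# Locally noetherian spaces have locally noetherian point spaces
-/

universe u

set_option backward.isDefEq.respectTransparency.types false

open CategoryTheory CategoryTheory.Limits AlgebraicGeometry AlgSp Topology TopologicalSpace
open Groth.Agent.AlgSpace

namespace Groth.Agent.AlgSpDecent

variable {S : Scheme.{u}} {F : Sp S}

theorem exists_noetherian_nhds (hX : IsAlgSpace F) (hN : IsLocNoethSp F) (x : Points F) :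
    ∃ W ∈ nhds x, NoetherianSpace ↥W := by
  obtain ⟨U, φ, hU, hφ, u, rfl⟩ := exists_affine_chart_at hX x
  have := isLocallyNoetherian_of_etale_chart hN hφ
  have : IsNoetherian U.left := {}
  refine ⟨_, ((isOpenMap_ofPt φ hφ).isOpen_range).mem_nhds ⟨u, rfl⟩, ?_⟩
  exact noetherianSpace_of_surjective (fun v => (⟨_, v, rfl⟩ : Set.range (Points.ofPt φ)))
    ((Points.continuous_ofPt φ).subtype_mk _) fun ⟨_, v, e⟩ => ⟨v, Subtype.ext e⟩

theorem locallyFinite_components_closed (hX : IsAlgSpace F) (hN : IsLocNoethSp F) {T : Set (Points F)}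
    (hT : IsClosed T) :
    LocallyFinite (fun Z : ↥(irreducibleComponents ↥T) => ((↑) : ↥T → Points F) '' (Z : Set ↥T)) := by
  have hloc : ∀ x : T, ∃ W ∈ nhds x, NoetherianSpace ↥W := fun x => by
    obtain ⟨W, hW, hWn⟩ := exists_noetherian_nhds hX hN x.1
    refine ⟨_, continuous_subtype_val.continuousAt.preimage_mem_nhds hW, ?_⟩
    have : IsInducing (fun y : ↥(Subtype.val ⁻¹' W : Set ↥T) => (⟨y.1.1, y.2⟩ : W)) :=
      IsInducing.of_comp (g := Subtype.val) (by fun_prop) continuous_subtype_val (by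
        exact (IsInducing.subtypeVal (t := T)).comp
          (IsInducing.subtypeVal (t := (Subtype.val ⁻¹' W : Set T))))
    exact this.noetherianSpace
  intro x
  by_cases hx : x ∈ T
  · obtain ⟨V, hV, hfin⟩ := PtSet.locallyFinite_components hloc ⟨x, hx⟩
    obtain ⟨V', hV', hVV'⟩ := (mem_nhds_subtype T ⟨x, hx⟩ V).1 hV
    exact ⟨V', hV', hfin.subset fun Z ⟨_, ⟨z, hz, rfl⟩, hzV⟩ => ⟨z, hz, hVV' hzV⟩⟩
  · refine ⟨Tᶜ, hT.isOpen_compl.mem_nhds hx, Set.finite_empty.subset ?_⟩
    rintro Z ⟨_, ⟨z, -, rfl⟩, hz⟩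
    exact hz z.2

end Groth.Agent.AlgSpDecent
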