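import Groth.Agent.Lib.AlgSpDecent.DenseOpen
import Groth.Agent.Lib.AlgSpDecent.EtaleBdd
import Groth.Agent.Lib.H12.FlatComp

/-!
# Decent spaces with one point
-/

universe u

set_option backward.isDefEq.respectTransparency.types false

open CategoryTheory CategoryTheory.Limits AlgebraicGeometry AlgSp Topology Opposite
open Groth.Agent.AlgSpace

namespace Groth.Agent.AlgSpDecent

variable {S : Scheme.{u}}

/-- A decent space with a single point is a scheme. -/
theorem exists_iso_yon_of_subsingleton (X : Space S) (hX : IsDecent X.obj) [Nonempty (Points X.obj)]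
    [Subsingleton (Points X.obj)] : ∃ T : Over S, Nonempty ((yon S).obj T ≅ X.obj) := by
  obtain ⟨X', j, hj, hrep, hd⟩ := exists_dense_of_isDecent X hX
  have : IsIso j.hom := isIso_of_isOpenImmersion_of_surjective hj fun x => by
    obtain ⟨y, hy⟩ := hd.nonempty
    exact Subsingleton.elim y x ▸ hy
  obtain ⟨T, ⟨e⟩⟩ := hrep.has_representation
  exact ⟨T, ⟨isoOfRepresentableBy e ≪≫ asIso j.hom⟩⟩

/-- A reduced scheme with one point is the spectrum of a field. -/
theorem exists_iso_spec_field (T : Scheme.{u}) [IsReduced T] [Nonempty T] [Subsingleton T] :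
    ∃ (k : Type u) (_ : Field k), Nonempty (Spec (CommRingCat.of k) ≅ T) := by
  have : IsAffine T := by
    obtain ⟨W, hW, hxW, -⟩ := exists_isAffineOpen_mem_and_subset (X := T) (x := Classical.arbitrary T)
      (U := ⊤) trivial
    have : W = ⊤ := top_le_iff.1 fun x _ => Subsingleton.elim (Classical.arbitrary T) x ▸ hxW
    have hT : IsAffine (⊤ : T.Opens).toScheme := this ▸ hW
    exact IsAffine.of_isIso T.topIso.inv
  have : Subsingleton (PrimeSpectrum Γ(T, ⊤)) :=
    T.isoSpec.hom.homeomorph.surjective.subsingleton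
  obtain ⟨p⟩ : Nonempty (PrimeSpectrum Γ(T, ⊤)) := ⟨T.isoSpec.hom.homeomorph (Classical.arbitrary T)⟩
  have hp : p.asIdeal = ⊥ := by
    rw [eq_bot_iff]
    intro x hx
    have : x ∈ nilradical Γ(T, ⊤) := by
      rw [nilradical_eq_sInf, Ideal.mem_sInf]
      intro q hq
      rw [show q = p.asIdeal from congrArg PrimeSpectrum.asIdeal
        (Subsingleton.elim (⟨q, hq⟩ : PrimeSpectrum Γ(T, ⊤)) p)]
      exact hx
    rwa [nilradical_eq_zero] at this
  have hf : IsField Γ(T, ⊤) := by
    have : Nontrivial Γ(T, ⊤) := p.nontrivial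
    by_contra hnf
    obtain ⟨m, hm0, hm⟩ := Ring.not_isField_iff_exists_prime.1 hnf
    exact hm0 ((congrArg PrimeSpectrum.asIdeal (Subsingleton.elim (⟨m, hm⟩ : PrimeSpectrum Γ(T, ⊤)) p)).trans hp)
  exact ⟨_, hf.toField, ⟨T.isoSpec.symm⟩⟩

/-- A reduced decent space with one point is the spectrum of a field. -/
theorem exists_field_of_subsingleton (X : Space S) (hX : IsDecent X.obj)
    (hr : EtaleLocally (fun U => IsReduced U) X.obj) [Nonempty (Points X.obj)]
    [Subsingleton (Points X.obj)] :
    ∃ (k : Type u) (_ : Field k) (str : Spec (CommRingCat.of k) ⟶ S),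
      Nonempty ((yon S).obj (Over.mk str) ≅ X.obj) := by
  obtain ⟨T, ⟨e⟩⟩ := exists_iso_yon_of_subsingleton X hX
  obtain ⟨U, p, hpe, hps, hU⟩ := hr
  obtain ⟨c, hc⟩ := (yon S).map_surjective (p ≫ e.inv)
  have hce : RepWith @Etale ((yon S).map c) := by
    rw [hc, repWith_respectsIso_right]; exact hpe
  have hcs : RepWith @Surjective ((yon S).map c) := by
    rw [hc, repWith_respectsIso_right]; exact hps
  have : Etale c.left := (repWith_yon_map_iff _ _).1 hce
  have : Surjective c.left := (repWith_yon_map_iff _ _).1 hcs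
  have : IsReduced T.left := H12.isReduced_of_flat_surjective c.left
  have : Subsingleton T.left := ((Points.schemeEquiv T).trans
    (Equiv.ofBijective _ (bijective_map_iso (e := e.hom)))).injective.subsingleton
  have : Nonempty T.left := ⟨(((Points.schemeEquiv T).trans
    (Equiv.ofBijective _ (bijective_map_iso (e := e.hom)))).symm) (Classical.arbitrary _)⟩
  obtain ⟨k, hk, ⟨i⟩⟩ := exists_iso_spec_field T.left
  exact ⟨k, hk, i.hom ≫ T.hom, ⟨(yon S).mapIso (Over.isoMk i rfl) ≪≫ e⟩⟩

/-- A decent space etale covered by the spectrum of a field is the spectrum of a field. -/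
theorem exists_field_of_etale_point (X : Space S) (hX : IsDecent X.obj) (k : Type u) [Field k]
    (str : Spec (CommRingCat.of k) ⟶ S) (p : (yon S).obj (Over.mk str) ⟶ X.obj)
    (hp : RepWith @Etale p) (hs : RepWith @Surjective p) :
    ∃ (k' : Type u) (_ : Field k') (str' : Spec (CommRingCat.of k') ⟶ S)
      (e : (yon S).obj (Over.mk str') ≅ X.obj) (c : Over.mk str ⟶ Over.mk str'),
      (yon S).map c ≫ e.hom = p ∧ IsFinite c.left ∧ Etale c.left := by
  have : Nonempty (Points X.obj) := ⟨Points.ofPt p (IsLocalRing.closedPoint k)⟩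
  have : Subsingleton ↥(Over.mk str).left := inferInstanceAs (Subsingleton (PrimeSpectrum k))
  have : Subsingleton (Points X.obj) := (surjective_ofPt hs).subsingleton
  obtain ⟨k', hk', str', ⟨e⟩⟩ := exists_field_of_subsingleton X hX
    ⟨_, p, hp, hs, inferInstanceAs (IsReduced (Spec (CommRingCat.of k)))⟩
  obtain ⟨c, hc⟩ := (yon S).map_surjective (p ≫ e.inv)
  have he : RepWith @Etale ((yon S).map c) := by rw [hc, repWith_respectsIso_right]; exact hp
  have : Etale c.left := (repWith_yon_map_iff _ _).1 he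
  have : CompactSpace ↥(Over.mk str).left := Finite.compactSpace
  exact ⟨k', hk', str', e, c, by rw [hc, Category.assoc, e.inv_hom_id, Category.comp_id],
    isFinite_of_etale_field (K := k') c.left, ‹Etale c.left›⟩

end Groth.Agent.AlgSpDecent
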