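import Groth.Agent.S3433
import Groth.Agent.S7547
import Groth.Agent.Lib.AlgSpDecent.LocNoeth
import Groth.Agent.Lib.AlgSpDecent.Sober

/-!
# The punctured generizations of a point of a decent locally Noetherian space
-/

universe u

set_option backward.isDefEq.respectTransparency.types false

open CategoryTheory CategoryTheory.Limits AlgebraicGeometry Opposite Topology TopologicalSpace

namespace Groth.Agent.AlgSpDecent

open AlgSp Groth.Agent.AlgSpace

variable {S : Scheme.{u}} {F : Sp S}

/-- Topological properties of the punctured generizations of a point. -/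
theorem punctured_generizations (hF : IsAlgSpace F) (hd : IsDecent F) (hN : IsLocNoethSp F)
    (x : Points F) :
    NoetherianSpace {x' : Points F // x' ⤳ x ∧ x' ≠ x} ∧
      SpectralSpace {x' : Points F // x' ⤳ x ∧ x' ≠ x} ∧
      QuasiSober {x' : Points F // x' ⤳ x ∧ x' ≠ x} ∧
      JacobsonSpace {x' : Points F // x' ⤳ x ∧ x' ≠ x} := by
  have hfin := finFibres_of_isDecent hF.diag hd
  have := t0Space_of_finFibres hF hfin
  have := quasiSober_of_isDecent hF hd
  obtain ⟨U, φ, hU, hφ, u, rfl⟩ := exists_affine_chart_at hF x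
  have : IsAffine U.left := hU
  have : IsLocallyNoetherian U.left := isLocallyNoetherian_of_etale_chart hN hφ
  let A := U.left.presheaf.stalk u
  let g := U.left.fromSpecStalk u
  let W := {x' : Points F // x' ⤳ Points.ofPt φ u ∧ x' ≠ Points.ofPt φ u}
  let P : Set (PrimeSpectrum A) := {IsLocalRing.closedPoint A}ᶜ
  have hg0 : g (IsLocalRing.closedPoint A) = u := Scheme.fromSpecStalk_closedPoint
  have hgs : ∀ z, g z ⤳ u := fun z => Scheme.range_fromSpecStalk.subset ⟨z, rfl⟩
  have hmem : ∀ p : P, Points.ofPt φ (g p.1) ⤳ Points.ofPt φ u ∧ Points.ofPt φ (g p.1) ≠ Points.ofPt φ u :=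
    fun p => ⟨(hgs p.1).map (Points.continuous_ofPt φ), fun e => p.2 (g.isEmbedding.injective
      ((eq_of_specializes_of_finFibres hφ (hfin _) rfl e (hgs p.1)).trans hg0.symm))⟩
  let π : P → W := fun p => ⟨Points.ofPt φ (g p.1), hmem p⟩
  have hπc : Continuous π :=
    ((Points.continuous_ofPt φ).comp (g.continuous.comp continuous_subtype_val)).subtype_mk _
  have hπs : Function.Surjective π := fun ⟨x', hx', hne⟩ => by
    obtain ⟨u', hu', he⟩ := exists_specializes_lift hφ hx' (hfin x') rfl
    obtain ⟨z, hz⟩ := Scheme.range_fromSpecStalk.superset hu'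
    refine ⟨⟨z, fun h => hne ?_⟩, Subtype.ext ((congrArg (Points.ofPt φ) hz).trans he)⟩
    rw [Set.mem_singleton_iff] at h
    rw [← he, ← hz, h]
    exact congrArg (Points.ofPt φ) hg0
  have : NoetherianSpace P := inferInstance
  have hWN : NoetherianSpace W := noetherianSpace_of_surjective π hπc hπs
  have hqs : QuasiSober W := by
    refine ⟨fun {Z} hZ hZc => ?_⟩
    let Z' : Set (Points F) := closure (Subtype.val '' Z)
    have hZ' : IsIrreducible Z' := (hZ.image _ continuous_subtype_val.continuousOn).closure
    obtain ⟨η, hη⟩ := QuasiSober.sober hZ' isClosed_closure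
    obtain ⟨z, hz⟩ := hZ.nonempty
    have hηz : η ⤳ z.1 := hη.specializes (subset_closure ⟨z, hz, rfl⟩)
    have hne : η ≠ Points.ofPt φ u := fun e => z.2.2 ((e ▸ hηz).antisymm z.2.1).eq.symm
    refine ⟨⟨η, hηz.trans z.2.1, hne⟩, ?_⟩
    change closure _ = Z
    rw [IsInducing.subtypeVal.closure_eq_preimage_closure_image, Set.image_singleton, hη.def]
    exact (IsInducing.subtypeVal.closure_eq_preimage_closure_image Z).symm.trans hZc.closure_eq
  have hJP : JacobsonSpace P := (Groth.Agent.S3433.result A).1
  refine ⟨hWN, ?_, hqs, ?_⟩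
  · have : T0Space W := inferInstanceAs (T0Space (Subtype _))
    have : CompactSpace W := NoetherianSpace.compactSpace W
    have : QuasiSeparatedSpace W := QuasiSeparatedSpace.mk fun _ _ _ _ _ _ => NoetherianSpace.isCompact _
    have : PrespectralSpace W :=
      PrespectralSpace.of_isTopologicalBasis (B := {s | IsOpen s})
        (isTopologicalBasis_opens) fun s _ => NoetherianSpace.isCompact s
    exact {}
  · by_contra hJ
    have : T0Space W := inferInstanceAs (T0Space (Subtype _))
    have : PrespectralSpace W :=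
      PrespectralSpace.of_isTopologicalBasis (B := {s | IsOpen s})
        (isTopologicalBasis_opens) fun s _ => NoetherianSpace.isCompact s
    obtain ⟨x', hnc, hlc⟩ := Groth.Agent.S7547.result hJ
    refine hnc (closure_subset_iff_isClosed.1 fun y hy => ?_)
    let Q : Set P := π ⁻¹' {x'}
    have hQfin : Q.Finite := by
      have : (Points.ofPt φ ⁻¹' {x'.1}).Finite := hfin x'.1 U φ hU hφ
      refine (this.preimage ((g.isEmbedding.injective.comp Subtype.val_injective).injOn
        (s := (fun p : P => g p.1) ⁻¹' _))).subset fun p hp => ?_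
      exact congrArg Subtype.val hp
    have hQl : IsLocallyClosed Q := hlc.preimage hπc
    have hQc : IsClosed Q := by
      rw [← Set.biUnion_of_singleton Q]
      refine hQfin.isClosed_biUnion fun p hp => ?_
      refine isClosed_singleton_of_isLocallyClosed_singleton ?_
      have hfcl : IsLocallyClosed (Q ∩ closure {p}) := hQl.inter isClosed_closure.isLocallyClosed
      convert hfcl using 1
      refine Set.Subset.antisymm (Set.singleton_subset_iff.2 ⟨hp, subset_closure rfl⟩) ?_
      rintro p' ⟨hp', hpp'⟩
      have h1 : p ⤳ p' := specializes_iff_mem_closure.2 hpp'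
      have h2 : g p.1 = g p'.1 := eq_of_specializes_of_finFibres hφ (hfin x'.1)
        (congrArg Subtype.val hp') (congrArg Subtype.val hp)
        ((h1.map continuous_subtype_val).map g.continuous)
      exact (Subtype.ext (g.isEmbedding.injective h2.symm))
    have hy' : (x' : W).1 ⤳ y.1 :=
      (specializes_iff_mem_closure.2 hy).map continuous_subtype_val
    obtain ⟨⟨p₀, hp₀P⟩, hp₀⟩ := hπs y
    obtain ⟨u', hu', he⟩ := exists_specializes_lift hφ hy' (hfin x'.1) (congrArg Subtype.val hp₀)
    obtain ⟨z, hz⟩ := Scheme.range_fromSpecStalk.superset (hu'.trans (hgs p₀))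
    have hzP : z ∈ P := fun h => x'.2.2 (by
      rw [Set.mem_singleton_iff] at h
      rw [← he, ← hz, h]
      exact congrArg (Points.ofPt φ) hg0)
    have hzQ : (⟨z, hzP⟩ : P) ∈ Q := Subtype.ext (by
      change Points.ofPt φ (g z) = x'.1
      rw [← he, ← hz])
    have hzp : (⟨z, hzP⟩ : P) ⤳ ⟨p₀, hp₀P⟩ :=
      (subtype_specializes_iff _ _).2 (g.isEmbedding.isInducing.specializes_iff.1 (by rw [hz]; exact hu'))
    have := hQc.closure_subset (closure_mono (Set.singleton_subset_iff.2 hzQ)
      (specializes_iff_mem_closure.1 hzp))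
    exact Set.mem_singleton_iff.2 (hp₀.symm.trans this)

end Groth.Agent.AlgSpDecent
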