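import Mathlib.Algebra.Module.CharacterModule
import Mathlib.RingTheory.Flat.Basic
import Mathlib.LinearAlgebra.TensorProduct.Tower

/-!
# Pure ring maps descend flatness (Olivier)

If `A → C` stays injective after tensoring with every module and `C ⊗_A M` is flat over `C`, then
`M` is flat over `A`.
-/

universe u

open TensorProduct

namespace Groth.Agent.AlgSpDecent

variable {A C : Type u} [CommRing A] [CommRing C] [Algebra A C]

/-- A character section of restriction along a pure map. -/
theorem exists_character_section
    (hpure : Function.Injective (TensorProduct.mk A C (CharacterModule A) 1)) :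
    ∃ σ : CharacterModule A →ₗ[A] CharacterModule C, ∀ η a, σ η (algebraMap A C a) = η a := by
  let θ : CharacterModule (CharacterModule A) :=
    ⟨⟨fun η => η 1, rfl⟩, fun _ _ => rfl⟩
  obtain ⟨Θ, hΘ⟩ := CharacterModule.dual_surjective_of_injective _ hpure θ
  refine ⟨(CharacterModule.curry (A := CharacterModule A) (B := C))
    (CharacterModule.dual (TensorProduct.comm A (CharacterModule A) C).toLinearMap Θ), fun η a => ?_⟩
  have h := DFunLike.congr_fun hΘ (a • η)
  change Θ ((1 : C) ⊗ₜ[A] (a • η)) = (a • η) 1 at h
  rw [CharacterModule.smul_apply, smul_eq_mul, mul_one] at h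
  rw [← h, Algebra.algebraMap_eq_smul_one, tmul_smul, smul_tmul']
  rfl

/-- The kernel of a map tensored with a flat module. -/
theorem exists_ker_lift {R M N N' : Type u} [CommRing R] [AddCommGroup M] [Module R M]
    [AddCommGroup N] [Module R N] [AddCommGroup N'] [Module R N'] [Module.Flat R M] (g : N →ₗ[R] N')
    (z : M ⊗[R] N) (hz : g.lTensor M z = 0) :
    ∃ w, (LinearMap.ker g).subtype.lTensor M w = z :=
  (Module.Flat.lTensor_exact M (LinearMap.exact_subtype_ker_map g) z).1 hz

/-- Pure ring maps descend flatness. -/
theorem flat_of_pure (hpure : Function.Injective (TensorProduct.mk A C (CharacterModule A) 1))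
    (M : Type u) [AddCommGroup M] [Module A M] [Module.Flat C (C ⊗[A] M)] : Module.Flat A M := by
  obtain ⟨σ, hσ⟩ := exists_character_section hpure
  refine Module.Flat.iff_lTensor_preserves_injective_linearMap.2 fun N' N _ _ _ _ j hj => ?_
  refine (injective_iff_map_eq_zero _).2 fun x hx => CharacterModule.eq_zero_of_character_apply
    fun ξ => ?_
  -- the extended character on `C ⊗ (M ⊗ N')`
  let B : CharacterModule (C ⊗[A] (M ⊗[A] N')) :=
    CharacterModule.dual (TensorProduct.comm A C (M ⊗[A] N')).toLinearMap
      (CharacterModule.uncurry (σ ∘ₗ CharacterModule.curry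
        (CharacterModule.dual (TensorProduct.rid A (M ⊗[A] N')).toLinearMap ξ)))
  have hB : ∀ z, B ((1 : C) ⊗ₜ[A] z) = ξ z := fun z => by
    show σ _ (1 : C) = ξ z
    rw [← map_one (algebraMap A C), hσ]
    show ξ ((TensorProduct.rid A _) (z ⊗ₜ[A] (1 : A))) = _
    rw [TensorProduct.rid_tmul, one_smul]
  let e := TensorProduct.AlgebraTensorModule.distribBaseChange A C M N'
  suffices h : B ((1 : C) ⊗ₜ[A] x) = 0 by rwa [hB] at h
  let jC : (C ⊗[A] N') →ₗ[C] (C ⊗[A] N) := j.baseChange C
  let eN := TensorProduct.AlgebraTensorModule.distribBaseChange A C M N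
  have hnat : ∀ z, jC.lTensor (C ⊗[A] M) (e z) = eN ((j.lTensor M).baseChange C z) := by
    intro z
    induction z with
    | zero => simp only [map_zero]
    | add a b ha hb => simp only [map_add, ha, hb]
    | tmul c y =>
      induction y with
      | zero => simp only [tmul_zero, map_zero]
      | add a b ha hb => simp only [tmul_add, map_add, ha, hb]
      | tmul m n => simp [e, eN, jC]
  have h0 : jC.lTensor (C ⊗[A] M) (e ((1 : C) ⊗ₜ[A] x)) = 0 := by
    rw [hnat, LinearMap.baseChange_tmul, hx, tmul_zero, map_zero]
  obtain ⟨w, hw⟩ := exists_ker_lift jC _ h0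
  rw [← e.symm_apply_apply ((1 : C) ⊗ₜ[A] x), ← hw]
  clear hw h0
  induction w with
  | zero => simp only [map_zero]
  | add a b ha hb => simp only [map_add, ha, hb, add_zero]
  | tmul u l =>
    induction u with
    | zero => simp only [zero_tmul, map_zero]
    | add a b ha hb => simp only [add_tmul, map_add, ha, hb, add_zero]
    | tmul c m =>
      -- characters of `N'` extend along `j`
      obtain ⟨η, hη⟩ := CharacterModule.dual_surjective_of_injective j hj
        (CharacterModule.dual (TensorProduct.mk A M N' m) ξ)
      let E : CharacterModule (C ⊗[A] N) :=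
        CharacterModule.dual (TensorProduct.comm A C N).toLinearMap
          (CharacterModule.uncurry (σ ∘ₗ CharacterModule.curry
            (CharacterModule.dual (TensorProduct.rid A N).toLinearMap η)))
      have key : ∀ z : C ⊗[A] N', B (e.symm ((c ⊗ₜ[A] m) ⊗ₜ[C] z)) = E (jC (c • z)) := by
        intro z
        induction z with
        | zero => simp only [tmul_zero, map_zero, smul_zero]
        | add a b ha hb => simp only [tmul_add, map_add, smul_add, ha, hb]
        | tmul c' y =>
          have he : e.symm ((c ⊗ₜ[A] m) ⊗ₜ[C] (c' ⊗ₜ[A] y)) = (c * c') ⊗ₜ[A] (m ⊗ₜ[A] y) := by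
            rw [LinearEquiv.symm_apply_eq]
            simp only [e, TensorProduct.AlgebraTensorModule.distribBaseChange_tmul]
            rw [show c' ⊗ₜ[A] y = c' • ((1 : C) ⊗ₜ[A] y) by rw [smul_tmul', smul_eq_mul, mul_one],
              tmul_smul, smul_tmul', smul_tmul', smul_eq_mul, mul_comm c c']
          rw [he, smul_tmul', smul_eq_mul]
          show σ _ (c * c') = σ _ (c * c')
          congr 2
          ext a
          change ξ (a • (m ⊗ₜ[A] y)) = η (a • j y)
          have := DFunLike.congr_fun hη (a • y)
          change η (j (a • y)) = ξ (m ⊗ₜ[A] (a • y)) at this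
          rw [map_smul, tmul_smul] at this
          exact this.symm
      rw [LinearMap.lTensor_tmul, key, map_smul]
      simp [show jC l.1 = 0 from l.2]

end Groth.Agent.AlgSpDecent
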