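import Groth.Agent.Lib.AlgSpDecent.PureFlat
import Groth.Agent.Lib.AlgSpDecent.FlatMonoIso
import Groth.Agent.Lib.AlgSpDecent.Basic2
import Groth.Agent.Lib.AlgSpace.AffineDescent
import Groth.Agent.Lib.AlgSpace.LqfScheme
import Mathlib.Algebra.TrivSqZeroExt.Basic

/-!
# Quasi-compact monomorphisms with universally injective functions are isomorphisms
-/

universe u

set_option backward.isDefEq.respectTransparency.types false

open CategoryTheory CategoryTheory.Limits AlgebraicGeometry AlgSp Topology Opposite TensorProduct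
open Groth.Agent.AlgSpace Groth.Agent.AlgSpace.AffineDescent

namespace Groth.Agent.AlgSpDecent

/-- Global functions pull back injectively along flat surjective morphisms. -/
theorem appTop_injective_of_flat {U W : Scheme.{u}} (f : U ⟶ W) [Flat f] [Surjective f] :
    Function.Injective f.appTop := by
  have := Flat.epi_of_flat_of_surjective f
  intro s t h
  let ev : Γ(W, ⊤) → (CommRingCat.of (MvPolynomial PUnit.{u+1} (ULift.{u} ℤ)) ⟶ Γ(W, ⊤)) := fun s =>
    CommRingCat.ofHom (MvPolynomial.eval₂Hom (Int.castRingHom _ |>.comp ULift.ringEquiv.toRingHom)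
      fun _ => s)
  have e : ev s = ev t := by
    have h1 : f ≫ W.toSpecΓ ≫ Spec.map (ev s) = f ≫ W.toSpecΓ ≫ Spec.map (ev t) := by
      rw [← Category.assoc, ← Category.assoc, Scheme.toSpecΓ_naturality, Category.assoc,
        Category.assoc, ← Spec.map_comp, ← Spec.map_comp]
      congr 2
      ext : 1
      refine MvPolynomial.ringHom_ext (fun a => by simp [ev]) fun _ => ?_
      simpa [ev] using h
    have h2 := congrArg (fun k => k.appTop) ((cancel_epi f).1 h1)
    simp only [Scheme.Hom.comp_appTop, Scheme.toSpecΓ_appTop, Scheme.ΓSpecIso_naturality,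
      cancel_epi] at h2
    exact h2
  have := congrArg (fun k => k.hom (MvPolynomial.X PUnit.unit)) e
  simpa [ev] using this

variable {S : Scheme.{u}} {X Y : Sp S}

/-- The functions on the test scheme inject into those of the base change. -/
def InjOnSections (f : X ⟶ Y) : Prop :=
  ∀ (T : Over S) (g : (yon S).obj T ⟶ Y) (P : Sp S) (fst : P ⟶ X) (snd : P ⟶ (yon S).obj T),
    IsPullback fst snd f g → ∀ s : Γ(T.left, ⊤),
      (∀ (W : Over S) (a : (yon S).obj W ⟶ P) (c : W ⟶ T),
        a ≫ snd = (yon S).map c → c.left.appTop s = 0) → s = 0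

theorem isSurjective_of_injOnSections (f : X ⟶ Y) (h : InjOnSections f) : IsSurjectiveMor f := by
  intro y
  induction y using Quotient.inductionOn with
  | h q =>
    have sq := IsPullback.of_hasPullback f q.toHom
    by_cases hP : Nonempty (Points (pullback f q.toHom))
    · obtain ⟨z⟩ := hP
      refine ⟨Points.map (pullback.fst _ _) z, ?_⟩
      rw [← Points.map_comp, pullback.condition, Points.map_comp]
      exact map_toHom_eq q _
    · exfalso
      have h1 : (1 : Γ(q.pt.left, ⊤)) = 0 := h q.pt q.toHom _ _ _ sq 1 fun W a c _ => by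
        have : IsEmpty W.left := ⟨fun w => hP ⟨Points.ofPt a w⟩⟩
        exact Subsingleton.elim _ _
      have h2 := congrArg ((Scheme.ΓSpecIso (CommRingCat.of q.K)).hom) h1
      rw [map_one, map_zero] at h2
      exact one_ne_zero h2

/-- Over an affine scheme the source has a flat chart. -/
theorem locP_flat_snd (hX : IsAlgSpace X) (hY : IsAlgSpace Y) {f : X ⟶ Y} [Mono f]
    (hqc : IsQuasiCompactMor f) (h : InjOnSections f) {D : Over S} [IsAffine D.left]
    (g : (yon S).obj D ⟶ Y) : LocP @Flat (pullback.snd f g) := by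
  have sq := IsPullback.of_hasPullback f g
  have hP := isAlgSpace_pullback hY hX (IsAlgSpace.yon_obj D) sq
  have := compactSpace_yon_of_affine D
  obtain ⟨U, φ, hU, hφ, hφs⟩ := exists_affine_chart ((isQuasiCompactSp_iff hP).2
    (compactSpace_of_isQuasiCompactMor hX hY hqc (IsAlgSpace.yon_obj D) sq))
  obtain ⟨k, hk⟩ := (yon S).map_surjective (φ ≫ pullback.snd f g)
  refine locP_of_one_chart φ (𝟙 _) k hφ hφs (repWith_id _ D) (by rw [hk, Category.comp_id]) ?_
  -- pass to rings
  let sT : Spec Γ(D.left, ⊤) ⟶ S := D.left.isoSpec.inv ≫ D.hom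
  let eT : D ≅ Over.mk sT := Over.isoMk D.left.isoSpec (by simp [sT])
  let A := Γ(D.left, ⊤)
  let C := Γ(U.left, ⊤)
  letI algC : Algebra A C := k.left.appTop.hom.toAlgebra
  have hA : U.left.isoSpec.hom ≫ Spec.map k.left.appTop = k.left ≫ D.left.isoSpec.hom :=
    Scheme.isoSpec_hom_naturality _
  let eU : U ≅ specOver sT C := Over.isoMk U.left.isoSpec (by
    change U.left.isoSpec.hom ≫ Spec.map k.left.appTop ≫ D.left.isoSpec.inv ≫ D.hom = U.hom
    rw [reassoc_of% hA, Iso.hom_inv_id_assoc, Over.w k])
  have hv : eU.hom ≫ toBase sT C = k ≫ eT.hom := Over.OverMorphism.ext hA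
  let q : pullback f g ⟶ (yon S).obj (Over.mk sT) := pullback.snd f g ≫ (yon S).map eT.hom
  have sq' : IsPullback (pullback.fst f g) q f ((yon S).map eT.inv ≫ g) :=
    IsPullback.of_iso sq (Iso.refl _) (Iso.refl _) ((yon S).mapIso eT) (Iso.refl _) (by simp)
      (by simp [q]) (by simp) (by simp [← Functor.map_comp_assoc])
  let ψ : (yon S).obj (specOver sT C) ⟶ pullback f g := (yon S).map eU.inv ≫ φ
  have hψ : RepWith @Etale ψ := (repWith_respectsIso_left _).2 hφ
  have hψs : RepWith @Surjective ψ := (repWith_respectsIso_left _).2 hφs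
  have hψq : ψ ≫ q = (yon S).map (toBase sT C) := by
    show ((yon S).map eU.inv ≫ φ) ≫ pullback.snd f g ≫ (yon S).map eT.hom = _
    rw [Category.assoc, ← Category.assoc φ, ← hk, ← Functor.map_comp, ← Functor.map_comp, ← hv,
      Iso.inv_hom_id_assoc]
  have : Mono q := inferInstance
  have sqR : IsPullback ((yon S).map (specMap sT (Algebra.TensorProduct.includeLeft : C →ₐ[A] C ⊗[A] C)))
      ((yon S).map (specMap sT (Algebra.TensorProduct.includeRight : C →ₐ[A] C ⊗[A] C))) ψ ψ := by
    refine isPullback_of_comp_mono q ?_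
    rw [hψq]
    exact (isPullback_toBase sT C C).map (yon S)
  have : Module.Flat C (C ⊗[A] C) := by
    have : Etale (specMap sT (Algebra.TensorProduct.includeLeft : C →ₐ[A] C ⊗[A] C)).left :=
      hψ.2 ψ _ _ sqR.flip
    exact RingHom.flat_algebraMap_iff.1 ((HasRingHomProperty.Spec_iff (P := @Flat)
      (φ := CommRingCat.ofHom (algebraMap C (C ⊗[A] C)))).1 (inferInstanceAs (Flat (specMap sT (Algebra.TensorProduct.includeLeft : C →ₐ[A] C ⊗[A] C)).left)))
  have hpure : Function.Injective (TensorProduct.mk A C (CharacterModule A) 1) := by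
    refine (injective_iff_map_eq_zero _).2 fun m hm => ?_
    let M := CharacterModule A
    letI : Module (A)ᵐᵒᵖ M := Module.compHom M ((RingHom.id A).fromOpposite mul_comm)
    haveI : IsCentralScalar A M := ⟨fun _ _ => rfl⟩
    let A' := TrivSqZeroExt A M
    have sqA' := (IsPullback.of_hasPullback q ((yon S).map (toBase sT A'))).paste_horiz sq'
    let pA : (yon S).obj (specOver sT (C ⊗[A] A')) ⟶ pullback q ((yon S).map (toBase sT A')) :=
      pullback.lift ((yon S).map (specMap sT (Algebra.TensorProduct.includeLeft : C →ₐ[A] C ⊗[A] A')) ≫ ψ)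
        ((yon S).map (specMap sT (Algebra.TensorProduct.includeRight : A' →ₐ[A] C ⊗[A] A')))
        (by rw [Category.assoc, hψq, ← Functor.map_comp, ← Functor.map_comp, (isPullback_toBase sT C A').w])
    have hpA : IsPullback ((yon S).map (specMap sT (Algebra.TensorProduct.includeLeft : C →ₐ[A] C ⊗[A] A')))
        pA ψ (pullback.fst q ((yon S).map (toBase sT A'))) := by
      refine IsPullback.of_bot ?_ (pullback.lift_fst _ _ _).symm
        (IsPullback.of_hasPullback q ((yon S).map (toBase sT A')))
      rw [show pA ≫ pullback.snd _ _ = _ from pullback.lift_snd _ _ _, hψq]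
      exact (isPullback_toBase sT C A').map (yon S)
    have hpe := repWith_of_isPullback hpA hψ
    have hps := repWith_of_isPullback hpA hψs
    let x : A' := TrivSqZeroExt.inr m
    let s : Γ((specOver sT A').left, ⊤) := (Scheme.ΓSpecIso (CommRingCat.of A')).inv x
    have hs : s = 0 := h _ _ _ _ _ sqA' s fun W a c hc => by
      have sqW := hpe.1.isPullback' a
      have : Etale (hpe.1.snd a).left := hpe.2 a _ _ (hpe.1.isPullback a)
      have : Surjective (hpe.1.snd a).left := hps.2 a _ _ (hpe.1.isPullback a)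
      refine appTop_injective_of_flat (hpe.1.snd a).left ?_
      have e : hpe.1.snd a ≫ c = hpe.1.fst' a ≫
          specMap sT (Algebra.TensorProduct.includeRight : A' →ₐ[A] C ⊗[A] A') := by
        apply (yon S).map_injective
        rw [Functor.map_comp, Functor.map_comp, ← hc, ← Category.assoc, ← sqW.w, Category.assoc,
          show pA ≫ pullback.snd _ _ = _ from pullback.lift_snd _ _ _]
      rw [map_zero, ← CommRingCat.comp_apply, ← Scheme.Hom.comp_appTop, ← Over.comp_left, e,
        Over.comp_left, Scheme.Hom.comp_appTop, CommRingCat.comp_apply]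
      have h0 : (Algebra.TensorProduct.includeRight : A' →ₐ[A] C ⊗[A] A') x = 0 := by
        have := congrArg ((TrivSqZeroExt.inrHom A M).restrictScalars A |>.lTensor C) hm
        simpa [x] using this
      have h1 : (specMap sT (Algebra.TensorProduct.includeRight : A' →ₐ[A] C ⊗[A] A')).left.appTop s = 0 := by
        have h2 : (Scheme.ΓSpecIso _).inv ((Algebra.TensorProduct.includeRight : A' →ₐ[A] C ⊗[A] A') x) =
            (specMap sT (Algebra.TensorProduct.includeRight : A' →ₐ[A] C ⊗[A] A')).left.appTop s :=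
          ConcreteCategory.congr_hom (Scheme.ΓSpecIso_inv_naturality
            (CommRingCat.ofHom (Algebra.TensorProduct.includeRight : A' →ₐ[A] C ⊗[A] A').toRingHom)) x
        rw [← h2, h0]
        exact map_zero _
      rw [h1, map_zero]
    have hx : x = 0 := by
      have := congrArg ((Scheme.ΓSpecIso (CommRingCat.of A')).hom.hom) hs
      exact (ConcreteCategory.congr_hom (Scheme.ΓSpecIso (CommRingCat.of A')).inv_hom_id x).symm.trans
        (this.trans (RingHom.map_zero _))
    exact TrivSqZeroExt.inr_injective (hx.trans (TrivSqZeroExt.inr_zero (R := A)).symm)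
  have : Module.Flat A C := flat_of_pure hpure C
  exact (HasRingHomProperty.iff_of_isAffine (P := @Flat) (f := k.left)).2 this

theorem locP_flat_of_injOnSections (hX : IsAlgSpace X) (hY : IsAlgSpace Y) {f : X ⟶ Y} [Mono f]
    (hqc : IsQuasiCompactMor f) (h : InjOnSections f) : LocP @Flat f := by
  obtain ⟨V, b, hbe, hbs⟩ := hY.atlas
  have sq := IsPullback.of_hasPullback f b
  refine locP_of_target_cover hX hY hbe hbs sq ?_
  obtain ⟨U, r, hre, hrs⟩ := (isAlgSpace_pullback hY hX (IsAlgSpace.yon_obj V) sq).atlas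
  obtain ⟨k, hk⟩ := (yon S).map_surjective (r ≫ pullback.snd f b)
  refine locP_of_one_chart r (𝟙 _) k hre hrs (repWith_id _ V) (by rw [hk, Category.comp_id]) ?_
  refine (IsZariskiLocalAtTarget.iff_of_iSup_eq_top (P := @Flat)
    (fun D : V.left.affineOpens => D.1) (iSup_affineOpens_eq_top V.left)).2 ?_
  rintro ⟨D, hD⟩
  let VD : Over S := Over.mk (D.ι ≫ V.hom)
  let ιD : VD ⟶ V := Over.homMk D.ι rfl
  have : IsAffine VD.left := hD
  have sqD := IsPullback.of_hasPullback f ((yon S).map ιD ≫ b)
  let UD : Over S := Over.mk ((k.left ⁻¹ᵁ D).ι ≫ U.hom)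
  let j : UD ⟶ U := Over.homMk (k.left ⁻¹ᵁ D).ι rfl
  let kD : UD ⟶ VD := Over.homMk (k.left ∣_ D) (by
    change (k.left ∣_ D) ≫ D.ι ≫ V.hom = (k.left ⁻¹ᵁ D).ι ≫ U.hom
    rw [morphismRestrict_ι_assoc, Over.w k])
  have hsq : IsPullback j kD k ιD := IsPullback.of_map (Over.forget S)
    (Over.OverMorphism.ext (morphismRestrict_ι k.left D).symm) (isPullback_morphismRestrict k.left D).flip
  let rD : (yon S).obj UD ⟶ pullback f ((yon S).map ιD ≫ b) :=
    sqD.lift ((yon S).map j ≫ r ≫ pullback.fst f b) ((yon S).map kD) (by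
      rw [Category.assoc, Category.assoc, pullback.condition, ← Category.assoc r, ← hk,
        ← Category.assoc, ← Functor.map_comp, hsq.w, Functor.map_comp, Category.assoc])
  let m : pullback f ((yon S).map ιD ≫ b) ⟶ pullback f b :=
    sq.lift (pullback.fst _ _) (pullback.snd _ _ ≫ (yon S).map ιD) (by rw [Category.assoc]; exact sqD.w)
  have sqm : IsPullback m (pullback.snd f ((yon S).map ιD ≫ b)) (pullback.snd f b) ((yon S).map ιD) :=
    IsPullback.of_right (by simpa [m] using sqD) (by simp [m]) sq
  have sqr : IsPullback ((yon S).map j) rD r m := by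
    refine IsPullback.of_bot ?_ ?_ sqm
    · rw [← hk]
      simpa [rD] using hsq.map (yon S)
    · apply sq.hom_ext
      · simp [rD, m]
      · simp [rD, m, ← hk, ← Functor.map_comp, hsq.w]
  exact locP_flat_snd hX hY hqc h ((yon S).map ιD ≫ b) rD (𝟙 _) kD (repWith_of_isPullback sqr hre)
    (repWith_id _ VD) (by simp [rD])

end Groth.Agent.AlgSpDecent
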