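import Groth.Agent.Lib.AlgSpDecent.FiniteMin
import Groth.Agent.Lib.AlgSpDecent.LocNoeth
import Groth.Agent.Lib.AlgSpace.MorDiag
import Mathlib.AlgebraicGeometry.Noetherian
import Mathlib.AlgebraicGeometry.IdealSheaf.Subscheme

/-!
# Locally noetherian decent spaces are quasi-separated; decent spaces with one point
-/

universe u

set_option backward.isDefEq.respectTransparency.types false

open CategoryTheory CategoryTheory.Limits AlgebraicGeometry AlgSp Topology TopologicalSpace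
open Groth.Agent.AlgSpace

namespace Groth.Agent.AlgSpDecent

/-- A separated etale morphism with finite fibres over a noetherian affine scheme has compact
source. -/
theorem compactSpace_of_finite_fibres {R U : Scheme.{u}} [IsAffine U] [IsNoetherian U] (s : R ⟶ U)
    [Etale s] [IsSeparated s] (hfin : ∀ u, (s ⁻¹' {u}).Finite) : CompactSpace R := by
  suffices ∀ Z : Closeds U, IsCompact (s ⁻¹' (Z : Set U)) by
    refine ⟨?_⟩
    simpa using this ⊤
  intro Z
  induction Z using WellFoundedLT.induction with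
  | ind Z ih =>
  by_cases hZ : (Z : Set U).Nonempty
  swap
  · rw [Set.not_nonempty_iff_eq_empty.1 hZ, Set.preimage_empty]; exact isCompact_empty
  let I := Scheme.IdealSheafData.vanishingIdeal Z
  let ι := I.subschemeι
  have hι : Set.range ι = (Z : Set U) := by
    rw [Scheme.IdealSheafData.range_subschemeι]
    exact Scheme.IdealSheafData.coe_support_vanishingIdeal Z
  have : IsAffine I.subscheme := isAffine_of_isAffineHom ι
  obtain ⟨z₀, -⟩ : ∃ z₀ : I.subscheme, True := by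
    obtain ⟨z, hz⟩ := hZ
    rw [← hι] at hz
    obtain ⟨z', -⟩ := hz
    exact ⟨z', trivial⟩
  have hfin' : ∀ z, (pullback.snd s ι ⁻¹' {z}).Finite := fun z => by
    refine ((hfin (ι z)).preimage (pullback.fst s ι).isClosedEmbedding.injective.injOn).subset
      fun w hw => ?_
    change s (pullback.fst s ι w) ∈ ({ι z} : Set _)
    rw [Set.mem_singleton_iff, ← Scheme.Hom.comp_apply, pullback.condition,
      Scheme.Hom.comp_apply]
    exact congrArg ι hw
  obtain ⟨Q, -, ⟨q, hq⟩, hQ, hQfin⟩ :=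
    exists_isFinite_restrict (pullback.snd s ι) hfin' ⊤ ⟨z₀, trivial⟩
  have : IsAffine Q.toScheme := hQ
  have : IsAffine (pullback.snd s ι ⁻¹ᵁ Q).toScheme := isAffine_of_isAffineHom (pullback.snd s ι ∣_ Q)
  obtain ⟨G, hG, hGQ⟩ := ι.isClosedEmbedding.isInducing.isOpen_iff.1 Q.isOpen
  let Z' : Closeds U := ⟨(Z : Set U) \ G, Z.isClosed.sdiff hG⟩
  have hlt : Z' < Z := by
    refine lt_of_le_of_ne (fun x hx => hx.1) fun e => ?_
    have h1 : ι q ∈ (Z' : Set U) := by rw [e, ← hι]; exact ⟨q, rfl⟩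
    exact h1.2 (show q ∈ ι ⁻¹' G from hGQ ▸ hq)
  have hsplit : s ⁻¹' (Z : Set U) =
      pullback.fst s ι '' (pullback.snd s ι ⁻¹ᵁ Q : (pullback s ι).Opens) ∪ s ⁻¹' (Z' : Set U) := by
    ext r
    constructor
    · intro hr
      by_cases hrG : s r ∈ G
      · obtain ⟨z, hz⟩ : s r ∈ Set.range ι := hι ▸ hr
        obtain ⟨w, hw, hwz⟩ := Scheme.Pullback.exists_preimage_pullback (f := s) (g := ι) r z hz.symm
        refine Or.inl ⟨w, ?_, hw⟩
        change pullback.snd s ι w ∈ (Q : Set _)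
        rw [hwz, ← hGQ, Set.mem_preimage, hz]
        exact hrG
      · exact Or.inr ⟨hr, hrG⟩
    · rintro (⟨w, -, rfl⟩ | hr)
      · rw [Set.mem_preimage, ← Scheme.Hom.comp_apply, pullback.condition, Scheme.Hom.comp_apply, ← hι]
        exact ⟨_, rfl⟩
      · exact hr.1
  rw [hsplit]
  refine IsCompact.union (IsCompact.image ?_ (pullback.fst s ι).continuous) (ih Z' hlt)
  exact isCompact_iff_compactSpace.2 (inferInstanceAs (CompactSpace (pullback.snd s ι ⁻¹ᵁ Q).toScheme))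

variable {S : Scheme.{u}}

/-- A locally noetherian decent space is quasi-separated. -/
theorem isQuasiSeparatedSp_of_isDecent {F : Sp S} (hX : IsAlgSpace F) (hN : IsLocNoethSp F)
    (h : IsDecent F) : IsQuasiSeparatedSp F := by
  obtain ⟨U, p, hpe, hps⟩ := hX.atlas
  obtain ⟨R, s, fst, sq⟩ := hpe.1 p
  obtain ⟨t, rfl⟩ := (yon S).map_surjective fst
  have := isLocallyNoetherian_of_etale_chart hN hpe
  have : Etale s.left := hpe.2 p _ _ sq
  have := isLocalAtTarget_fppf_quasiCompact.{u}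
  refine repWith_diag_of_chart hX.diag hpe hps sq ?_
  let m := prod.lift t s
  let p₁ := (Limits.prod.fst : U ⨯ U ⟶ U).left
  let p₂ := (Limits.prod.snd : U ⨯ U ⟶ U).left
  have hm₁ : m.left ≫ p₁ = t.left := congrArg (·.left) (Limits.prod.lift_fst t s)
  have hm₂ : m.left ≫ p₂ = s.left := congrArg (·.left) (Limits.prod.lift_snd t s)
  choose O hO huO hOS using fun u : U.left => show ∃ O : U.left.Opens, IsAffineOpen O ∧ u ∈ O ∧
      ∃ S₀ : S.Opens, IsAffineOpen S₀ ∧ O ≤ U.hom ⁻¹ᵁ S₀ from by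
    obtain ⟨S₀, hS₀, huS₀, -⟩ := exists_isAffineOpen_mem_and_subset (X := S) (x := U.hom u) (U := ⊤) trivial
    obtain ⟨O, hO, huO, hsub⟩ :=
      exists_isAffineOpen_mem_and_subset (X := U.left) (x := u) (U := U.hom ⁻¹ᵁ S₀) huS₀
    exact ⟨O, hO, huO, S₀, hS₀, hsub⟩
  refine IsZariskiLocalAtTarget.of_iSup_eq_top (P := @QuasiCompact)
    (fun k : U.left × U.left => p₁ ⁻¹ᵁ O k.1 ⊓ p₂ ⁻¹ᵁ O k.2)
    (top_le_iff.1 fun z _ => TopologicalSpace.Opens.mem_iSup.2 ⟨(p₁ z, p₂ z), huO _, huO _⟩) fun k => ?_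
  let Oi := O k.1
  let Oj := O k.2
  let W : R.left.Opens := t.left ⁻¹ᵁ Oi ⊓ s.left ⁻¹ᵁ Oj
  -- the piece of the relation is quasi-compact
  have : IsAffine Oj.toScheme := hO k.2
  have : IsAffine Oi.toScheme := hO k.1
  have : IsLocallyNoetherian Oj.toScheme := isLocallyNoetherian_of_isOpenImmersion Oj.ι
  have : IsNoetherian Oj.toScheme := {}
  let s' : W.toScheme ⟶ Oj.toScheme := IsOpenImmersion.lift Oj.ι (W.ι ≫ s.left)
    (by rintro _ ⟨r, rfl⟩; rw [Oj.range_ι]; exact r.2.2)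
  let t' : W.toScheme ⟶ Oi.toScheme := IsOpenImmersion.lift Oi.ι (W.ι ≫ t.left)
    (by rintro _ ⟨r, rfl⟩; rw [Oi.range_ι]; exact r.2.1)
  have hs' : s' ≫ Oj.ι = W.ι ≫ s.left := IsOpenImmersion.lift_fac _ _ _
  have ht' : t' ≫ Oi.ι = W.ι ≫ t.left := IsOpenImmersion.lift_fac _ _ _
  have : Etale (s' ≫ Oj.ι) := by rw [hs']; infer_instance
  have : Etale s' := Etale.of_comp s' Oj.ι
  -- separatedness
  obtain ⟨Si, hSi, hOiSi⟩ := hOS k.1
  have : IsAffine Si.toScheme := hSi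
  have : IsSeparated s' := by
    let a : Oi.toScheme ⟶ S := Oi.ι ≫ U.hom
    let v : Oi.toScheme ⟶ Si.toScheme := IsOpenImmersion.lift Si.ι a
      (by rintro _ ⟨x, rfl⟩; rw [Si.range_ι]; exact hOiSi x.2)
    have : IsSeparated a := by
      rw [← (IsOpenImmersion.lift_fac Si.ι a _ : v ≫ Si.ι = a)]; infer_instance
    let n : W.toScheme ⟶ pullback a (Oj.ι ≫ U.hom) := pullback.lift t' s' (by
      rw [reassoc_of% ht', reassoc_of% hs', Over.w t, Over.w s])
    have hn₁ : n ≫ pullback.fst _ _ = t' := pullback.lift_fst _ _ _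
    have hn₂ : n ≫ pullback.snd _ _ = s' := pullback.lift_snd _ _ _
    have : Mono n := ⟨fun {T} b c e => by
      have e₁ : b ≫ W.ι ≫ t.left = c ≫ W.ι ≫ t.left := by
        rw [← ht', ← hn₁]; simp only [← Category.assoc, e]
      have e₂ : b ≫ W.ι ≫ s.left = c ≫ W.ι ≫ s.left := by
        rw [← hs', ← hn₂]; simp only [← Category.assoc, e]
      let b' : Over.mk (b ≫ W.ι ≫ R.hom) ⟶ R := Over.homMk (b ≫ W.ι) (by simp)
      let c' : Over.mk (b ≫ W.ι ≫ R.hom) ⟶ R := Over.homMk (c ≫ W.ι) (by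
        change (c ≫ W.ι) ≫ R.hom = b ≫ W.ι ≫ R.hom
        rw [← Over.w s, Category.assoc]
        simp only [← Category.assoc] at e₂ ⊢
        rw [e₂])
      have : b' = c' := (yon S).map_injective (sq.hom_ext
        (by rw [← Functor.map_comp, ← Functor.map_comp]
            exact congrArg _ (Over.OverMorphism.ext ((Category.assoc _ _ _).trans (e₁.trans (Category.assoc _ _ _).symm))))
        (by rw [← Functor.map_comp, ← Functor.map_comp]
            exact congrArg _ (Over.OverMorphism.ext ((Category.assoc _ _ _).trans (e₂.trans (Category.assoc _ _ _).symm)))))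
      exact (cancel_mono W.ι).1 (congrArg (·.left) this)⟩
    rw [← hn₂]
    infer_instance
  -- finiteness of the fibres
  let M : Over S := Over.mk ((Oi ⊔ Oj).ι ≫ U.hom)
  let ι : M ⟶ U := Over.homMk (Oi ⊔ Oj).ι rfl
  let ψ : (yon S).obj M ⟶ F := (yon S).map ι ≫ p
  have : CompactSpace M.left := isCompact_iff_compactSpace.1
    ((hO k.1).isCompact.union (hO k.2).isCompact)
  have hψ : RepWith @Etale ψ := repWith_etale_restrict hpe _
  obtain ⟨RM, sM, fstM, sqM⟩ := hψ.1 ψ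
  obtain ⟨tM, rfl⟩ := (yon S).map_surjective fstM
  have hfin : ∀ v, (s' ⁻¹' {v}).Finite := fun v => by
    obtain ⟨q, hq, -, hqc⟩ := h (Points.ofPt p (Oj.ι v))
    have hM := (finite_fibres_of_qc_fieldPt hX.diag q hqc hψ).2 RM sM tM sqM
    let Wo : Over S := Over.mk (W.ι ≫ R.hom)
    let jW : Wo ⟶ R := Over.homMk W.ι rfl
    let la := IsOpenImmersion.lift (Oi ⊔ Oj).ι (W.ι ≫ t.left)
      (by rintro _ ⟨r, rfl⟩; rw [Scheme.Opens.range_ι]; exact Or.inl r.2.1)
    let lb := IsOpenImmersion.lift (Oi ⊔ Oj).ι (W.ι ≫ s.left)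
      (by rintro _ ⟨r, rfl⟩; rw [Scheme.Opens.range_ι]; exact Or.inr r.2.2)
    let aM : Wo ⟶ M := Over.homMk la (by
      change la ≫ (Oi ⊔ Oj).ι ≫ U.hom = _
      rw [IsOpenImmersion.lift_fac_assoc, Category.assoc, Over.w t]; rfl)
    let bM : Wo ⟶ M := Over.homMk lb (by
      change lb ≫ (Oi ⊔ Oj).ι ≫ U.hom = _
      rw [IsOpenImmersion.lift_fac_assoc, Category.assoc, Over.w s]; rfl)
    have haM : aM ≫ ι = jW ≫ t := Over.OverMorphism.ext (IsOpenImmersion.lift_fac _ _ _)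
    have hbM : bM ≫ ι = jW ≫ s := Over.OverMorphism.ext (IsOpenImmersion.lift_fac _ _ _)
    obtain ⟨l, hl⟩ := (yon S).map_surjective (sqM.lift ((yon S).map aM) ((yon S).map bM) (by
      simp only [ψ, ← Functor.map_comp_assoc, haM, hbM]
      rw [Functor.map_comp_assoc, Functor.map_comp_assoc, sq.w]))
    have hlt : l ≫ tM = aM :=
      (yon S).map_injective (by rw [Functor.map_comp, hl]; exact sqM.lift_fst _ _ _)
    have hls : l ≫ sM = bM :=
      (yon S).map_injective (by rw [Functor.map_comp, hl]; exact sqM.lift_snd _ _ _)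
    have : Mono l := ⟨fun {T} b c e => by
      have e₁ : b ≫ jW ≫ t = c ≫ jW ≫ t := by
        rw [← haM, ← hlt]; simp only [← Category.assoc, e]
      have e₂ : b ≫ jW ≫ s = c ≫ jW ≫ s := by
        rw [← hbM, ← hls]; simp only [← Category.assoc, e]
      have : Mono jW := (Over.forget S).mono_of_mono_map (inferInstanceAs (Mono W.ι))
      refine (cancel_mono jW).1 ((yon S).map_injective (sq.hom_ext ?_ ?_))
      · rw [← Functor.map_comp, ← Functor.map_comp, Category.assoc, Category.assoc, e₁]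
      · rw [← Functor.map_comp, ← Functor.map_comp, Category.assoc, Category.assoc, e₂]⟩
    have : Mono l.left := inferInstanceAs (Mono ((Over.forget S).map l))
    refine (hM.preimage l.left.injective.injOn).subset fun r hr => ?_
    rw [Set.mem_preimage, Set.mem_singleton_iff] at hr
    have hsr : s.left (W.ι r) = Oj.ι v := by rw [← hr, ← Scheme.Hom.comp_apply, ← hs', Scheme.Hom.comp_apply]
    rw [Set.mem_preimage, Set.mem_preimage, Set.mem_singleton_iff, hq, ← hsr, ← ofPt_rel sq]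
    simp only [ψ, ofPt_map_comp]
    rw [show tM.left (l.left r) = aM.left r from congrArg (fun a : Wo ⟶ M => a.left r) hlt,
      show ι.left (aM.left r) = t.left (W.ι r) from congrArg (fun a : Wo ⟶ U => a.left r) haM]
  have hcomp : CompactSpace W.toScheme := compactSpace_of_finite_fibres s' hfin
  -- conclusion
  have hpre : m.left ⁻¹ᵁ (p₁ ⁻¹ᵁ Oi ⊓ p₂ ⁻¹ᵁ Oj) = W := by
    rw [Scheme.Hom.preimage_inf, ← Scheme.Hom.comp_preimage, ← Scheme.Hom.comp_preimage, hm₁, hm₂]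
  have : CompactSpace (m.left ⁻¹ᵁ (p₁ ⁻¹ᵁ Oi ⊓ p₂ ⁻¹ᵁ Oj)).toScheme := by rw [hpre]; exact hcomp
  have : QuasiSeparatedSpace (p₁ ⁻¹ᵁ Oi ⊓ p₂ ⁻¹ᵁ Oj : (U ⨯ U).left.Opens).toScheme := by
    let P : (U ⨯ U).left.Opens := p₁ ⁻¹ᵁ Oi ⊓ p₂ ⁻¹ᵁ Oj
    let a : P.toScheme ⟶ Oi.toScheme := IsOpenImmersion.lift Oi.ι (P.ι ≫ p₁)
      (by rintro _ ⟨z, rfl⟩; rw [Oi.range_ι]; exact z.2.1)
    let b : P.toScheme ⟶ Oj.toScheme := IsOpenImmersion.lift Oj.ι (P.ι ≫ p₂)
      (by rintro _ ⟨z, rfl⟩; rw [Oj.range_ι]; exact z.2.2)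
    have ha : a ≫ Oi.ι = P.ι ≫ p₁ := IsOpenImmersion.lift_fac _ _ _
    have hb : b ≫ Oj.ι = P.ι ≫ p₂ := IsOpenImmersion.lift_fac _ _ _
    let n : P.toScheme ⟶ pullback (Oi.ι ≫ U.hom) (Oj.ι ≫ U.hom) := pullback.lift a b (by
      rw [reassoc_of% ha, reassoc_of% hb, Over.w, Over.w])
    have : Mono n := ⟨fun {T} x y e => by
      have e₁ : (x ≫ P.ι) ≫ p₁ = (y ≫ P.ι) ≫ p₁ := by
        rw [Category.assoc, Category.assoc, ← ha,
          ← (pullback.lift_fst _ _ _ : n ≫ pullback.fst _ _ = a)]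
        simp only [Category.assoc]; rw [reassoc_of% e]
      have e₂ : (x ≫ P.ι) ≫ p₂ = (y ≫ P.ι) ≫ p₂ := by
        rw [Category.assoc, Category.assoc, ← hb,
          ← (pullback.lift_snd _ _ _ : n ≫ pullback.snd _ _ = b)]
        simp only [Category.assoc]; rw [reassoc_of% e]
      refine (cancel_mono P.ι).1 ?_
      exact (isPullback_fst_left U U).hom_ext e₁ e₂⟩
    let v : Oi.toScheme ⟶ Si.toScheme := IsOpenImmersion.lift Si.ι (Oi.ι ≫ U.hom)
      (by rintro _ ⟨x, rfl⟩; rw [Si.range_ι]; exact hOiSi x.2)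
    have : IsSeparated (Oi.ι ≫ U.hom) := by
      rw [← (IsOpenImmersion.lift_fac Si.ι (Oi.ι ≫ U.hom) _ : v ≫ Si.ι = _)]; infer_instance
    exact quasiSeparatedSpace_of_quasiSeparated (n ≫ pullback.snd _ _)
  have h1 : QuasiCompact ((m.left ∣_ (p₁ ⁻¹ᵁ Oi ⊓ p₂ ⁻¹ᵁ Oj)) ≫ terminal.from _) := by
    rw [terminal.comp_from]
    exact (compactSpace_iff_quasiCompact _).1 inferInstance
  have : QuasiSeparated (terminal.from (p₁ ⁻¹ᵁ Oi ⊓ p₂ ⁻¹ᵁ Oj : (U ⨯ U).left.Opens).toScheme) :=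
    (quasiSeparatedSpace_iff_quasiSeparated _).1 ‹_›
  exact QuasiCompact.of_comp _ (terminal.from _)

end Groth.Agent.AlgSpDecent
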