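import Groth.Agent.Lib.AlgSpDecent.FiniteNhd
import Groth.Agent.Lib.AlgSpace.PieceLocal
import Groth.Agent.Lib.AlgSpace.LqfScheme
import Groth.Agent.Lib.AlgSpace.ImmDescent
import Groth.Agent.Lib.AlgSpace.MorDiag

/-!
# Splitting off finitely many quasi-finite points after an etale localization
-/

universe u

set_option backward.isDefEq.respectTransparency.types false

open CategoryTheory CategoryTheory.Limits AlgebraicGeometry AlgSp Topology
open Groth.Agent.AlgSpace

namespace Groth.Agent.AlgSpDecent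

variable {S : Scheme.{u}}

/-- Geometric sections over finitely many points of a locally quasi-finite scheme are finite. -/
theorem finite_geomPts {K : Type u} [Field K] [IsAlgClosed K] {X V : Scheme.{u}} [IsAffine V]
    (k : X ⟶ V) [LocallyQuasiFinite k] [LocallyOfFiniteType k] (t : Spec (.of K) ⟶ V) {F : Set X}
    (hF : F.Finite) :
    {z : Spec (.of K) ⟶ X | z ≫ k = t ∧ z (IsLocalRing.closedPoint K) ∈ F}.Finite := by
  let s := pullback.snd k t
  have : DiscreteTopology ↥(pullback k t) := by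
    refine isDiscrete_univ_iff.1 ?_
    have h : s ⁻¹' {IsLocalRing.closedPoint K} = Set.univ :=
      Set.eq_univ_iff_forall.2 fun y => Subsingleton.elim _ _
    exact h ▸ s.isDiscrete_preimage_singleton (IsLocalRing.closedPoint K)
  have hfib : ∀ p ∈ F, ((pullback.fst k t) ⁻¹' {p}).Finite := fun p _ => by
    obtain ⟨O, hO, hpO, -⟩ := exists_isAffineOpen_mem_and_subset (X := X) (x := p) (U := ⊤) trivial
    exact ((Scheme.Hom.isCompact_preimage (pullback.fst k t) hO.isCompact).finite_of_discrete).subset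
      (Set.preimage_mono (Set.singleton_subset_iff.2 hpO))
  have hfin : ((pullback.fst k t) ⁻¹' F).Finite := hF.preimage' hfib
  let toPt : ↥{z : Spec (.of K) ⟶ X | z ≫ k = t ∧ z (IsLocalRing.closedPoint K) ∈ F} →
      ↥((pullback.fst k t) ⁻¹' F) := fun z =>
    ⟨pullback.lift z.1 (𝟙 _) (by rw [z.2.1, Category.id_comp]) (IsLocalRing.closedPoint K), by
      rw [Set.mem_preimage, ← Scheme.Hom.comp_apply, pullback.lift_fst]; exact z.2.2⟩
  have := hfin.to_subtype
  refine Set.finite_coe_iff.1 (Finite.of_injective toPt fun z₁ z₂ h => Subtype.ext ?_)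
  have := ext_of_apply_closedPoint_eq s (pullback.lift_snd _ _ _) (pullback.lift_snd _ _ _)
    (congrArg Subtype.val h)
  have := congrArg (fun m => m ≫ pullback.fst k t) this
  change _ ≫ pullback.fst k t = _ ≫ pullback.fst k t at this
  rwa [pullback.lift_fst, pullback.lift_fst] at this

/-- A geometric point of the base lifts to every point of a locally quasi-finite scheme above it. -/
theorem exists_geomPt {K : Type u} [Field K] [IsAlgClosed K] {X V : Scheme.{u}}
    (k : X ⟶ V) [LocallyQuasiFinite k] [LocallyOfFiniteType k] (l : Spec (.of K) ⟶ V) (z : X)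
    (hz : k z = l (IsLocalRing.closedPoint K)) :
    ∃ w : Spec (.of K) ⟶ X, w ≫ k = l ∧ w (IsLocalRing.closedPoint K) = z := by
  obtain ⟨p, hp, -⟩ := Scheme.Pullback.exists_preimage_pullback (f := k) (g := l) z (IsLocalRing.closedPoint K) hz
  obtain ⟨w, hw, hwp⟩ := AlgSpace.PieceLocal.exists_section_through (pullback.snd k l) p
  refine ⟨w ≫ pullback.fst k l, ?_, ?_⟩
  · rw [Category.assoc, pullback.condition, reassoc_of% hw]
  · rw [Scheme.Hom.comp_apply, hwp, hp]

/-- An open subspace which is a scheme, containing all points isolated in their fibres. -/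
theorem exists_lqf_open {P : Sp S} {V : Over S} (hP : IsAlgSpace P) (q : P ⟶ (yon S).obj V)
    (hft : LocP @LocallyOfFiniteType q) (hsep : IsSeparatedMor q) :
    ∃ (G : Over S) (g : (yon S).obj G ⟶ P) (k : G ⟶ V), RepWith @IsOpenImmersion g ∧
      g ≫ q = (yon S).map k ∧ LocallyQuasiFinite k.left ∧ LocallyOfFiniteType k.left ∧
      IsSeparated k.left ∧ ∀ (W : Over S) (φ : (yon S).obj W ⟶ P) (h : W ⟶ V) (w : ↥W.left),
        RepWith @Etale φ → φ ≫ q = (yon S).map h → IsoIn h.left w →
          Points.ofPt φ w ∈ Set.range (Points.map g) := by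
  obtain ⟨A, p, hpe, hps⟩ := hP.atlas
  obtain ⟨h₀, hh₀⟩ := (yon S).map_surjective (p ≫ q)
  have : LocallyOfFiniteType h₀.left := hft p (𝟙 _) h₀ hpe (repWith_id _ V) (by
    rw [hh₀, Category.comp_id])
  let O : A.left.Opens := h₀.left.quasiFiniteLocus
  let E := Points.ofPt p '' (O : Set A.left)
  have hE : IsOpen E := isOpenMap_ofPt p hpe _ O.isOpen
  let AO : Over S := Over.mk (O.ι ≫ A.hom)
  let ιO : AO ⟶ A := Over.homMk O.ι rfl
  obtain ⟨l, hl⟩ := exists_factor_openSub (W := E) ((yon S).map ιO ≫ p) (by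
    rintro _ ⟨x, rfl⟩
    obtain ⟨z, rfl⟩ := (Points.schemeEquiv AO).surjective x
    change Points.map _ (Points.ofScheme AO z) ∈ _
    rw [← Points.ofPt_eq_map_ofScheme, ofPt_map_comp]
    exact ⟨_, z.2, rfl⟩)
  have hle : RepWith @Etale l := repWith_of_isPullback (isPullback_of_mono l (openSubι E)) (by
    rw [hl]; exact repWith_etale_restrict hpe O)
  have hinj : Function.Injective (Points.map (openSubι E)) :=
    injective_map_of_openImmersion (repWith_openSubι hE)
  have hls : RepWith @Surjective l := repWith_surjective_of_ofPt hle.1 fun x => by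
    obtain ⟨a, ha, he⟩ : Points.map (openSubι E) x ∈ E :=
      (range_openSubι E).le ⟨x, rfl⟩
    refine ⟨⟨a, ha⟩, hinj ?_⟩
    rw [Points.map_ofPt, hl, ofPt_map_comp]
    exact he
  have hqfO : LocallyQuasiFinite (O.ι ≫ h₀.left) := by
    rw [← Scheme.Hom.quasiFiniteLocus_eq_top_iff, eq_top_iff]
    intro x _
    rw [Scheme.Hom.mem_quasiFiniteLocus]
    exact Scheme.Hom.quasiFiniteAt_comp_iff_of_isOpenImmersion.2 x.2
  have hAlg : IsAlgSpace (openSub E) := isAlgSpace_of_representable (repWith_openSubι hE).1 hP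
  have hqf : LocP (@LocallyQuasiFinite ⊓ @LocallyOfFiniteType) (openSubι E ≫ q) := by
    have comm : l ≫ openSubι E ≫ q = (yon S).map (ιO ≫ h₀) ≫ 𝟙 _ := by
      rw [reassoc_of% hl, ← hh₀, Category.comp_id, Functor.map_comp]
    exact locP_inf
      (locP_of_one_chart l (𝟙 _) (ιO ≫ h₀) hle hls (repWith_id _ V) comm hqfO)
      (locP_of_one_chart l (𝟙 _) (ιO ≫ h₀) hle hls (repWith_id _ V) comm
        (inferInstanceAs (LocallyOfFiniteType (O.ι ≫ h₀.left))))
  have hsep' : IsSeparatedMor (openSubι E ≫ q) :=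
    repWith_diagonal_comp (repWith_diagonal_of_mono _) hsep
  obtain ⟨G, ⟨e⟩⟩ := exists_iso_yon_of_lqf_separated hAlg _ hsep' hqf
  obtain ⟨k, hk⟩ := (yon S).map_surjective (e.hom ≫ openSubι E ≫ q)
  have hk' := hqf e.hom (𝟙 _) k (MorphismProperty.of_isIso (RepWith (S := S) @Etale) e.hom)
    (repWith_id _ V) (by rw [hk, Category.comp_id])
  refine ⟨G, e.hom ≫ openSubι E, k, repWith_comp
    (MorphismProperty.of_isIso (RepWith (S := S) @IsOpenImmersion) e.hom) (repWith_openSubι hE),
    by rw [hk, Category.assoc], hk'.1, hk'.2, ?_, ?_⟩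
  · refine (isSeparatedMor_yon_map_iff k).1 ?_
    rw [hk]
    exact repWith_diagonal_comp (repWith_diagonal_of_mono _) hsep'
  intro W φ h w hφ hh hw
  rw [map_comp_eq, Set.range_comp, (bijective_map_iso e.hom).2.range_eq, Set.image_univ,
    range_openSubι]
  obtain ⟨a, ha⟩ := surjective_ofPt hps (Points.ofPt φ w)
  refine ⟨a, ?_, ha⟩
  show a ∈ h₀.left.quasiFiniteLocus
  rw [Scheme.Hom.mem_quasiFiniteLocus]
  exact quasiFiniteAt_of_isoIn _ (isoIn_of_diagram hP (IsAlgSpace.yon_obj V) hφ (repWith_id _ V)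
    (by rw [hh, Category.comp_id]) hpe (repWith_id _ V) (by rw [hh₀, Category.comp_id]) ha.symm hw)

/-- An etale localization splits off finitely many points isolated in their fibre. -/
theorem exists_split {P : Sp S} {V : Over S} [IsAffine V.left] (hP : IsAlgSpace P)
    (q : P ⟶ (yon S).obj V) (hft : LocP @LocallyOfFiniteType q) (hsep : IsSeparatedMor q)
    (v : ↥V.left) (F : Set (Points P)) (hF : F.Finite)
    (hiso : ∀ z ∈ F, ∃ (W : Over S) (φ : (yon S).obj W ⟶ P) (h : W ⟶ V) (w : ↥W.left),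
      RepWith @Etale φ ∧ φ ≫ q = (yon S).map h ∧ Points.ofPt φ w = z ∧ IsoIn h.left w) :
    ∃ (T : Over S) (e : T ⟶ V) (t : ↥T.left) (N : Over S)
      (n : (yon S).obj N ⟶ pullback q ((yon S).map e)), Etale e.left ∧ e.left t = v ∧
      RepWith @IsOpenImmersion n ∧ RepWith @IsClosedImmersion n ∧
      IsFiniteMor (n ≫ pullback.snd _ _) ∧
      ∀ w, Points.map (pullback.snd q ((yon S).map e)) w = Points.ofScheme T t →
        (w ∈ Set.range (Points.map n) ↔ Points.map (pullback.fst _ _) w ∈ F) := by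
  obtain ⟨G, g, k, hg, hk, hkq, hkl, hks, hG⟩ := exists_lqf_open hP q hft hsep
  have hFG : F ⊆ Set.range (Points.map g) := fun z hz => by
    obtain ⟨W, φ, h, w, hφ, hh, rfl, hw⟩ := hiso z hz
    exact hG W φ h w hφ hh hw
  have hginj := injective_map_of_openImmersion hg
  let FG : Set G.left := {a | Points.ofPt g a ∈ F}
  have hFGfin : FG.Finite := hF.preimage fun a _ b _ hab => (Points.schemeEquiv G).injective
    (hginj ((Points.ofPt_eq_map_ofScheme g a).symm.trans
      (Eq.trans hab (Points.ofPt_eq_map_ofScheme g b))))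
  let K := AlgebraicClosure (V.left.residueField v)
  let t₀ : Spec (.of K) ⟶ V.left :=
    Spec.map (CommRingCat.ofHom (algebraMap (V.left.residueField v) K)) ≫
      V.left.fromSpecResidueField v
  have ht₀ : t₀ (IsLocalRing.closedPoint K) = v := by
    rw [Scheme.Hom.comp_apply, Scheme.fromSpecResidueField_apply]
  let zs : List (Spec (.of K) ⟶ G.left) := (finite_geomPts k.left t₀ hFGfin).toFinset.toList
  have hzs : ∀ z, z ∈ zs ↔ z ≫ k.left = t₀ ∧ z (IsLocalRing.closedPoint K) ∈ FG := fun z => by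
    simp [zs]
  obtain ⟨T₁, e₁, Vp, he₁, hVp, hpiece⟩ := AlgSpace.PieceLocal.exists_piece_of_points k.left
    (zs.map fun z => z (IsLocalRing.closedPoint K))
  obtain ⟨l, hl, hw⟩ := hpiece K t₀ zs rfl fun z hz => ((hzs z).1 hz).1
  let T : Over S := Over.mk (e₁ ≫ V.hom)
  let e : T ⟶ V := Over.homMk e₁ rfl
  let Q : Over S := Over.mk (pullback.snd k.left e₁ ≫ T.hom)
  let a₁ : Q ⟶ G := Over.homMk (pullback.fst k.left e₁) (by
    rw [← Over.w k, ← Category.assoc, pullback.condition, Category.assoc]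
    rfl)
  let a₂ : Q ⟶ T := Over.homMk (pullback.snd k.left e₁) rfl
  have sqQ : IsPullback a₁ a₂ k e := IsPullback.of_map (Over.forget S)
    (Over.OverMorphism.ext pullback.condition) (IsPullback.of_hasPullback k.left e₁)
  let N : Over S := Over.mk (Vp.ι ≫ Q.hom)
  let ιN : N ⟶ Q := Over.homMk Vp.ι rfl
  have sqQ' : IsPullback ((yon S).map a₁) ((yon S).map a₂) (g ≫ q) ((yon S).map e) := by
    rw [hk]; exact sqQ.map (yon S)
  have sqP := IsPullback.of_hasPullback q ((yon S).map e)
  let m : (yon S).obj Q ⟶ pullback q ((yon S).map e) :=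
    sqP.lift ((yon S).map a₁ ≫ g) ((yon S).map a₂) (by rw [Category.assoc]; exact sqQ'.w)
  have sqm : IsPullback ((yon S).map a₁) m g (pullback.fst q ((yon S).map e)) :=
    IsPullback.of_bot (by simpa [m] using sqQ') (by simp [m]) sqP
  have hm : RepWith @IsOpenImmersion m := repWith_of_isPullback sqm hg
  let n : (yon S).obj N ⟶ pullback q ((yon S).map e) := (yon S).map ιN ≫ m
  have hn : RepWith @IsOpenImmersion n :=
    repWith_comp ((repWith_yon_map_iff _ _).2 (inferInstanceAs (IsOpenImmersion Vp.ι))) hm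
  have hns : n ≫ pullback.snd q ((yon S).map e) = (yon S).map (ιN ≫ a₂) := by
    simp [n, m]
  have hfin : RepWith @IsFinite (n ≫ pullback.snd q ((yon S).map e)) := by
    rw [hns]; exact (repWith_yon_map_iff _ _).2 hVp
  have hnfin : RepWith @IsFinite n := repWith_of_comp_of_diagonal hfin
    (repWith_mono (P := @IsClosedImmersion) (Q := @IsFinite) (fun _ _ i (_ : IsClosedImmersion i) => inferInstanceAs (IsFinite i))
      (isSeparatedMor_of_isPullback sqP hsep))
  have hncl : RepWith @IsClosedImmersion n := ⟨hn.1, fun A B r fst snd sq => by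
    have : IsFinite snd.left := hnfin.2 r fst snd sq
    have : IsOpenImmersion snd.left := hn.2 r fst snd sq
    exact (IsClosedImmersion.iff_isFinite_and_mono _).2 ⟨‹_›, show Mono snd.left from inferInstance⟩⟩
  refine ⟨T, e, l (IsLocalRing.closedPoint K), N, n, he₁, ?_, hn, hncl,
    isFiniteMor_iff_repWith.2 hfin, fun w hwu => ?_⟩
  · show e₁ (l _) = v
    rw [← Scheme.Hom.comp_apply, hl, ht₀]
  -- the criterion at a point of the pullback of the scheme piece
  have key : ∀ z : ↥Q.left, a₂.left z = l (IsLocalRing.closedPoint K) →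
      (z ∈ Vp ↔ a₁.left z ∈ FG) := fun z hz => by
    obtain ⟨w', hw', hw'z⟩ := exists_geomPt (pullback.snd k.left e₁) l z hz
    have h1 := hw w' hw'
    rw [hw'z, hzs] at h1
    refine h1.trans ⟨fun h => ?_, fun h => ⟨?_, ?_⟩⟩
    · have := h.2
      rwa [Scheme.Hom.comp_apply, hw'z] at this
    · rw [Category.assoc, pullback.condition, reassoc_of% hw', hl]
    · rw [Scheme.Hom.comp_apply, hw'z]; exact h
  constructor
  · rintro ⟨p, rfl⟩
    obtain ⟨z, rfl⟩ := (Points.schemeEquiv N).surjective p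
    change Points.map _ (Points.map n (Points.ofScheme N z)) ∈ F
    change Points.map _ (Points.map n (Points.ofScheme N z)) = _ at hwu
    rw [← Points.map_comp, hns, ← Points.ofPt_eq_map_ofScheme, ofPt_map_eq] at hwu
    rw [← Points.map_comp, show n ≫ pullback.fst q ((yon S).map e) = (yon S).map (ιN ≫ a₁) ≫ g by
      simp [n, m], ← Points.ofPt_eq_map_ofScheme, ofPt_map_comp]
    exact (key (ιN.left z) ((Points.schemeEquiv T).injective hwu)).1 z.2
  · intro hw0
    obtain ⟨a, ha⟩ := hFG hw0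
    obtain ⟨a, rfl⟩ := (Points.schemeEquiv G).surjective a
    obtain ⟨p, hp₁, hp₂⟩ := exists_point_lift sqm _ w ha
    obtain ⟨z, rfl⟩ := (Points.schemeEquiv Q).surjective p
    change Points.map _ (Points.ofScheme Q z) = Points.ofScheme G a at hp₁
    change Points.map m (Points.ofScheme Q z) = w at hp₂
    rw [← Points.ofPt_eq_map_ofScheme, ofPt_map_eq] at hp₁
    have hz : a₂.left z = l (IsLocalRing.closedPoint K) := by
      apply (Points.schemeEquiv T).injective
      change Points.ofScheme T (a₂.left z) = _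
      rw [← hp₂, ← Points.map_comp, sqP.lift_snd, ← Points.ofPt_eq_map_ofScheme, ofPt_map_eq] at hwu
      exact hwu
    have hzV : z ∈ Vp := (key z hz).2 (by
      show Points.ofPt g (a₁.left z) ∈ F
      rw [(Points.schemeEquiv G).injective hp₁, Points.ofPt_eq_map_ofScheme]
      exact ha ▸ hw0)
    refine ⟨Points.ofScheme N ⟨z, hzV⟩, ?_⟩
    rw [← hp₂, Points.map_comp, ← Points.ofPt_eq_map_ofScheme ((yon S).map ιN), ofPt_map_eq]
    rfl

/-- Splitting off finitely many quasi-finite points of the base change to an affine chart. -/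
theorem exists_split_space {X Y : AlgSp.Space S} (f : X ⟶ Y)
    (hf1 : LocP @LocallyOfFiniteType f.hom) (hf2 : IsSeparatedMor f.hom) {V : Over S}
    [IsAffine V.left] (b : (yon S).obj V ⟶ Y.obj) (hb : RepWith @Etale b) (v : ↥V.left)
    (F : Set (Points (pullback f.hom b))) (hF : F.Finite)
    (hFv : ∀ z ∈ F, Points.map (pullback.snd f.hom b) z = Points.ofScheme V v)
    (hqf : ∀ z ∈ F, HasAtMor (fun U _ h u => ∃ W : U.Opens, u ∈ W ∧ LocallyQuasiFinite (W.ι ≫ h) ∧
      LocallyOfFiniteType (W.ι ≫ h)) f.hom (Points.map (pullback.fst f.hom b) z)) :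
    ∃ (U : AlgSp.Space S) (a : U ⟶ Y) (u : Points U.obj), IsEtaleMor a.hom ∧
      Points.map a.hom u = Points.ofPt b v ∧
      ∀ (P : AlgSp.Space S) (prX : P ⟶ X) (prU : P ⟶ U), IsPullback prX.hom prU.hom f.hom a.hom →
        ∃ (N : AlgSp.Space S) (j : N ⟶ P), RepWith @IsOpenImmersion j.hom ∧
          RepWith @IsClosedImmersion j.hom ∧ IsFiniteMor (j ≫ prU).hom ∧
          (∀ w, Points.map prU.hom w = u → ∃ z, Points.map (pullback.snd f.hom b) z = Points.ofScheme V v ∧
            Points.map (pullback.fst f.hom b) z = Points.map prX.hom w ∧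
            (w ∈ Set.range (Points.map j.hom) ↔ z ∈ F)) ∧
          ∀ z ∈ F, ∃ w ∈ Set.range (Points.map j.hom), Points.map prU.hom w = u ∧
            Points.map prX.hom w = Points.map (pullback.fst f.hom b) z := by
  have sq := IsPullback.of_hasPullback f.hom b
  have hP₀ : IsAlgSpace (pullback f.hom b) :=
    isAlgSpace_pullback Y.property X.property (IsAlgSpace.yon_obj V) sq
  obtain ⟨T, e, t, N, n, hee, het, hno, hnc, hnf, hmem⟩ := exists_split hP₀ (pullback.snd f.hom b)
    (locP_of_isPullback X.property Y.property (IsAlgSpace.yon_obj V) sq hf1)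
    (isSeparatedMor_of_isPullback sq hf2) v F hF fun z hz => by
      obtain ⟨A, p, hpe, hps⟩ := hP₀.atlas
      obtain ⟨h, hh⟩ := (yon S).map_surjective (p ≫ pullback.snd f.hom b)
      obtain ⟨w, rfl⟩ := surjective_ofPt hps z
      refine ⟨A, p, h, w, hpe, hh.symm, rfl, ?_⟩
      have w₂ : (p ≫ pullback.fst f.hom b) ≫ f.hom = (yon S).map h ≫ b := by
        rw [Category.assoc, pullback.condition, ← Category.assoc, hh]
      obtain ⟨U₁, V₁, a₁, b₁, h₁, u₁, ha₁, hb₁, w₁, he, W₁, hu₁, hqf₁, -⟩ := hqf _ hz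
      refine isoIn_of_diagram X.property Y.property ha₁ hb₁ w₁
        (repWith_comp hpe (repWith_of_isPullback sq.flip hb)) hb w₂ (by rw [he, map_ofPt]) ?_
      exact (isoIn_of_lqf (W₁.ι ≫ h₁.left) ⟨u₁, hu₁⟩).of_isOpenMap W₁.ι.isOpenMap
  let U : AlgSp.Space S := ⟨(yon S).obj T, IsAlgSpace.yon_obj T⟩
  let a : U ⟶ Y := ObjectProperty.homMk ((yon S).map e ≫ b)
  have hve : Points.map ((yon S).map e) (Points.ofScheme T t) = Points.ofScheme V v := by
    rw [← Points.ofPt_eq_map_ofScheme, ofPt_map_eq, het]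
  have hae : RepWith @Etale ((yon S).map e ≫ b) := repWith_comp ((repWith_yon_map_iff _ _).2 hee) hb
  refine ⟨U, a, Points.ofScheme T t, fun W φ hφ => repWith_comp hφ hae, ?_, fun P prX prU hPB => ?_⟩
  · show Points.map ((yon S).map e ≫ b) _ = _
    rw [Points.map_comp, hve, ← Points.ofPt_eq_map_ofScheme]
  have sqP := IsPullback.of_hasPullback (pullback.snd f.hom b) ((yon S).map e)
  let i := (sqP.paste_horiz sq).isoIsPullback _ _ hPB
  have hi₁ : i.hom ≫ prX.hom = pullback.fst _ _ ≫ pullback.fst f.hom b :=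
    IsPullback.isoIsPullback_hom_fst ..
  have hi₂ : i.hom ≫ prU.hom = pullback.snd _ _ := IsPullback.isoIsPullback_hom_snd ..
  have hr : ∀ w, Points.map i.hom w ∈ Set.range (Points.map (n ≫ i.hom)) ↔
      w ∈ Set.range (Points.map n) := fun w => by
    rw [map_comp_eq, Set.range_comp, (bijective_map_iso i.hom).1.mem_set_image]
  refine ⟨⟨(yon S).obj N, IsAlgSpace.yon_obj N⟩, ObjectProperty.homMk (n ≫ i.hom),
    repWith_comp hno (MorphismProperty.of_isIso (RepWith (S := S) @IsOpenImmersion) i.hom),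
    repWith_comp hnc (MorphismProperty.of_isIso (RepWith (S := S) @IsClosedImmersion) i.hom), ?_,
    fun w hw => ?_, fun z hz => ?_⟩
  · show IsFiniteMor ((n ≫ i.hom) ≫ prU.hom)
    rwa [Category.assoc, hi₂]
  · obtain ⟨w, rfl⟩ := (bijective_map_iso i.hom).2 w
    rw [← Points.map_comp, hi₂] at hw
    refine ⟨Points.map (pullback.fst _ _) w, ?_, by rw [← Points.map_comp, ← Points.map_comp, hi₁],
      (hr w).trans (hmem w hw)⟩
    rw [← Points.map_comp, sqP.w, Points.map_comp, hw, hve]
  · obtain ⟨w, hw₁, hw₂⟩ := AlgSpDecent.exists_point_lift sqP z (Points.ofScheme T t)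
      ((hFv z hz).trans hve.symm)
    refine ⟨Points.map i.hom w, (hr w).2 ((hmem w hw₂).2 (hw₁ ▸ hz)), ?_, ?_⟩
    · rw [← Points.map_comp, hi₂, hw₂]
    · rw [← Points.map_comp, hi₁, Points.map_comp, hw₁]

/-- Points of a quasi-compact scheme isolated in a given fibre are finite. -/
theorem finite_isoIn_fibre {W V : Scheme.{u}} (k : W ⟶ V) [LocallyOfFiniteType k] [QuasiCompact k]
    (v : V) : {w : W | k w = v ∧ IsoIn k w}.Finite := by
  have : LocallyOfFiniteType (k.fiberToSpecResidueField v) :=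
    MorphismProperty.pullback_snd _ _ inferInstance
  have : QuasiCompact (k.fiberToSpecResidueField v) :=
    MorphismProperty.pullback_snd _ _ inferInstance
  have : IsLocallyNoetherian (k.fiber v) :=
    LocallyOfFiniteType.isLocallyNoetherian (k.fiberToSpecResidueField v)
  have : CompactSpace (k.fiber v) :=
    QuasiCompact.compactSpace_of_compactSpace (k.fiberToSpecResidueField v)
  have : IsNoetherian (k.fiber v) := {}
  let D : Set (k.fiber v) := {p | IsOpen ({p} : Set (k.fiber v))}
  have hD : D.Finite := (TopologicalSpace.NoetherianSpace.isCompact D).finite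
    (isDiscrete_iff_forall_exists_isOpen.2 fun p hp => ⟨{p}, hp,
      Set.inter_eq_left.2 (Set.singleton_subset_iff.2 hp)⟩)
  refine (hD.image (k.fiberι v)).subset ?_
  rintro w ⟨rfl, O, hO, hw, hwo⟩
  refine ⟨k.asFiber w, ?_, by simp⟩
  change IsOpen _
  rw [← (k.fiberHomeo (k w)).isOpen_image, Set.image_singleton,
    show k.fiberHomeo (k w) (k.asFiber w) = ⟨w, rfl⟩ by simp [Scheme.Hom.asFiber]]
  convert hO.preimage (continuous_subtype_val (p := fun z => z ∈ k ⁻¹' {k w})) using 1
  ext ⟨z, hz⟩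
  constructor
  · intro e
    rw [Set.mem_singleton_iff, Subtype.mk.injEq] at e
    exact show z ∈ O from e ▸ hw
  · intro hm
    exact Subtype.ext (hwo z hm hz)

end Groth.Agent.AlgSpDecent
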