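import Groth.Agent.Lib.AlgSpDecent.SymPower
import Groth.Agent.Lib.AlgSpDecent.RedInduced
import Groth.Agent.Lib.AlgSpDecent.Basic2
import Groth.Agent.Lib.AlgSpDecent.Split
import Mathlib.Topology.Spectral.ConstructibleTopology
import Mathlib.CategoryTheory.Limits.Constructions.Over.Products

/-!
# The stratification of a space by the number of geometric points of an affine etale chart
-/

universe u

set_option backward.isDefEq.respectTransparency.types false

open CategoryTheory CategoryTheory.Limits AlgebraicGeometry AlgSp Topology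
open Groth.Agent.AlgSpace

namespace Groth.Agent.AlgSpDecent

variable {S : Scheme.{u}}

/-- Open subspaces `U p` on which at least `p` nowhere agreeing points of the chart exist, with the
strata between consecutive ones covered by the schemes of unordered tuples. -/
theorem exists_strat (X : Space S) {U : Over S} [IsAffine U.left] {φ : (yon S).obj U ⟶ X.obj}
    (hφ : RepWith @Etale φ) (hφs : RepWith @Surjective φ) :
    ∃ (Uo : ℕ → Space S) (j : ∀ p, Uo p ⟶ X) (k : ∀ p, Uo (p + 1) ⟶ Uo p)
      (T : ℕ → Space S) (i : ∀ p, T p ⟶ Uo p),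
      (∀ p, RepWith @IsOpenImmersion (j p).hom) ∧ (∀ p, k p ≫ j p = j (p + 1)) ∧ IsIso (j 1) ∧
      (∀ p, IsRedInduced (Set.range (Points.map (k p).hom))ᶜ (i p).hom) ∧
      (∀ p, Set.range (Points.map (j p).hom) = distImage φ (p - 1)) ∧
      (∀ n, ∀ x ∈ distImage φ n, x ∉ distImage φ (n + 1) →
        x ∈ Set.range (Points.map (i (n + 1) ≫ j (n + 1)).hom)) ∧
      (∀ p, 1 ≤ p → ∃ (V : Over S) (f : (yon S).obj V ⟶ (Uo p).obj), V.left.IsSeparated ∧
        RepWith @Etale f ∧ RepWith @Surjective f ∧
        ((∀ R : Over S, ∀ s t : R ⟶ U, IsPullback ((yon S).map t) ((yon S).map s) φ φ →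
          QuasiCompact s.left) → CompactSpace V.left) ∧
        ∀ (P : Sp S) (fst : P ⟶ (T p).obj) (snd : P ⟶ (yon S).obj V),
          IsPullback fst snd (i p).hom f → IsIso fst) := by
  let D : ℕ → Set (Points X.obj) := fun p => distImage φ (p - 1)
  have hD : ∀ p, IsOpen (D p) := fun p => isOpen_distImage hφ _
  let Uo : ℕ → Space S := fun p => ⟨openSub (D p),
    isAlgSpace_of_representable (repWith_openSubι (hD p)).1 X.property⟩
  let j : ∀ p, Uo p ⟶ X := fun p => ObjectProperty.homMk (openSubι (D p))
  have hj : ∀ p, Set.range (Points.map (j p).hom) = D p := fun p => range_openSubι _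
  have hinj : ∀ p, Function.Injective (Points.map (j p).hom) := fun p =>
    injective_map_of_openImmersion (repWith_openSubι (hD p))
  have hle : ∀ p, Set.range (Points.map (j (p + 1)).hom) ⊆ D p := fun p => by
    rw [hj]; exact distImage_antitone (by omega)
  choose k₀ hk₀ using fun p => exists_factor_openSub (j (p + 1)).hom (hle p)
  let k : ∀ p, Uo (p + 1) ⟶ Uo p := fun p => ObjectProperty.homMk (k₀ p)
  have hkj : ∀ p, k p ≫ j p = j (p + 1) := fun p => ObjectProperty.hom_ext _ (hk₀ p)
  have hk : ∀ p (z : Points (Uo p).obj),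
      z ∈ Set.range (Points.map (k p).hom) ↔ Points.map (j p).hom z ∈ D (p + 1) := fun p z => by
    constructor
    · rintro ⟨y, rfl⟩
      rw [← Points.map_comp, ← hj]
      exact ⟨y, congrArg (fun g : (Uo (p + 1)).obj ⟶ X.obj => Points.map g y) (hk₀ p).symm⟩
    · intro h
      obtain ⟨y, hy⟩ := (hj (p + 1)).ge h
      refine ⟨y, hinj p ?_⟩
      rw [← Points.map_comp]
      exact (congrArg (fun g : (Uo (p + 1)).obj ⟶ X.obj => Points.map g y) (hk₀ p)).trans hy
  have hcl : ∀ p, IsClosed (Set.range (Points.map (k p).hom))ᶜ := fun p => by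
    rw [isClosed_compl_iff, show Set.range (Points.map (k p).hom) =
      Points.map (j p).hom ⁻¹' D (p + 1) from Set.ext (hk p)]
    exact (hD _).preimage (Points.continuous_map _)
  choose T i hi using fun p => RedInduced.exists_isRedInduced (Uo p) _ (hcl p)
  refine ⟨Uo, j, k, T, i, fun p => repWith_openSubι (hD p), hkj, ?_, hi, hj, fun n x hx hx' => ?_,
    fun p hp => ?_⟩
  · have hD1 : D 1 = Set.univ := Set.eq_univ_of_forall fun x => by
      obtain ⟨u, rfl⟩ := surjective_ofPt hφs x
      exact mem_distImage_zero u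
    have : IsIso (j 1).hom := isIso_of_isOpenImmersion_of_surjective (repWith_openSubι (hD 1))
      (Set.range_eq_univ.1 (by rw [hj, hD1]))
    exact (isIso_iff_of_reflects_iso (j 1) (ObjectProperty.ι _)).1 ‹_›
  · obtain ⟨z, hz⟩ := (hj (n + 1)).ge (show x ∈ D (n + 1) from hx)
    have hz' : z ∉ Set.range (Points.map (k (n + 1)).hom) := fun h => hx' (hz ▸ (hk _ z).1 h)
    obtain ⟨w, hw⟩ := (hi (n + 1)).2.1.ge hz'
    exact ⟨w, by
      change Points.map ((i (n + 1)).hom ≫ (j (n + 1)).hom) w = x
      rw [Points.map_comp, hw, hz]⟩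
  · obtain ⟨n, rfl⟩ : ∃ n, p = n + 1 := ⟨p - 1, by omega⟩
    obtain ⟨V, v, hVsep, hve, hvr, hvc, hv⟩ := exists_symPower X.property hφ n
    have hr : Set.range (Points.map v) ⊆ D (n + 1) := by
      rintro _ ⟨z, rfl⟩
      obtain ⟨z, rfl⟩ := (Points.schemeEquiv V).surjective z
      change Points.map v (Points.ofScheme V z) ∈ _
      rw [← Points.ofPt_eq_map_ofScheme]
      exact hvr.le ⟨z, rfl⟩
    obtain ⟨f, hf⟩ := exists_factor_openSub v hr
    have hfe : RepWith @Etale f :=
      repWith_of_isPullback (isPullback_of_mono f (openSubι (D (n + 1)))) (by rw [hf]; exact hve)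
    have hfs : RepWith @Surjective f := repWith_surjective_of_ofPt hfe.1 fun x => by
      obtain ⟨z, hz⟩ := hvr.ge (show Points.map (j (n + 1)).hom x ∈ D (n + 1) from
        (hj (n + 1)).le ⟨x, rfl⟩)
      refine ⟨z, hinj (n + 1) ?_⟩
      rw [Points.map_ofPt]
      exact (congrArg (fun g => Points.ofPt g z) hf).trans hz
    refine ⟨V, f, hVsep, hfe, hfs, hvc, fun P fst snd sq => ?_⟩
    have hfste : RepWith @Etale fst := repWith_of_isPullback sq.flip hfe
    have hfsts : RepWith @Surjective fst := repWith_of_isPullback sq.flip hfs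
    have := isLocallySurjective_of_etale (a := fst) hfste hfsts
    have : Epi fst := Sheaf.epi_of_isLocallySurjective' fst
    have : Mono fst := mono_of_yon _ fun T' x y e => by
      obtain ⟨x', hx'⟩ := (yon S).map_surjective (x ≫ snd)
      obtain ⟨y', hy'⟩ := (yon S).map_surjective (y ≫ snd)
      have hxv : (yon S).map x' ≫ v = (x ≫ fst ≫ (i (n + 1)).hom) ≫ (j (n + 1)).hom := by
        rw [hx', ← hf, Category.assoc, ← sq.w_assoc]
        simp only [Category.assoc]
        rfl
      have hyv : (yon S).map y' ≫ v = (y ≫ fst ≫ (i (n + 1)).hom) ≫ (j (n + 1)).hom := by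
        rw [hy', ← hf, Category.assoc, ← sq.w_assoc]
        simp only [Category.assoc]
        rfl
      have hxy : x' = y' := hv x' y' (by rw [hxv, hyv, reassoc_of% e]) fun τ hτ => by
        rw [hxv, ← Points.map_ofPt, ← Category.assoc, ← Points.map_ofPt] at hτ
        exact (hi (n + 1)).2.1.le ⟨_, rfl⟩ ((hk _ _).2 hτ)
      exact sq.hom_ext e (by rw [← hx', ← hy', hxy])
    exact isIso_of_mono_of_epi fst

/-- A point with a quasi-compact representative lies in finitely many of the opens. -/
theorem exists_notMem_distImage {X : Sp S} {U : Over S} [IsAffine U.left]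
    {φ : (yon S).obj U ⟶ X} (hφ : RepWith @Etale φ) (q : FieldPt X)
    (hq : RepWith @QuasiCompact q.toHom) : ∃ m, Points.mk q ∉ distImage φ m := by
  classical
  obtain ⟨Q, sn, pr, sq⟩ := hq.1 φ
  obtain ⟨e, rfl⟩ := (yon S).map_surjective pr
  have : Etale e.left := hφ.2 q.toHom _ _ sq.flip
  have : QuasiCompact sn.left := hq.2 φ _ _ sq
  have : CompactSpace Q.left := QuasiCompact.compactSpace_of_compactSpace sn.left
  have : LocallyQuasiFinite e.left := locallyQuasiFinite_of_etale e.left
  let K := AlgebraicClosure q.K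
  let t₀ : Spec (.of K) ⟶ q.pt.left := Spec.map (CommRingCat.ofHom (algebraMap q.K K))
  have : Subsingleton q.pt.left := inferInstanceAs (Subsingleton (PrimeSpectrum q.K))
  have : IsAffine q.pt.left := inferInstanceAs (IsAffine (Spec _))
  have : DiscreteTopology Q.left := by
    refine isDiscrete_univ_iff.1 ?_
    have h : e.left ⁻¹' {IsLocalRing.closedPoint q.K} = Set.univ :=
      Set.eq_univ_iff_forall.2 fun y => Subsingleton.elim (α := q.pt.left) _ _
    exact h ▸ e.left.isDiscrete_preimage_singleton _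
  have : Finite Q.left := finite_of_compact_of_discrete
  have hZ : {z : Spec (.of K) ⟶ Q.left | z ≫ e.left = t₀ ∧
      z (IsLocalRing.closedPoint K) ∈ (Set.univ : Set Q.left)}.Finite :=
    finite_geomPts e.left t₀ Set.finite_univ
  refine ⟨hZ.toFinset.card, fun h => ?_⟩
  generalize hn : hZ.toFinset.card = n at h
  obtain ⟨W, -⟩ := exists_distScheme hφ n
  obtain ⟨w, hw⟩ := (distImage_eq_range hφ W).le h
  obtain ⟨R, rs, rf, sqR⟩ := (repWith_etale_dist hφ W).1 q.toHom
  obtain ⟨rf, rfl⟩ := (yon S).map_surjective rf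
  have : Etale rs.left := (repWith_etale_dist hφ W).2 q.toHom _ _ sqR
  have : LocallyQuasiFinite rs.left := locallyQuasiFinite_of_etale rs.left
  obtain ⟨z₀, hz₀⟩ := exists_map_toHom_eq q
  obtain ⟨ρ, -, -⟩ := exists_pt_of_isPullback sqR.flip (x := z₀) (hz₀.trans hw.symm)
  obtain ⟨g₀, hg₀, -⟩ := exists_geomPt rs.left t₀ ρ (Subsingleton.elim (α := q.pt.left) _ _)
  let Sk : Over S := Over.mk (t₀ ≫ q.pt.hom)
  let g : Sk ⟶ R := Over.homMk g₀ (by
    show g₀ ≫ R.hom = t₀ ≫ q.pt.hom
    rw [← Over.w rs, reassoc_of% hg₀])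
  let τ : Sk ⟶ q.pt := Over.homMk t₀ rfl
  have hgτ : g ≫ rs = τ := Over.OverMorphism.ext hg₀
  have hb : ∀ i, (yon S).map τ ≫ q.toHom = (yon S).map (g ≫ rf ≫ W.π i) ≫ φ := fun i => by
    rw [← hgτ, Functor.map_comp, Functor.map_comp, Functor.map_comp, Category.assoc, Category.assoc,
      Category.assoc, W.tup i, sqR.w]
  choose c hc using fun i => (yon S).map_surjective (sq.lift _ _ (hb i))
  have hce : ∀ i, c i ≫ e = τ := fun i =>
    (yon S).map_injective (by rw [Functor.map_comp, hc, sq.lift_fst])
  have hcs : ∀ i, c i ≫ sn = g ≫ rf ≫ W.π i := fun i =>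
    (yon S).map_injective (by rw [Functor.map_comp, hc, sq.lift_snd])
  have hd : DistAt (fun i => (g ≫ rf) ≫ W.π i) (IsLocalRing.closedPoint K) :=
    (distAt_comp hφ W.tup _ _).2 (W.dist _)
  have hci : Function.Injective fun i : Fin (n + 1) => (c i).left := fun a b hab => hd.inj (by
    have : c a = c b := Over.OverMorphism.ext hab
    simp only [Category.assoc, ← hcs, this]
    exact agree_refl _ _)
  have := Finset.card_le_card_of_injOn (s := (Finset.univ : Finset (Fin (n + 1))))
    (t := hZ.toFinset) (fun i => (c i).left) (fun i _ => by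
      simp only [Set.Finite.coe_toFinset]
      exact ⟨by rw [← Over.comp_left, hce]; rfl, trivial⟩) hci.injOn
  rw [Finset.card_univ, Fintype.card_fin] at this
  exact absurd (this.trans hn.le) (by omega)

/-- On a quasi-separated space over a quasi-separated base an affine chart has a quasi-compact
relation. -/
theorem quasiCompact_rel [QuasiSeparatedSpace S] {X : Sp S} (hqs : IsQuasiSeparatedSp X)
    {U : Over S} [IsAffine U.left] {φ : (yon S).obj U ⟶ X} {R : Over S} {s t : R ⟶ U}
    (sq : IsPullback ((yon S).map t) ((yon S).map s) φ φ) : QuasiCompact s.left := by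
  have h1 : QuasiCompact (prod.lift t s).left :=
    prop_lift_of_repWith_diag (P := @QuasiCompact) hqs sq
  have : QuasiCompact U.hom := inferInstance
  have h2 : QuasiCompact (prod.snd : U ⨯ U ⟶ U).left := MorphismProperty.of_isPullback
    (P := @QuasiCompact) (Over.isPullback_of_binaryFan_isLimit (BinaryFan.mk prod.fst prod.snd) (prodIsProd U U)) this
  rw [← prod.lift_snd t s, Over.comp_left]
  infer_instance

/-- On a quasi-compact quasi-separated space the stratification is finite. -/
theorem exists_distImage_eq_empty [QuasiSeparatedSpace S] {X : Sp S} (hX : IsAlgSpace X)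
    (hqs : IsQuasiSeparatedSp X) {U : Over S} [IsAffine U.left] {φ : (yon S).obj U ⟶ X}
    (hφ : RepWith @Etale φ) (hφs : RepWith @Surjective φ) : ∃ n, distImage φ n = ∅ := by
  obtain ⟨R, s, tf, sq⟩ := hφ.1 φ
  obtain ⟨t, rfl⟩ := (yon S).map_surjective tf
  have hs : QuasiCompact s.left := quasiCompact_rel hqs sq
  have ht : QuasiCompact t.left := quasiCompact_rel hqs sq.flip
  have hcpt : ∀ m, IsCompact (Points.ofPt φ ⁻¹' distImage φ m) := fun m => by
    obtain ⟨W, hqc⟩ := exists_distScheme hφ m
    have := hqc R s t sq hs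
    have : CompactSpace W.obj.left := QuasiCompact.compactSpace_of_compactSpace (W.π 0).left
    have := W.etale
    have hO : IsOpen (Set.range (W.π 0).left) := (W.π 0).left.isOpenMap.isOpen_range
    have hOc : IsCompact (Set.range (W.π 0).left) := isCompact_range (W.π 0).left.continuous
    have e : Points.ofPt φ ⁻¹' distImage φ m = s.left '' (t.left ⁻¹' Set.range (W.π 0).left) := by
      rw [distImage_eq_range hφ W]
      ext u
      constructor
      · rintro ⟨w, hw⟩
        rw [ofPt_map_comp] at hw
        obtain ⟨r, hr, hr'⟩ := exists_rel_of_ofPt_eq sq hw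
        exact ⟨r, ⟨w, hr.symm⟩, hr'⟩
      · rintro ⟨r, ⟨w, hw⟩, rfl⟩
        exact ⟨w, by rw [ofPt_map_comp, hw, ofPt_rel sq]⟩
    rw [e]
    exact (QuasiCompact.isCompact_preimage (f := t.left) _ hO hOc).image s.left.continuous
  let C : ℕ → Set (WithConstructibleTopology U.left) := fun m =>
    WithTopology.ofTopology ⁻¹' (Points.ofPt φ ⁻¹' distImage φ m)
  have hC : ∀ m, IsClosed (C m) := fun m => by
    rw [← isOpen_compl_iff, WithConstructibleTopology.isOpen_iff]
    refine IsCompact.isOpen_constructibleTopology_of_isClosed ?_ ?_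
    · simpa [C, Set.preimage_preimage] using hcpt m
    · simpa [C, Set.preimage_preimage] using
        (isOpen_distImage hφ m).preimage (Points.continuous_ofPt φ)
  have hanti : ∀ m, C (m + 1) ⊆ C m := fun m =>
    Set.preimage_mono (Set.preimage_mono (distImage_succ_subset m))
  have hempty : ⋂ m, C m = ∅ := Set.eq_empty_of_forall_notMem fun u hu => by
    obtain ⟨p, hp, -, hpq⟩ := isDecent_of_isQuasiSeparatedSp hX hqs (Points.ofPt φ u.ofTopology)
    obtain ⟨m, hm⟩ := exists_notMem_distImage hφ p hpq
    exact hm (hp ▸ Set.mem_iInter.1 hu m)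
  by_contra hne
  push Not at hne
  have hCne : ∀ m, (C m).Nonempty := fun m => by
    obtain ⟨x, hx⟩ := hne m
    obtain ⟨u, rfl⟩ := surjective_ofPt hφs x
    exact ⟨WithTopology.toTopology _ u, hx⟩
  exact (IsCompact.nonempty_iInter_of_sequence_nonempty_isCompact_isClosed C hanti hCne
    (hC 0).isCompact hC).ne_empty hempty

end Groth.Agent.AlgSpDecent
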