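import Groth.Agent.Lib.AlgSpDecent.DistTuples
import Groth.Agent.Lib.AlgSpace.Quot
import Groth.Agent.Lib.AlgSpace.PieceLocal
import Groth.Agent.Lib.AlgSpace.LocP
import Groth.Agent.Lib.AlgSpace.Glue
import Groth.Agent.Lib.H12.SepDesc
import Groth.Agent.Lib.FibreTop.FiniteFactor
import Mathlib.AlgebraicGeometry.QuasiAffine

/-!
# Unordered tuples of pairwise distinct points of an affine etale chart

The scheme of `n + 1` element sets of points of an affine etale chart over a point: the quotient of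
the scheme of nowhere agreeing tuples by permutations.
-/

universe u

set_option backward.isDefEq.respectTransparency.types false

open CategoryTheory CategoryTheory.Limits AlgebraicGeometry AlgSp Topology
open Groth.Agent.AlgSpace

namespace Groth.Agent.AlgSpDecent

/-- Finitely many points of a scheme with a separated quasi-finite map to an affine scheme lie in an
affine open. -/
theorem exists_isAffineOpen_of_finite {W A : Scheme.{u}} [IsAffine A] (j : W ⟶ A)
    [LocallyQuasiFinite j] [LocallyOfFiniteType j] [IsSeparated j] {F : Set W} (hF : F.Finite) :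
    ∃ O : W.Opens, IsAffineOpen O ∧ F ⊆ O := by
  choose Q hQ hwQ _ using fun w : W =>
    exists_isAffineOpen_mem_and_subset (X := W) (x := w) (U := ⊤) trivial
  let C : W.Opens := ⨆ w : F, Q w.1
  have := hF.to_subtype
  have hCc : IsCompact (C : Set W) := by
    rw [TopologicalSpace.Opens.coe_iSup]
    exact isCompact_iUnion fun w => (hQ _).isCompact
  have : CompactSpace C.toScheme := isCompact_iff_compactSpace.1 hCc
  let g := C.ι ≫ j
  have : QuasiCompact g := (quasiCompact_iff_compactSpace _).2 ‹_›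
  obtain ⟨Z, i, π, hi, hπ, -, -⟩ := FibreTop.exists_immersion_finite g
  have : IsAffine Z := isAffine_of_isAffineHom π
  have : Scheme.IsQuasiAffine C.toScheme := Scheme.IsQuasiAffine.of_isImmersion i
  let ε := C.toScheme.toSpecΓ
  let Z₀ : Set (Spec Γ(C.toScheme, ⊤)) := (ε.opensRange : Set _)ᶜ
  obtain ⟨I, hI⟩ := (PrimeSpectrum.isClosed_iff_zeroLocus_ideal Z₀).1 ε.opensRange.isOpen.isClosed_compl
  have hFC : ∀ w ∈ F, w ∈ C := fun w hw =>
    TopologicalSpace.Opens.mem_iSup.2 ⟨⟨w, hw⟩, hwQ w⟩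
  have := Fintype.ofFinite F
  let P : F → PrimeSpectrum Γ(C.toScheme, ⊤) := fun w => ε ⟨w.1, hFC w.1 w.2⟩
  obtain ⟨f, hfI, hf⟩ : ∃ f ∈ I, ∀ w, f ∉ (P w).asIdeal := by
    by_contra hc
    push Not at hc
    have hsub : (I : Set Γ(C.toScheme, ⊤)) ⊆ ⋃ w ∈ (↑(Finset.univ : Finset F) : Set F), ((P w).asIdeal : Set _) :=
      fun f hf => by
        obtain ⟨w, hw⟩ := hc f hf
        exact Set.mem_biUnion (Finset.mem_coe.2 (Finset.mem_univ w)) hw
    by_cases hne : Nonempty F
    · obtain ⟨w₀⟩ := hne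
      obtain ⟨w, -, hw⟩ := (Ideal.subset_union_prime (f := fun w => (P w).asIdeal) w₀ w₀
        fun w _ _ _ => (P w).isPrime).1 hsub
      have h1 : P w ∈ Z₀ := hI.ge hw
      exact h1 ⟨⟨w.1, hFC w.1 w.2⟩, rfl⟩
    · obtain ⟨w, -⟩ := hc 0 I.zero_mem
      exact hne ⟨w⟩
  let D : (Spec Γ(C.toScheme, ⊤)).Opens := PrimeSpectrum.basicOpen f
  have hD : IsAffineOpen D := IsAffineOpen.Spec_basicOpen f
  have hDr : D ≤ ε.opensRange := fun p hp => by
    by_contra h
    exact hp (hI.le h hfI)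
  refine ⟨C.ι ''ᵁ (ε ⁻¹ᵁ D), (hD.preimage_of_isOpenImmersion ε hDr).image_of_isOpenImmersion C.ι,
    fun w hw => ⟨⟨w, hFC w hw⟩, hf ⟨w, hw⟩, rfl⟩⟩

variable {S : Scheme.{u}} {X : Sp S} {U : Over S} {φ : (yon S).obj U ⟶ X}

theorem TupScheme.isSeparated_obj [U.left.IsSeparated] {n : ℕ} (W : DistScheme φ n) :
    W.obj.left.IsSeparated := by
  have := W.sep
  refine ⟨?_⟩
  rw [show terminal.from W.obj.left = (W.π 0).left ≫ terminal.from U.left from Subsingleton.elim _ _]
  infer_instance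

/-- The quotient of nowhere agreeing tuples by permutations, with its quotient map: tuples with the same
entries up to order have the same image. -/
theorem exists_symPower_quot [IsAffine U.left] (hX : IsAlgSpace X) (hφ : RepWith @Etale φ) (n : ℕ) :
    ∃ (V : Over S) (v : (yon S).obj V ⟶ X), V.left.IsSeparated ∧ RepWith @Etale v ∧
      Set.range (Points.ofPt v) = distImage φ n ∧
      ((∀ R : Over S, ∀ s t : R ⟶ U, IsPullback ((yon S).map t) ((yon S).map s) φ φ →
        QuasiCompact s.left) → CompactSpace V.left) ∧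
      (∀ ⦃T : Over S⦄ (x y : T ⟶ V), (yon S).map x ≫ v = (yon S).map y ≫ v →
        (∀ τ, Points.ofPt ((yon S).map x ≫ v) τ ∉ distImage φ (n + 1)) → x = y) ∧
      ∃ (W : DistScheme φ n) (q : W.obj ⟶ V), (yon S).map q ≫ v = (yon S).map (W.π 0) ≫ φ ∧
        ∀ ⦃T : Over S⦄ (a b : T ⟶ W.obj),
          (yon S).map (a ≫ W.π 0) ≫ φ = (yon S).map (b ≫ W.π 0) ≫ φ →
          (∀ τ j, ∃ i, τ ∈ agree (a ≫ W.π i) (b ≫ W.π j)) → a ≫ q = b ≫ q := by
  classical
  obtain ⟨W, hqc⟩ := exists_distScheme hφ n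
  have hWsep : W.obj.left.IsSeparated := TupScheme.isSeparated_obj W
  let a₀ := (yon S).map (W.π 0) ≫ φ
  have ha₀ : RepWith @Etale a₀ := repWith_etale_dist hφ W
  obtain ⟨RX, s, tf, sq⟩ := ha₀.1 a₀
  obtain ⟨t, rfl⟩ := (yon S).map_surjective tf
  let Op : RX.left.Opens := ⟨⋂ j, ⋃ i, agree (t ≫ W.π i) (s ≫ W.π j),
    isOpen_iInter_of_finite fun j => isOpen_iUnion fun i => isOpen_agree _ _⟩
  let RW : Over S := restr RX Op
  let ι : RW ⟶ RX := restrι RX Op
  have : IsOpenImmersion ι.left := inferInstanceAs (IsOpenImmersion Op.ι)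
  have : Mono ι := (Over.forget S).mono_of_mono_map (inferInstanceAs (Mono Op.ι))
  let s' : RW ⟶ W.obj := ι ≫ s
  let t' : RW ⟶ W.obj := ι ≫ t
  have hcomm : ∀ {T : Over S} (r : T ⟶ RX),
      (yon S).map (r ≫ t) ≫ a₀ = (yon S).map (r ≫ s) ≫ a₀ := fun r => by
    rw [Functor.map_comp, Functor.map_comp, Category.assoc, Category.assoc, sq.w]
  have htup : ∀ i j, (yon S).map (t ≫ W.π i) ≫ φ = (yon S).map (s ≫ W.π j) ≫ φ := fun i j => by
    rw [Functor.map_comp, Functor.map_comp, Category.assoc, Category.assoc, W.tup i, W.tup j, sq.w]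
  have hagree : ∀ {T : Over S} (r : T ⟶ RX) (τ : T.left) (i j : Fin (n + 1)),
      τ ∈ agree (r ≫ t ≫ W.π i) (r ≫ s ≫ W.π j) ↔ r.left τ ∈ agree (t ≫ W.π i) (s ≫ W.π j) :=
    fun r τ i j => by rw [agree_comp hφ (htup i j) r]; rfl
  -- the relation on points with values in a scheme
  have hrel : ∀ {T : Over S} (a b : T ⟶ W.obj), (∃ r : T ⟶ RW, r ≫ t' = a ∧ r ≫ s' = b) ↔
      ((yon S).map a ≫ a₀ = (yon S).map b ≫ a₀ ∧
        ∀ τ j, ∃ i, τ ∈ agree (a ≫ W.π i) (b ≫ W.π j)) := fun {T} a b => by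
    constructor
    · rintro ⟨r, rfl, rfl⟩
      refine ⟨?_, fun τ j => ?_⟩
      · simp only [t', s', ← Category.assoc r ι]
        exact hcomm _
      · obtain ⟨i, hi⟩ := Set.mem_iUnion.1 (Set.mem_iInter.1 (r.left τ).2 j)
        refine ⟨i, ?_⟩
        simp only [t', s', Category.assoc]
        have := (hagree (r ≫ ι) τ i j).2 hi
        simpa only [Category.assoc] using this
    · rintro ⟨e, h⟩
      obtain ⟨r, hr⟩ := (yon S).map_surjective (sq.lift ((yon S).map a) ((yon S).map b) e)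
      have h1 : r ≫ t = a := (yon S).map_injective (by rw [Functor.map_comp, hr, sq.lift_fst])
      have h2 : r ≫ s = b := (yon S).map_injective (by rw [Functor.map_comp, hr, sq.lift_snd])
      subst h1 h2
      have hrange : Set.range r.left ⊆ Set.range ι.left := by
        rintro _ ⟨τ, rfl⟩
        show r.left τ ∈ Set.range Op.ι
        rw [Op.range_ι]
        refine Set.mem_iInter.2 fun j => Set.mem_iUnion.2 ?_
        obtain ⟨i, hi⟩ := h τ j
        simp only [Category.assoc] at hi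
        exact ⟨i, (hagree r τ i j).1 hi⟩
      let r' : T ⟶ RW := Over.homMk (IsOpenImmersion.lift ι.left r.left hrange) (by
        change _ ≫ ι.left ≫ RX.hom = _
        rw [IsOpenImmersion.lift_fac_assoc, Over.w r])
      have : r' ≫ ι = r := Over.OverMorphism.ext (IsOpenImmersion.lift_fac _ _ _)
      exact ⟨r', by simp only [t', ← Category.assoc, this], by simp only [s', ← Category.assoc, this]⟩
  have hdist : ∀ {T : Over S} (a : T ⟶ W.obj) τ, DistAt (fun i => a ≫ W.π i) τ :=
    fun a τ => (distAt_comp hφ W.tup a τ).2 (W.dist _)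
  -- matching coordinates at a point is bijective
  have hperm : ∀ {T : Over S} (a b : T ⟶ W.obj) (τ : T.left),
      (∀ j, ∃ i, τ ∈ agree (a ≫ W.π i) (b ≫ W.π j)) →
      ∃ σ : Equiv.Perm (Fin (n + 1)), ∀ j, τ ∈ agree (a ≫ W.π (σ j)) (b ≫ W.π j) := by
    intro T a b τ h
    choose σ hσ using h
    have : Function.Injective σ := fun j j' e => (hdist b τ).inj
      (agree_trans (agree_symm (hσ j)) (e ▸ hσ j'))
    exact ⟨Equiv.ofBijective σ (Finite.injective_iff_bijective.1 this), hσ⟩
  have hinj : ∀ (T : Over S) (r r' : T ⟶ RW), r ≫ t' = r' ≫ t' → r ≫ s' = r' ≫ s' → r = r' :=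
    fun T r r' h1 h2 => (cancel_mono ι).1 ((yon S).map_injective (sq.hom_ext
      (by simp only [← Functor.map_comp, Category.assoc]; exact congrArg _ h1)
      (by simp only [← Functor.map_comp, Category.assoc]; exact congrArg _ h2)))
  have heqv : IsEqvRel s' t' := by
    refine ⟨hinj, fun T => ⟨fun a => (hrel a a).2 ⟨rfl, fun τ j => ⟨j, agree_refl _ τ⟩⟩,
      fun {a b} h => ?_, fun {a b c} h h' => ?_⟩⟩
    · obtain ⟨e, h⟩ := (hrel a b).1 h
      refine (hrel b a).2 ⟨e.symm, fun τ i => ?_⟩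
      obtain ⟨σ, hσ⟩ := hperm a b τ (h τ)
      exact ⟨σ.symm i, agree_symm (by simpa using hσ (σ.symm i))⟩
    · obtain ⟨e, h⟩ := (hrel a b).1 h
      obtain ⟨e', h'⟩ := (hrel b c).1 h'
      refine (hrel a c).2 ⟨e.trans e', fun τ k => ?_⟩
      obtain ⟨j, hj⟩ := h' τ k
      obtain ⟨i, hi⟩ := h τ j
      exact ⟨i, agree_trans hi hj⟩
  -- the quotient
  obtain ⟨w, ⟨hc⟩⟩ := nonempty_isColimit_quot s' t'
  let q := (QuotSh.repIsoUliftYoneda Scheme.fppfPrecoverage W.obj).inv ≫
    QuotSh.quotπ Scheme.fppfPrecoverage s' t'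
  have : Sheaf.IsLocallySurjective q := isLocallySurjective_quotπ s' t'
  have sqW := isPullback_of_isEqvRel heqv w hc
  have : Etale s.left := ha₀.2 a₀ _ _ sq
  have : Etale t.left := ha₀.2 a₀ _ _ sq.flip
  have hs'e : Etale s'.left := inferInstanceAs (Etale (Op.ι ≫ s.left))
  have ht'e : Etale t'.left := inferInstanceAs (Etale (Op.ι ≫ t.left))
  obtain ⟨hQalg, hqe, hqs⟩ := isAlgSpace_of_etale_kernelPair sqW ht'e hs'e
  obtain ⟨v, hv : q ≫ v = a₀⟩ := Cofork.IsColimit.desc' hc a₀ (by
    simp only [s', t', Functor.map_comp, Category.assoc, sq.w])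
  -- permutations act
  have hact : ∀ σ : Equiv.Perm (Fin (n + 1)), ∃ g : W.obj ⟶ W.obj, ∀ i, g ≫ W.π i = W.π (σ i) :=
    fun σ => W.lift (fun i => W.π (σ i)) (fun i => W.tup.eq _ _)
      fun τ i j hij => W.dist τ _ _ fun e => hij (σ.injective e)
  choose act hact using hact
  have hact_mul : ∀ σ τ, act σ ≫ act τ = act (σ * τ) := fun σ τ => W.ext _ _ fun i => by
    simp [Category.assoc, hact]
  have hact_one : act 1 = 𝟙 _ := W.ext _ _ fun i => by simp [hact]
  have : ∀ σ, IsIso (act σ) := fun σ =>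
    ⟨⟨act σ⁻¹, by rw [hact_mul, mul_inv_cancel, hact_one], by rw [hact_mul, inv_mul_cancel, hact_one]⟩⟩
  have hρ : ∀ σ, ∃ r : W.obj ⟶ RW, r ≫ t' = act σ ∧ r ≫ s' = 𝟙 _ := fun σ =>
    (hrel _ _).2 ⟨by
      show (yon S).map (act σ) ≫ (yon S).map (W.π 0) ≫ φ = (yon S).map (𝟙 _) ≫ (yon S).map (W.π 0) ≫ φ
      rw [← Functor.map_comp_assoc, hact, (yon S).map_id, Category.id_comp]
      exact W.tup _, fun τ j => ⟨σ.symm j, by simp [hact, agree_refl]⟩⟩
  choose ρ hρt hρs using hρ
  have hρsurj : ∀ r : RW.left, ∃ σ, (ρ σ).left (s'.left r) = r := fun r => by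
    obtain ⟨e, h⟩ := (hrel t' s').1 ⟨𝟙 _, Category.id_comp _, Category.id_comp _⟩
    obtain ⟨σ, hσ⟩ := hperm t' s' r (h r)
    choose O hO using fun j => hσ j
    let Q : RW.left.Opens := ⟨⋂ j, (O j : Set RW.left), isOpen_iInter_of_finite fun j => (O j).isOpen⟩
    have hrQ : r ∈ Q := Set.mem_iInter.2 fun j => (hO j).1
    refine ⟨σ.symm, ?_⟩
    have heq : restrι RW Q ≫ s' ≫ ρ σ.symm = restrι RW Q := by
      refine hinj _ _ _ (W.ext _ _ fun i => ?_) ?_
      · simp only [Category.assoc, hρt, hact]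
        have := comp_eq_of_subset_agree (a := t' ≫ W.π (σ (σ.symm i))) (b := s' ≫ W.π (σ.symm i)) Q
          fun x hx => ⟨O (σ.symm i), Set.mem_iInter.1 hx _, (hO _).2⟩
        rw [Equiv.apply_symm_apply] at this
        exact this.symm
      · simp only [Category.assoc, hρs, Category.comp_id]
    exact congrArg (fun k : restr RW Q ⟶ RW => k.left ⟨r, hrQ⟩) heq
  have hs'sep : IsSeparated s'.left := isSeparated_rel sqW
  have hs'qf : LocallyQuasiFinite s'.left := locallyQuasiFinite_of_etale s'.left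
  have hρo : ∀ σ, IsOpenImmersion (ρ σ).left := fun σ => by
    have h : (ρ σ).left ≫ s'.left = 𝟙 _ := congrArg CommaMorphism.left (hρs σ)
    have : IsSplitMono (ρ σ).left := ⟨⟨⟨s'.left, h⟩⟩⟩
    have : Etale ((ρ σ).left ≫ s'.left) := by rw [h]; infer_instance
    have : Etale (ρ σ).left := Etale.of_comp (ρ σ).left s'.left
    exact IsOpenImmersion.of_flat_of_mono (ρ σ).left
  have hfin : IsFinite s'.left := by
    let Vp : Equiv.Perm (Fin (n + 1)) → RW.left.Opens := fun σ =>
      haveI := hρo σ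
      (ρ σ).left.opensRange
    have key : ∀ F : Finset (Equiv.Perm (Fin (n + 1))), IsFinite ((F.sup Vp).ι ≫ s'.left) := fun F => by
      induction F using Finset.induction_on with
      | empty =>
        have : IsEmpty (⊥ : RW.left.Opens) := ⟨fun x => x.2⟩
        rw [Finset.sup_empty]; infer_instance
      | insert σ F _ ih =>
        rw [Finset.sup_insert]
        haveI := hρo σ
        have : IsFinite ((Vp σ).ι ≫ s'.left) := by
          rw [← MorphismProperty.cancel_left_of_respectsIso @IsFinite (ρ σ).left.isoOpensRange.hom,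
            Scheme.Hom.isoOpensRange_hom_ι_assoc, ← Over.comp_left, hρs]
          exact inferInstanceAs (IsFinite (𝟙 _))
        exact AlgSpace.PieceLocal.isFinite_sup _ _ _
    have htop : Finset.univ.sup Vp = ⊤ := top_le_iff.1 fun r _ => by
      obtain ⟨σ, hσ⟩ := hρsurj r
      exact Finset.le_sup (f := Vp) (Finset.mem_univ σ) ⟨_, hσ⟩
    have := key Finset.univ
    rw [htop] at this
    exact (MorphismProperty.cancel_left_of_respectsIso @IsFinite RW.left.topIso.hom s'.left).1 this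
  -- affine invariant opens
  let Pr : Scheme.{u} := limit (Discrete.functor fun _ : Fin (n + 1) => U.left)
  have : ∀ i, IsAffine ((Discrete.functor fun _ : Fin (n + 1) => U.left).obj i) :=
    fun _ => inferInstanceAs (IsAffine U.left)
  have : IsAffine Pr := Scheme.isAffine_of_isLimit _ (limit.isLimit _)
  let jA : W.obj.left ⟶ Pr :=
    limit.lift _ (Fan.mk W.obj.left fun i => (W.π i).left : Cone (Discrete.functor fun _ => U.left))
  have hjA : ∀ i, jA ≫ limit.π _ ⟨i⟩ = (W.π i).left := fun i => limit.lift_π _ _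
  have : Mono jA := ⟨fun {T} a b e => by
    have hc : ∀ i, a ≫ (W.π i).left = b ≫ (W.π i).left := fun i => by
      rw [← hjA, reassoc_of% e]
    have hb : b ≫ W.obj.hom = a ≫ W.obj.hom := by rw [← Over.w (W.π 0), reassoc_of% hc 0]
    exact congrArg (fun k => k.left) (W.ext (Over.homMk a rfl : Over.mk (a ≫ W.obj.hom) ⟶ W.obj)
      (Over.homMk b hb) fun i => Over.OverMorphism.ext (hc i))⟩
  have : LocallyOfFiniteType jA := by
    have := W.etale
    have : LocallyOfFiniteType (jA ≫ limit.π (Discrete.functor fun _ => U.left) ⟨0⟩) := by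
      rw [hjA]; infer_instance
    exact locallyOfFiniteType_of_comp jA (limit.π (Discrete.functor fun _ => U.left) ⟨0⟩)
  have : LocallyQuasiFinite jA := .of_injective jA.injective
  have hcover : ∀ w₀ : W.obj.left, ∃ (Y : Over S) (g : (yon S).obj Y ⟶ _),
      RepWith @IsOpenImmersion g ∧ Points.ofPt q w₀ ∈ Set.range (Points.map g) := fun w₀ => by
    have horb : (Points.ofPt q ⁻¹' {Points.ofPt q w₀}).Finite := by
      refine ((s'.left.finite_preimage (Set.finite_singleton w₀)).image t'.left).subset fun w' hw' => ?_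
      obtain ⟨r, hr, hr'⟩ := exists_rel_of_ofPt_eq sqW hw'
      exact ⟨r, hr', hr⟩
    obtain ⟨O, hO, hOsub⟩ := exists_isAffineOpen_of_finite jA horb
    let O' : W.obj.left.Opens := ⨅ σ, (act σ).left ⁻¹ᵁ O
    have hmem : ∀ w, w ∈ O' ↔ ∀ σ, (act σ).left w ∈ O := fun w => by
      simp [O', ← SetLike.mem_coe, TopologicalSpace.Opens.coe_iInf]
    have hO' : IsAffineOpen O' := IsAffineOpen.iInf fun σ =>
      have : IsIso (act σ).left := inferInstanceAs (IsIso ((Over.forget S).map (act σ)))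
      hO.preimage (act σ).left
    have hinv : ∀ w w', Points.ofPt q w' = Points.ofPt q w → w ∈ O' → w' ∈ O' := fun w w' e hw => by
      obtain ⟨r, hr, hr'⟩ := exists_rel_of_ofPt_eq sqW e
      obtain ⟨σ, hσ⟩ := hρsurj r
      rw [← hσ, hr', ← Scheme.Hom.comp_apply, ← Over.comp_left, hρt] at hr
      refine (hmem w').2 fun τ => ?_
      rw [← hr, ← Scheme.Hom.comp_apply, ← Over.comp_left, hact_mul]
      exact (hmem w).1 hw _
    have hw₀ : w₀ ∈ O' := (hmem w₀).2 fun σ => hOsub (by
      show Points.ofPt q ((act σ).left w₀) = Points.ofPt q w₀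
      have h1 := ofPt_rel sqW ((ρ σ).left w₀)
      rw [← Scheme.Hom.comp_apply, ← Over.comp_left, hρt, ← Scheme.Hom.comp_apply, ← Over.comp_left,
        hρs] at h1
      exact h1)
    have : IsFinite (s'.left ∣_ O') := IsZariskiLocalAtTarget.restrict (P := @IsFinite) hfin O'
    obtain ⟨Y, -, ⟨e⟩⟩ := exists_affine_iso_openSub_of_invariant hqe sqW O' hO' hinv
    refine ⟨Y, e.hom ≫ openSubι _, repWith_comp
      (MorphismProperty.of_isIso (RepWith (S := S) @IsOpenImmersion) e.hom)
      (repWith_openSubι (isOpenMap_ofPt q hqe _ O'.isOpen)), ?_⟩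
    rw [map_comp_eq, Set.range_comp, (bijective_map_iso e.hom).2.range_eq, Set.image_univ,
      range_openSubι]
    exact ⟨w₀, hw₀, rfl⟩
  choose Y g hg hgw using hcover
  obtain ⟨V, ⟨eV⟩⟩ := exists_iso_yon_of_openCover hg fun T gT τ => by
    obtain ⟨w₀, hw₀⟩ := surjective_ofPt hqs (Points.ofPt gT τ)
    obtain ⟨z, hz⟩ : Points.ofPt gT τ ∈ Set.range (Points.map (g w₀)) := hw₀ ▸ hgw w₀
    obtain ⟨z', -, hz'⟩ := exists_pt_of_isPullback ((hg w₀).1.isPullback gT) hz
    exact ⟨w₀, z', hz'⟩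
  obtain ⟨q₀, hq₀⟩ := (yon S).map_surjective (q ≫ eV.inv)
  let v₀ := eV.hom ≫ v
  have hqv : (yon S).map q₀ ≫ v₀ = a₀ := by
    rw [hq₀, Category.assoc, Iso.inv_hom_id_assoc, hv]
  have hq₀e : Etale q₀.left := (repWith_yon_map_iff _ _).1 (by
    rw [hq₀]; exact repWith_comp hqe (MorphismProperty.of_isIso (RepWith (S := S) @Etale) eV.inv))
  have hq₀s : Surjective q₀.left := (repWith_yon_map_iff _ _).1 (by
    rw [hq₀]; exact repWith_comp hqs (MorphismProperty.of_isIso (RepWith (S := S) @Surjective) eV.inv))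
  have hq₀f : IsFinite q₀.left := (repWith_yon_map_iff _ _).1 (by
    rw [hq₀]
    have := FpqcDesc.descendsAlong_isFinite.{u}
    have := isLocalAtTarget_fppf (@IsFinite : MorphismProperty Scheme.{u})
    exact repWith_comp (repWith_of_locallySurjective hqe.1 sqW _ ((repWith_yon_map_iff _ _).2 hfin))
      (MorphismProperty.of_isIso (RepWith (S := S) @IsFinite) eV.inv))
  have hv₀ : RepWith @Etale v₀ := repWith_of_locP hX (hX.representable_from_yon v₀)
    (locP_of_source_cover hX ((repWith_yon_map_iff _ _).2 hq₀e) ((repWith_yon_map_iff _ _).2 hq₀s)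
      (hqv.symm ▸ locP_of_repWith hX ha₀))
  have htq₀ : t' ≫ q₀ = s' ≫ q₀ := (yon S).map_injective (by
    rw [(yon S).map_comp t' q₀, (yon S).map_comp s' q₀, hq₀]
    exact sqW.w_assoc eV.inv)
  refine ⟨V, v₀, ⟨?_⟩, hv₀, ?_, fun h => ?_, fun T x y exy hn => ?_, W, q₀, hqv, fun T a b e h => ?_⟩
  · exact H12.isSeparated_of_surjective_universallyClosed (terminal.from W.obj.left) _ q₀.left
      (Subsingleton.elim _ _)
  · rw [distImage_eq_range hφ W]
    refine Set.Subset.antisymm ?_ ?_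
    · rintro _ ⟨z, rfl⟩
      obtain ⟨w, rfl⟩ := q₀.left.surjective z
      exact ⟨w, by rw [← ofPt_map_comp, hqv]⟩
    · rintro _ ⟨w, rfl⟩
      exact ⟨q₀.left w, by rw [← ofPt_map_comp, hqv]⟩
  · obtain ⟨R₀, s₀, tf₀, sq₀⟩ := hφ.1 φ
    obtain ⟨t₀, rfl⟩ := (yon S).map_surjective tf₀
    have := hqc R₀ s₀ t₀ sq₀ (h R₀ s₀ t₀ sq₀)
    have : CompactSpace W.obj.left := QuasiCompact.compactSpace_of_compactSpace (W.π 0).left
    exact q₀.left.surjective.compactSpace q₀.left.continuous
  · -- two points over the same point of `X` outside the next stratum agree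
    let T₁ := Limits.pullback q₀ x
    let T₂ := Limits.pullback q₀ (pullback.snd q₀ x ≫ y)
    let c : T₂ ⟶ T := pullback.snd _ _ ≫ pullback.snd q₀ x
    let a : T₂ ⟶ W.obj := pullback.snd _ _ ≫ pullback.fst q₀ x
    let b : T₂ ⟶ W.obj := pullback.fst q₀ (pullback.snd q₀ x ≫ y)
    have hax : a ≫ q₀ = c ≫ x := by
      simp only [a, c, Category.assoc, pullback.condition]
    have hby : b ≫ q₀ = c ≫ y := by
      simp only [b, c, Category.assoc, pullback.condition]
    have e1 : Etale (pullback.snd q₀ x).left := MorphismProperty.of_isPullback (P := @Etale)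
      ((IsPullback.of_hasPullback q₀ x).map (Over.forget S)) hq₀e
    have e2 : Etale (pullback.snd q₀ (pullback.snd q₀ x ≫ y)).left :=
      MorphismProperty.of_isPullback (P := @Etale)
        ((IsPullback.of_hasPullback q₀ (pullback.snd q₀ x ≫ y)).map (Over.forget S)) hq₀e
    have s1 : Surjective (pullback.snd q₀ x).left := MorphismProperty.of_isPullback (P := @Surjective)
      ((IsPullback.of_hasPullback q₀ x).map (Over.forget S)) hq₀s
    have s2 : Surjective (pullback.snd q₀ (pullback.snd q₀ x ≫ y)).left :=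
      MorphismProperty.of_isPullback (P := @Surjective)
        ((IsPullback.of_hasPullback q₀ (pullback.snd q₀ x ≫ y)).map (Over.forget S)) hq₀s
    have hce : Etale c.left := inferInstanceAs (Etale (_ ≫ _))
    have hcs : Surjective c.left := inferInstanceAs (Surjective (_ ≫ _))
    have := isLocallySurjective_of_etale (a := (yon S).map c) ((repWith_yon_map_iff _ _).2 hce)
      ((repWith_yon_map_iff _ _).2 hcs)
    have : Epi ((yon S).map c) := inferInstance
    apply (yon S).map_injective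
    rw [← cancel_epi ((yon S).map c), ← Functor.map_comp, ← Functor.map_comp, ← hax, ← hby]
    have hac : (yon S).map a ≫ a₀ = (yon S).map c ≫ (yon S).map x ≫ v₀ := by
      rw [← hqv, ← Functor.map_comp_assoc, hax, Functor.map_comp, Category.assoc]
    have hbc : (yon S).map b ≫ a₀ = (yon S).map c ≫ (yon S).map y ≫ v₀ := by
      rw [← hqv, ← Functor.map_comp_assoc, hby, Functor.map_comp, Category.assoc]
    have hab : (yon S).map a ≫ a₀ = (yon S).map b ≫ a₀ := by rw [hac, hbc, exy]
    obtain ⟨r, hr₁, hr₂⟩ := (hrel a b).2 ⟨hab, fun τ j => by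
      refine exists_agree (a := fun i => a ≫ W.π i) (W.tup.comp a) (hdist a τ) ?_ ?_
      · rw [Functor.map_comp, Category.assoc]
        erw [hac]
        rw [ofPt_map_comp]
        exact hn _
      · rw [Functor.map_comp, Functor.map_comp, Category.assoc, Category.assoc, W.tup j]
        exact hab.symm⟩
    have htq : (yon S).map (t' ≫ q₀) = (yon S).map (s' ≫ q₀) := by
      rw [(yon S).map_comp t' q₀, (yon S).map_comp s' q₀, hq₀]
      exact sqW.w_assoc eV.inv
    rw [← hr₁, ← hr₂]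
    simp only [Functor.map_comp, Category.assoc] at htq ⊢
    rw [htq]
  · obtain ⟨r, hr₁, hr₂⟩ := (hrel a b).2 ⟨by
      simp only [a₀, ← Functor.map_comp_assoc]; exact e, h⟩
    rw [← hr₁, ← hr₂, Category.assoc r t', Category.assoc r s', htq₀]

/-- The quotient of nowhere agreeing tuples by permutations. -/
theorem exists_symPower [IsAffine U.left] (hX : IsAlgSpace X) (hφ : RepWith @Etale φ) (n : ℕ) :
    ∃ (V : Over S) (v : (yon S).obj V ⟶ X), V.left.IsSeparated ∧ RepWith @Etale v ∧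
      Set.range (Points.ofPt v) = distImage φ n ∧
      ((∀ R : Over S, ∀ s t : R ⟶ U, IsPullback ((yon S).map t) ((yon S).map s) φ φ →
        QuasiCompact s.left) → CompactSpace V.left) ∧
      ∀ ⦃T : Over S⦄ (x y : T ⟶ V), (yon S).map x ≫ v = (yon S).map y ≫ v →
        (∀ τ, Points.ofPt ((yon S).map x ≫ v) τ ∉ distImage φ (n + 1)) → x = y := by
  obtain ⟨V, v, h₁, h₂, h₃, h₄, h₅, -⟩ := exists_symPower_quot hX hφ n
  exact ⟨V, v, h₁, h₂, h₃, h₄, h₅⟩

end Groth.Agent.AlgSpDecent
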