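import Groth.Agent.Lib.AlgSpDecent.UnivBdd
import Groth.Agent.Lib.AlgSpDecent.EtaleBdd
import Groth.Agent.Lib.AlgSpace.Points

/-!
# Boundedness of the fibres of étale charts
-/

universe u

set_option backward.isDefEq.respectTransparency.types false

open CategoryTheory CategoryTheory.Limits AlgebraicGeometry AlgSp Opposite
open Groth.Agent.AlgSpace

namespace Groth.Agent.AlgSpDecent

variable {S : Scheme.{u}} {F G : Sp S} {U V W : Over S}

/-- Bounds on the fibres of a morphism of schemes give bounds on the associated map of sheaves. -/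
theorem degFibresLE_map_of_finLE {n : ℕ} {f : V ⟶ U}
    (h : ∀ (L : Type u) [Field L] (y : Spec (CommRingCat.of L) ⟶ U.left),
      FinLE n (pullback.snd f.left y)) : W4dec.DegFibresLE n ((yon S).map f) := by
  intro q T c snd sq
  obtain ⟨y, hy⟩ := (yon S).map_surjective q.toHom
  obtain ⟨s, rfl⟩ := (yon S).map_surjective snd
  rw [← hy] at sq
  have sq' : IsPullback c s y f :=
    IsPullback.of_map (yon S) ((yon S).map_injective (by simpa using sq.w)) sq
  have s2 := (sq'.map (Over.forget S)).flip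
  change FinLE (K := q.K) n c.left
  have he : s2.isoPullback.hom ≫ pullback.snd f.left y.left = c.left := s2.isoPullback_hom_snd
  exact he ▸
    (finLE_iso_comp_iff (K := q.K) s2.isoPullback (pullback.snd f.left y.left)).2 (h q.K y.left)

theorem exists_degFibresLE_map_of_etale (f : V ⟶ U) [IsAffine V.left] [Etale f.left] :
    ∃ n, W4dec.DegFibresLE n ((yon S).map f) := by
  obtain ⟨n, hn⟩ := exists_finLE_of_etale f.left
  exact ⟨n, degFibresLE_map_of_finLE hn⟩

/-- A map factoring through a monomorphism. -/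
theorem degFibresLE_comp_mono {n : ℕ} {a : (yon S).obj U ⟶ G} (h : W4dec.DegFibresLE n a)
    (j : G ⟶ F) [Mono j] : W4dec.DegFibresLE n (a ≫ j) := by
  refine degFibresLE_of_baseChange (g := j) (fst := 𝟙 _) (f' := a) ?_ ?_ h
  · exact IsPullback.of_horiz_isIso_mono ⟨by simp⟩
  · rintro _ ⟨u, rfl⟩
    exact ⟨Points.ofPt a u, Points.map_ofPt _ _ _⟩

/-- Degrees add along a finite covering family of étale charts of a fibre. -/
theorem exists_finLE_cover {ι : Type*} {K : Type u} [Field K] {T : Scheme.{u}}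
    (c : T ⟶ Spec (CommRingCat.of K)) {P : ι → Scheme.{u}} (a : ∀ i, P i ⟶ T)
    [∀ i, Flat (a i)] (d : ι → ℕ) (h : ∀ i, FinLE (d i) (a i ≫ c)) (s : Finset ι) :
    ∃ (Q : Scheme.{u}) (π : Q ⟶ T), Flat π ∧ FinLE (∑ i ∈ s, d i) (π ≫ c) ∧
      ∀ i ∈ s, Set.range (a i) ⊆ Set.range π := by
  classical
  induction s using Finset.induction_on with
  | empty =>
    exact ⟨(⊥ : T.Opens).toScheme, (⊥ : T.Opens).ι, inferInstance,
      by
      have : IsEmpty (⊥ : T.Opens).toScheme := ⟨fun x => x.2⟩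
      exact finLE_zero_of_isEmpty _, by simp⟩
  | @insert i s hi ih =>
    obtain ⟨Q, π, hπ, hQ, hr⟩ := ih
    refine ⟨P i ⨿ Q, coprod.desc (a i) π, ?_, ?_, ?_⟩
    · rw [IsZariskiLocalAtSource.iff_of_openCover (P := @Flat) (Scheme.IsLocallyDirected.openCover _)]
      rintro ⟨_ | _⟩
      · change Flat (coprod.inl ≫ coprod.desc (a i) π); rw [coprod.inl_desc]; infer_instance
      · change Flat (coprod.inr ≫ coprod.desc (a i) π); rw [coprod.inr_desc]; infer_instance
    · rw [Finset.sum_insert hi, coprod.desc_comp]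
      exact finLE_coprod (h i) hQ
    · intro j hj
      rcases Finset.mem_insert.1 hj with rfl | hj
      · rintro _ ⟨x, rfl⟩
        exact ⟨(coprod.inl : _ ⟶ P j ⨿ Q) x, by rw [← Scheme.Hom.comp_apply, coprod.inl_desc]⟩
      · refine (hr j hj).trans ?_
        rintro _ ⟨x, rfl⟩
        exact ⟨(coprod.inr : _ ⟶ P i ⨿ Q) x, by rw [← Scheme.Hom.comp_apply, coprod.inr_desc]⟩

/-- If an algebraic space has an étale covering by charts with bounded fibres, every étale chart
from an affine scheme has bounded fibres. -/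
theorem exists_degFibresLE_of_cover (hF : IsAlgSpace F)
    (hcov : ∀ x : Points F, ∃ (U : Over S) (φ : (yon S).obj U ⟶ F),
      RepWith @Etale φ ∧ x ∈ Set.range (Points.ofPt φ) ∧ ∃ n, W4dec.DegFibresLE n φ)
    [IsAffine V.left] (ψ : (yon S).obj V ⟶ F) (hψ : RepWith @Etale ψ) :
    ∃ n, W4dec.DegFibresLE n ψ := by
  have hloc : ∀ v : V.left, ∃ (U : Over S) (φ : (yon S).obj U ⟶ F) (W : Over S) (a : W ⟶ V)
      (b : W ⟶ U), (∃ n, W4dec.DegFibresLE n φ) ∧ IsAffine W.left ∧ Etale a.left ∧ Etale b.left ∧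
      (yon S).map a ≫ ψ = (yon S).map b ≫ φ ∧ v ∈ Set.range a.left := by
    intro v
    obtain ⟨U, φ, hφ, ⟨u, hu⟩, hn⟩ := hcov (Points.ofPt ψ v)
    obtain ⟨R, b, fb, sq⟩ := hψ.1 φ
    obtain ⟨a, rfl⟩ := (yon S).map_surjective fb
    have : Etale b.left := hψ.2 φ _ _ sq
    have : Etale a.left := hφ.2 ψ _ _ sq.flip
    obtain ⟨w, hw, hw'⟩ := exists_pt_of_isPullback sq (x := Points.ofScheme V v) (t := u)
      (by rw [← Points.ofPt_eq_map_ofScheme]; exact hu.symm)
    rw [ofPt_map_eq] at hw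
    have hwv : a.left w = v := (Points.schemeEquiv V).injective hw
    obtain ⟨O, hO, hwO, -⟩ := exists_isAffineOpen_mem_and_subset (X := R.left) (x := w) (U := ⊤) trivial
    let o : Over.mk (O.ι ≫ R.hom) ⟶ R := Over.homMk O.ι rfl
    have : Etale (o ≫ a).left := by change Etale (O.ι ≫ a.left); infer_instance
    have : Etale (o ≫ b).left := by change Etale (O.ι ≫ b.left); infer_instance
    refine ⟨U, φ, _, o ≫ a, o ≫ b, hn, hO, ‹_›, ‹_›, ?_, ⟨⟨w, hwO⟩, hwv⟩⟩
    simp only [Functor.map_comp, Category.assoc]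
    rw [sq.w]
  choose U φ W a b hn hW ha hb hw hv using hloc
  choose n hn using hn
  choose m hm using fun v =>
    have := hW v
    have := hb v
    exists_degFibresLE_map_of_etale (b v)
  have hcomp : ∀ v, W4dec.DegFibresLE (m v * n v) ((yon S).map (a v) ≫ ψ) := fun v => by
    rw [hw v]
    exact degFibresLE_comp (Functor.relativelyRepresentable.of_diag hF.diag _) (hm v) (hn v)
  have := hψ
  obtain ⟨t, ht⟩ := (CompactSpace.isCompact_univ (X := V.left)).elim_finite_subcover
    (fun v => Set.range (a v).left) (fun v => have := ha v; (a v).left.isOpenMap.isOpen_range)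
    (fun v _ => Set.mem_iUnion.2 ⟨v, hv v⟩)
  refine ⟨∑ v ∈ t, m v * n v, fun q T c snd sq => ?_⟩
  obtain ⟨s, rfl⟩ := (yon S).map_surjective snd
  let P := fun v => pullback (a v) s
  have s1 := fun v => IsPullback.of_hasPullback (a v) s
  have hP : ∀ v, FinLE (K := q.K) (m v * n v) ((pullback.snd (a v) s).left ≫ c.left) := fun v =>
    hcomp v q (pullback (a v) s) (pullback.snd (a v) s ≫ c) ((yon S).map (pullback.fst (a v) s))
      (by rw [Functor.map_comp]; exact ((s1 v).map (yon S)).flip.paste_horiz sq)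
  have hfl : ∀ v, Flat (pullback.snd (a v) s).left := fun v =>
    have : Etale (a v).left := ha v
    MorphismProperty.of_isPullback (P := @Flat) ((s1 v).map (Over.forget S)) (inferInstanceAs (Flat (a v).left))
  obtain ⟨Q, π, hπ, hQ, hr⟩ := exists_finLE_cover (K := q.K) c.left
    (fun v => (pullback.snd (a v) s).left) (fun v => m v * n v) hP t
  have : Surjective π := ⟨fun x => by
    obtain ⟨v, hvt, y, hy⟩ := Set.mem_iUnion₂.1 (ht (Set.mem_univ (s.left x)))
    obtain ⟨z, -, hz⟩ := exists_preimage_of_isPullback ((s1 v).map (Over.forget S)) y x hy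
    exact hr v hvt ⟨z, hz⟩⟩
  exact finLE_of_surjective_flat π hQ
where
  exists_preimage_of_isPullback {P X Y Z : Scheme.{u}} {fst : P ⟶ X} {snd : P ⟶ Y} {f : X ⟶ Z}
      {g : Y ⟶ Z} (sq : IsPullback fst snd f g) (x : X) (y : Y) (h : f x = g y) :
      ∃ z : P, fst z = x ∧ snd z = y := by
    obtain ⟨w, hw1, hw2⟩ := Scheme.Pullback.exists_preimage_pullback x y h
    refine ⟨sq.isoPullback.inv w, ?_, ?_⟩
    · rw [← Scheme.Hom.comp_apply, sq.isoPullback_inv_fst, hw1]
    · rw [← Scheme.Hom.comp_apply, sq.isoPullback_inv_snd, hw2]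

end Groth.Agent.AlgSpDecent
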